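import Cfsg.Agent.Lib.M12Order.Identify
import Cfsg.Agent.Lib.Golay.Small
import Cfsg.Prelude.Def_Spor_Mathieu
import Cfsg.Prelude.Def_Sporadic

/-!
# The Mathieu group of degree twelve is the simple group of order 95040
-/

set_option autoImplicit false

namespace Cfsg.Agent.M12Order.Mathieu

open scoped Pointwise

universe u v

theorem equiv {G : Type u} {K : Type v} [Group G] [Finite G] [Group K] [Finite K] (hG : Cfsg.IsM12 G)
    (hK : Cfsg.IsM12 K) : Nonempty (G ≃* K) := by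
  haveI := hG.1
  haveI := hK.1
  exact Identify.nonempty_equiv hG.2 hK.2

theorem isM12_M12K : Cfsg.IsM12 Golay.Small.M12K := ⟨Golay.Small.isSimple_M12K, Golay.Small.card_M12K⟩

theorem isM12_stabilizer {d : Finset Cfsg.GolayPt} (hd : d ∈ Cfsg.dodecads) :
    Cfsg.IsM12 ↥(MulAction.stabilizer Cfsg.M24 d) := by
  obtain ⟨p, hp⟩ := Finset.card_pos.1 (show 0 < d.card by rw [hd.2]; norm_num)
  obtain ⟨a, ha, had, -⟩ := Golay.Small.exists_conj_dodecad_point hd hp
  have e := Golay.Small.equivOfConj ha Golay.Small.M12K_le (fun g : Cfsg.M24 =>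
    ((Golay.Small.conj_mem_M12K ha had g).trans
      (MulAction.mem_stabilizer_iff (G := Cfsg.M24) (g := g) (a := d)).symm).symm)
  haveI := Golay.Small.isSimple_M12K
  exact ⟨e.symm.isSimpleGroup_congr.mp Golay.Small.isSimple_M12K,
    (Nat.card_congr e.toEquiv.symm).symm.trans Golay.Small.card_M12K⟩

theorem isM12_M12 : Cfsg.IsM12 ↥Cfsg.Spor.M12 := by
  obtain ⟨hs, hc⟩ := isM12_stabilizer (d := Cfsg.Spor.squareDodecad)
    (Cfsg.Agent.Golay.Basic.mem_dodecads_iff.2 (by decide +kernel))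
  let e : ↥(MulAction.stabilizer Cfsg.M24 Cfsg.Spor.squareDodecad) ≃* ↥Cfsg.Spor.M12 :=
    { toFun := fun g => ⟨g.1.1, g.1.2, g.2⟩
      invFun := fun g => ⟨⟨g.1, g.2.1⟩, g.2.2⟩
      left_inv := fun _ => rfl
      right_inv := fun _ => rfl
      map_mul' := fun _ _ => rfl }
  exact ⟨e.isSimpleGroup_congr.mp hs, (Nat.card_congr e.toEquiv).symm.trans hc⟩

end Cfsg.Agent.M12Order.Mathieu
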