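import Cfsg.Agent.Lib.M12Order.Frame
import Cfsg.Agent.Lib.Blocks.GroupAlgebra

/-!
# Simple groups of order 95040: tools for elements of order five and two
-/

set_option autoImplicit false
set_option linter.style.haveILetI false
set_option linter.unusedSectionVars false

namespace Cfsg.Agent.M12Order

open Subgroup MulAction
open Cfsg.Agent.Characters Cfsg.Agent.Blocks Cfsg.Agent.PrimeBlock
open Cfsg.Agent.SmallSimple
open scoped ComplexConjugate

universe u

variable {G : Type u} [Group G] [Finite G]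

noncomputable local instance : Fintype (Cfsg.IrrCharacter G) := Fintype.ofFinite _

/-- The normalizer of a cyclic subgroup normalizes its centralizer. -/
theorem conj_mem_cen {u n : G} (hn : n ∈ normalizer (zpowers u : Set G)) {y : G}
    (hy : y ∈ centralizer ({u} : Set G)) : n * y * n⁻¹ ∈ centralizer ({u} : Set G) := by
  have h1 : n⁻¹ * u * n ∈ zpowers u := (mem_normalizer_iff''.1 hn u).1 (mem_zpowers u)
  obtain ⟨j, hj⟩ := mem_zpowers_iff.1 h1
  have hcy : Commute y (n⁻¹ * u * n) :=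
    hj ▸ (Commute.zpow_right (mem_centralizer_singleton_iff.1 hy) j)
  refine mem_centralizer_singleton_iff.2 ?_
  calc n * y * n⁻¹ * u = n * (y * (n⁻¹ * u * n)) * n⁻¹ := by group
    _ = n * ((n⁻¹ * u * n) * y) * n⁻¹ := by rw [hcy.eq]
    _ = u * (n * y * n⁻¹) := by group

/-- A `p`-group fixes as many points of a subgroup it normalizes as there are, modulo `p`. -/
theorem card_fixed_pgroup {p : ℕ} [Fact p.Prime] {S : Subgroup G} (hS : IsPGroup p S)
    (T : Subgroup G) (hn : S ≤ normalizer (T : Set G)) :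
    Nat.card T % p = Nat.card (T ⊓ centralizer (S : Set G) : Subgroup G) % p := by
  classical
  letI : MulAction S T :=
    { smul := fun a t => ⟨(a : G) * t * (a : G)⁻¹, (mem_normalizer_iff.1 (hn a.2) _).1 t.2⟩
      one_smul := fun t => Subtype.ext (by show ((1 : S) : G) * t * _ = _; simp)
      mul_smul := fun a b t => Subtype.ext (by
        show ((a * b : S) : G) * t * ((a * b : S) : G)⁻¹ =
          (a : G) * ((b : G) * t * (b : G)⁻¹) * (a : G)⁻¹
        simp [mul_assoc]) }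
  have h := hS.card_modEq_card_fixedPoints T
  rw [Nat.ModEq] at h
  rw [h]
  congr 1
  refine Nat.card_congr
    { toFun := fun t => ⟨(t.1 : G), mem_inf.2 ⟨t.1.2, ?_⟩⟩
      invFun := fun t => ⟨⟨(t : G), (mem_inf.1 t.2).1⟩, ?_⟩
      left_inv := fun t => rfl
      right_inv := fun t => rfl }
  · refine mem_centralizer_iff.2 fun a ha => ?_
    have h1 := congrArg Subtype.val (t.2 ⟨a, ha⟩)
    replace h1 : a * (t.1 : G) * a⁻¹ = t.1 := h1
    exact mul_inv_eq_iff_eq_mul.1 h1
  · intro a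
    refine Subtype.ext ?_
    show (a : G) * t * (a : G)⁻¹ = t
    rw [mem_centralizer_iff.1 (mem_inf.1 t.2).2 a a.2, mul_inv_cancel_right]

/-- An involution of `C(u)` centralized by a Sylow 2-subgroup of `N(u)`. -/
theorem exists_central_inv {u : G} (h2 : 2 ∣ cen u) {a : ℕ}
    (ha : 2 ^ a ∣ Nat.card (normalizer (zpowers u : Set G))) :
    ∃ t : G, orderOf t = 2 ∧ Commute u t ∧ ∃ S : Subgroup G, Nat.card S = 2 ^ a ∧
      S ≤ normalizer (zpowers u : Set G) ∧ S ≤ centralizer ({t} : Set G) := by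
  set N := normalizer (zpowers u : Set G)
  obtain ⟨S₀, hS₀⟩ := Sylow.exists_subgroup_card_pow_prime 2 ha
  set S := S₀.map N.subtype with hS
  have hSc : Nat.card S = 2 ^ a := by rw [hS, card_map_of_injective N.subtype_injective, hS₀]
  have hSN : S ≤ N := map_subtype_le _
  have hn : S ≤ normalizer (centralizer ({u} : Set G) : Set G) := fun s hs => by
    rw [mem_normalizer_iff]
    intro y
    refine ⟨fun hy => conj_mem_cen (hSN hs) hy, fun hy => ?_⟩
    have := conj_mem_cen (N.inv_mem (hSN hs)) hy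
    simpa [mul_assoc] using this
  have h := card_fixed_pgroup (IsPGroup.of_card hSc) (centralizer ({u} : Set G)) hn
  obtain ⟨⟨t, htm⟩, hto⟩ := exists_prime_orderOf_dvd_card'
    (G := (centralizer ({u} : Set G) ⊓ centralizer (S : Set G) : Subgroup G)) 2
    (Nat.dvd_of_mod_eq_zero (h ▸ Nat.mod_eq_zero_of_dvd h2))
  rw [Subgroup.orderOf_mk] at hto
  refine ⟨t, hto, (mem_centralizer_singleton_iff.1 (mem_inf.1 htm).1).symm, S, hSc, hSN, fun s hs => ?_⟩
  exact mem_centralizer_singleton_iff.2 (mem_centralizer_iff.1 (mem_inf.1 htm).2 s hs)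

theorem cls_eq_card (t : G) : Nat.card {h : G // IsConj t h} = cls t := card_conjugates t

section

variable [IsSimpleGroup G] (hcard : Nat.card G = 95040)

include hcard

/-- A character of degree divisible by `27` vanishes at elements of order divisible by three. -/
theorem three_zero (χ : Cfsg.IrrCharacter G) (hd : 27 ∣ deg χ) {g : G} (hg : 3 ∣ orderOf g) :
    (χ : G → ℂ) g = 0 := by
  refine BlockCharsA.DefectZeroVanish.eq_zero_of_singular Nat.prime_three χ ?_ hg
  have : (Nat.card G).factorization 3 = 3 := by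
    rw [hcard, show (95040 : ℕ) = 3 ^ 3 * 3520 by norm_num,
      Nat.factorization_mul (by norm_num) (by norm_num), Finsupp.add_apply,
      Nat.Prime.factorization_pow (by norm_num), Finsupp.single_eq_same,
      Nat.factorization_eq_zero_of_not_dvd (by norm_num)]
  rw [this]
  exact hd

/-- There is an involution whose centralizer has order `192`. -/
theorem exists_192 (F : Frame G) : ∃ z : G, orderOf z = 2 ∧ cen z = 192 := by
  obtain ⟨S⟩ : Nonempty (Sylow 2 G) := inferInstance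
  have h := card_fixed_pgroup S.2 (S : Subgroup G) le_normalizer
  rw [card_sylow_two hcard S] at h
  obtain ⟨⟨c, hc⟩, hco⟩ := exists_prime_orderOf_dvd_card'
    (G := ((S : Subgroup G) ⊓ centralizer ((S : Subgroup G) : Set G) : Subgroup G)) 2
    (Nat.dvd_of_mod_eq_zero (h ▸ by norm_num))
  rw [Subgroup.orderOf_mk] at hco
  refine ⟨c, hco, ?_⟩
  have h64 : 64 ∣ cen c := by
    rw [← card_sylow_two hcard S]
    exact card_dvd_of_le fun s hs => mem_centralizer_singleton_iff.2
      (mem_centralizer_iff.1 (mem_inf.1 hc).2 s hs)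
  rcases F.inv_tab hcard hco with ⟨hc', -⟩ | ⟨hc', -⟩
  · exact hc'
  · rcases hc' with e | e <;> rw [e] at h64 <;> norm_num at h64

/-- The possible values at an element of order five. -/
theorem five_vals (F : Frame G) {u : G} (hu : orderOf u = 5) :
    ∃ n54 n144 n16 : ℤ,
      ((F.c45 : G → ℂ) u = ((0 : ℤ) : ℂ) ∧ (F.c54 : G → ℂ) u = (n54 : ℂ) ∧
        (F.c120 : G → ℂ) u = ((0 : ℤ) : ℂ) ∧ (F.c144 : G → ℂ) u = (n144 : ℂ) ∧
        (F.θ : G → ℂ) u = (n16 : ℂ) ∧ (F.θ' : G → ℂ) u = (n16 : ℂ)) ∧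
      (n54 - 4) % 5 = 0 ∧ (n144 - 4) % 5 = 0 ∧ (n16 - 1) % 5 = 0 ∧ n16 = 1 - n54 + n144 ∧
      1 + n54 * n54 + n144 * n144 + 2 * (n16 * n16) ≤ (cen u : ℤ) := by
  classical
  obtain ⟨a, ha⟩ := F.int54 u
  obtain ⟨b, hb⟩ := F.int144 u
  have h45 : (F.c45 : G → ℂ) u = ((0 : ℤ) : ℂ) := by
    rw [five_zero hcard _ (by rw [F.d45]; norm_num) (by rw [hu])]; simp
  have h120 : (F.c120 : G → ℂ) u = ((0 : ℤ) : ℂ) := by
    rw [five_zero hcard _ (by rw [F.d120]; norm_num) (by rw [hu])]; simp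
  have h11 : ¬ 11 ∣ orderOf u := by rw [hu]; norm_num
  have hθ : (F.θ : G → ℂ) u = ((1 - a + b : ℤ) : ℂ) := by
    rw [← F.rel u h11, h45, h120, ha, hb]; push_cast; ring
  have hθ' : (F.θ' : G → ℂ) u = ((1 - a + b : ℤ) : ℂ) := (F.same u h11).trans hθ
  obtain ⟨M5, hM5⟩ := BlockCharsA.DefectZeroVanish.exists_modular (p := 5) (by norm_num)
  have hc : ∀ (χ : Cfsg.IrrCharacter G) (v : ℤ), (χ : G → ℂ) u = (v : ℂ) → (5 : ℤ) ∣ v - (deg χ : ℤ) :=
    fun χ v hv => cong_int hM5 χ (Commute.one_right u) (k := 1)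
      (by rw [pow_one, ← hu, pow_orderOf_eq_one]) (by simp) (by rw [mul_one]; exact hv)
      (by rw [← deg_cast]; simp)
  have c1 := hc _ _ ha
  have c2 := hc _ _ hb
  have c3 := hc _ _ hθ
  rw [F.d54] at c1; rw [F.d144] at c2; rw [F.d16] at c3
  refine ⟨a, b, 1 - a + b, ⟨h45, ha, h120, hb, hθ, hθ'⟩, by omega, by omega, by omega, rfl, ?_⟩
  let f : Cfsg.IrrCharacter G → ℤ := fun χ =>
    if h : ∃ v : ℤ, (χ : G → ℂ) u = (v : ℂ) then h.choose else 0
  have hf : ∀ {χ : Cfsg.IrrCharacter G} {v : ℤ}, (χ : G → ℂ) u = (v : ℂ) → f χ = v := fun {χ v} h => by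
    have he : ∃ v : ℤ, (χ : G → ℂ) u = (v : ℂ) := ⟨v, h⟩
    simp only [f, dif_pos he]
    exact_mod_cast he.choose_spec.symm.trans h
  have h1 : ((trivIrr G : Cfsg.IrrCharacter G) : G → ℂ) u = ((1 : ℤ) : ℂ) := by simp
  have hn := F.norm_R_nonneg u f fun χ hχ => by
    have hex : ∃ v : ℤ, (χ : G → ℂ) u = (v : ℂ) := by
      simp only [Frame.B, blockSet, Finset.mem_insert, Finset.mem_singleton] at hχ
      rcases hχ with e | e | e | e | e | e | e <;> subst e
      exacts [⟨_, h1⟩, ⟨_, h45⟩, ⟨_, ha⟩, ⟨_, h120⟩, ⟨_, hb⟩, ⟨_, hθ⟩, ⟨_, hθ'⟩]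
    simp only [f, dif_pos hex]
    exact hex.choose_spec
  rw [F.sum_B, hf h1, hf h45, hf ha, hf h120, hf hb, hf hθ, hf hθ'] at hn
  linarith

end

end Cfsg.Agent.M12Order
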