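import Mathlib
import Cfsg.Prelude.Def_Sporadic
import Cfsg.Agent.Lib.Perm.Degree11Simple
import Cfsg.Agent.Lib.Perm.PrimeDegree
import Cfsg.Agent.Lib.SmallSimple.Basic
import Cfsg.Agent.Lib.SmallSimple.Centralize
import Cfsg.Agent.Lib.PrimeBlock.Tools
import Cfsg.Agent.Lib.PrimeBlock.Integer

/-!
# Simple groups of order 95040: basic facts
-/

set_option autoImplicit false
set_option linter.style.haveILetI false
set_option linter.unusedSectionVars false

namespace Cfsg.Agent.M12Order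

open Subgroup
open Cfsg.Agent.Characters Cfsg.Agent.Blocks Cfsg.Agent.PrimeBlock
open Cfsg.Agent.SmallSimple

universe u

variable {G : Type u} [Group G] [Finite G]

instance fact2 : Fact (Nat.Prime 2) := ⟨Nat.prime_two⟩
instance fact3 : Fact (Nat.Prime 3) := ⟨Nat.prime_three⟩
instance fact5 : Fact (Nat.Prime 5) := ⟨by norm_num⟩
instance fact11 : Fact (Nat.Prime 11) := ⟨by norm_num⟩

/-- The centralizer of an element. -/
noncomputable abbrev cen (g : G) : ℕ := Nat.card (centralizer ({g} : Set G))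

/-- The size of the class of an element. -/
noncomputable abbrev cls (g : G) : ℕ := (centralizer ({g} : Set G)).index

theorem dvd_cases {P : ℕ → Prop}
    (h : ∀ a ∈ Finset.range 7, ∀ b ∈ Finset.range 4, ∀ c ∈ Finset.range 2, ∀ e ∈ Finset.range 2,
      P (2 ^ a * 3 ^ b * 5 ^ c * 11 ^ e))
    {d : ℕ} (hd : d ∣ 95040) : P d := by
  rw [show 95040 = 2 ^ 6 * 3 ^ 3 * 5 ^ 1 * 11 ^ 1 by norm_num] at hd
  obtain ⟨x, y, hx, hy, rfl⟩ := Nat.dvd_mul.1 hd
  obtain ⟨x', z, hx', hz, rfl⟩ := Nat.dvd_mul.1 hx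
  obtain ⟨x'', w, hx'', hw, rfl⟩ := Nat.dvd_mul.1 hx'
  obtain ⟨a, ha, rfl⟩ := (Nat.dvd_prime_pow Nat.prime_two).1 hx''
  obtain ⟨b, hb, rfl⟩ := (Nat.dvd_prime_pow Nat.prime_three).1 hw
  obtain ⟨c, hc, rfl⟩ := (Nat.dvd_prime_pow (show Nat.Prime 5 by norm_num)).1 hz
  obtain ⟨e, he, rfl⟩ := (Nat.dvd_prime_pow (show Nat.Prime 11 by norm_num)).1 hy
  exact h a (Finset.mem_range.2 (by omega)) b (Finset.mem_range.2 (by omega)) c
    (Finset.mem_range.2 (by omega)) e (Finset.mem_range.2 (by omega))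

/-- The positive divisors of `95040`. -/
def divs : List ℕ :=
  (List.range 7).flatMap fun a => (List.range 4).flatMap fun b => (List.range 2).flatMap fun c =>
    (List.range 2).map fun e => 2 ^ a * 3 ^ b * 5 ^ c * 11 ^ e

theorem mem_divs {d : ℕ} (hd : d ∣ 95040) : d ∈ divs :=
  dvd_cases (P := fun d => d ∈ divs) (fun a ha b hb c hc e he => by
    simp only [divs, List.mem_flatMap, List.mem_map, List.mem_range]
    exact ⟨a, Finset.mem_range.1 ha, b, Finset.mem_range.1 hb, c, Finset.mem_range.1 hc, e,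
      Finset.mem_range.1 he, rfl⟩) hd

section

variable [IsSimpleGroup G] (hcard : Nat.card G = 95040)

include hcard

theorem not_comm : ¬ IsMulCommutative G :=
  Basic.not_comm_of_not_prime (by rw [hcard]; norm_num)

theorem cen_dvd (g : G) : cen g ∣ 95040 := hcard ▸ card_subgroup_dvd_card _

theorem cen_mul_cls (g : G) : cen g * cls g = 95040 := hcard ▸ card_mul_index _

theorem deg_dvd (χ : Cfsg.IrrCharacter G) : deg χ ∣ 95040 := hcard ▸ char_degree_dvd_card χ

theorem deg_lt {χ : Cfsg.IrrCharacter G} (hne : χ ≠ trivIrr G) : deg χ < 309 := by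
  have h := hcard ▸ deg_sq_lt hne
  by_contra hc
  have : 309 * 309 ≤ deg χ * deg χ := Nat.mul_le_mul (by omega) (by omega)
  omega

theorem card_sylow_eleven (P : Sylow 11 G) : Nat.card (P : Subgroup G) = 11 := by
  rw [Basic.card_sylow_eq_pow (a := 1) (m := 8640) (by rw [hcard]; norm_num) (by norm_num) P, pow_one]

theorem card_sylow_five (P : Sylow 5 G) : Nat.card (P : Subgroup G) = 5 := by
  rw [Basic.card_sylow_eq_pow (a := 1) (m := 19008) (by rw [hcard]; norm_num) (by norm_num) P, pow_one]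

theorem card_sylow_three (P : Sylow 3 G) : Nat.card (P : Subgroup G) = 27 := by
  rw [Basic.card_sylow_eq_pow (a := 3) (m := 3520) (by rw [hcard]; norm_num) (by norm_num) P]; norm_num

theorem card_sylow_two (P : Sylow 2 G) : Nat.card (P : Subgroup G) = 64 := by
  rw [Basic.card_sylow_eq_pow (a := 6) (m := 1485) (by rw [hcard]; norm_num) (by norm_num) P]; norm_num

/-- There is no subgroup of index eleven or less. -/
theorem twelve_le_index (H : Subgroup G) (hH : H ≠ ⊤) : 12 ≤ H.index := by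
  classical
  by_contra hlt
  have h2 := Basic.two_mul_card_dvd_factorial (not_comm hcard) H hH
  rw [hcard] at h2
  have h11 : H.index = 11 := by
    have key : ∀ n < 11, ¬ 2 * 95040 ∣ n.factorial := by decide +kernel
    by_contra hne
    exact key H.index (by omega) h2
  let f := MulAction.toPermHom G (G ⧸ H)
  have hf : Function.Injective f := Basic.toPermHom_injective H hH
  let R := f.range
  haveI : MulAction.IsPretransitive R (G ⧸ H) := ⟨fun x y => by
    obtain ⟨g, hg⟩ := MulAction.exists_smul_eq G x y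
    exact ⟨⟨f g, g, rfl⟩, hg⟩⟩
  obtain ⟨e, t, -, ht⟩ := Cfsg.Agent.Perm.PrimeDegree.exists_coord (p := 11)
    (by rw [← Subgroup.index_eq_card, h11]) R
  let φ : Equiv.Perm (G ⧸ H) ≃* Equiv.Perm (ZMod 11) := e.symm.permCongrHom
  let K : Subgroup (Equiv.Perm (ZMod 11)) := R.map φ.toMonoidHom
  let ψ : G ≃* K :=
    (MonoidHom.ofInjective hf).trans (R.equivMapOfInjective φ.toMonoidHom φ.injective)
  have hKc : Nat.card K = 95040 := by rw [← Nat.card_congr ψ.toEquiv, hcard]
  have hsK : Cfsg.Agent.Perm.Degree11.shift ∈ K := ⟨t, t.2, Equiv.ext fun z => by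
    show e.symm ((t : Equiv.Perm (G ⧸ H)) (e z)) = _
    exact e.symm_apply_eq.2 (ht z)⟩
  have hs : ¬ Group.IsSolvable K := fun hs => by
    haveI := hs
    haveI : Group.IsSolvable G := Group.isSolvable_of_isSolvable_injective (f := ψ.toMonoidHom) ψ.injective
    exact not_comm hcard ⟨⟨IsSimpleGroup.comm_iff_isSolvable.2 inferInstance⟩⟩
  have hA : ¬ alternatingGroup (ZMod 11) ≤ K := fun hle => by
    have := Nat.le_of_dvd Nat.card_pos (Subgroup.card_dvd_of_le hle)
    rw [Cfsg.Agent.Perm.Degree11.card_A11, hKc] at this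
    omega
  obtain ⟨-, ⟨h, -⟩ | h⟩ := Cfsg.Agent.Perm.Degree11.main hsK hs hA <;> omega

/-- `d` divides `|g^G| v` for an integral value `v`. -/
theorem deg_dvd_cls (χ : Cfsg.IrrCharacter G) {g : G} {v : ℤ} (hv : (χ : G → ℂ) g = (v : ℂ)) :
    (deg χ : ℤ) ∣ (cls g : ℤ) * v := by
  obtain ⟨n, ρ, hρ, hchar⟩ := χ.2
  haveI := hρ
  have h := class_central_char_isIntegral ρ g
  have hn : (Module.finrank ℂ (Fin n → ℂ) : ℂ) = (deg χ : ℂ) := by
    rw [deg_cast, ← hchar, ρ.char_one]
  rw [hchar, hv, hn] at h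
  obtain ⟨c, hc⟩ := exists_int_of_isIntegral_ratCast
    (q := ((((cls g : ℤ) * v : ℤ) : ℚ) / ((deg χ : ℕ) : ℚ))) (by push_cast; exact h)
  refine ⟨c, ?_⟩
  have hd : ((deg χ : ℕ) : ℚ) ≠ 0 := Nat.cast_ne_zero.2 (charDegree_pos χ).ne'
  replace hc := Rat.cast_injective (hc.trans (Rat.cast_intCast c).symm)
  rw [div_eq_iff hd] at hc
  have : (((cls g : ℤ) * v : ℤ) : ℚ) = (((deg χ : ℕ) : ℤ) * c : ℤ) := by
    push_cast at hc ⊢; linear_combination hc
  exact_mod_cast this

/-- Characters of degree divisible by `5` vanish at elements of order divisible by `5`. -/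
theorem five_zero (χ : Cfsg.IrrCharacter G) (hd : 5 ∣ deg χ) {g : G} (hg : 5 ∣ orderOf g) :
    (χ : G → ℂ) g = 0 := by
  refine BlockCharsA.DefectZeroVanish.eq_zero_of_singular (by norm_num) χ ?_ hg
  have : (Nat.card G).factorization 5 = 1 := by
    rw [hcard, show (95040 : ℕ) = 5 * 19008 by norm_num, Nat.factorization_mul (by norm_num) (by norm_num),
      Finsupp.add_apply, Nat.Prime.factorization_self (by norm_num),
      Nat.factorization_eq_zero_of_not_dvd (by norm_num)]
  rw [this, pow_one]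
  exact hd

end

/-- The squared absolute values at `g` over any set of characters add up to at most `|C(g)|`. -/
theorem norm_sum_le (S : Finset (Cfsg.IrrCharacter G)) (g : G) :
    ∑ χ ∈ S, Complex.normSq ((χ : G → ℂ) g) ≤ (cen g : ℝ) := by
  classical
  haveI := Fintype.ofFinite (Cfsg.IrrCharacter G)
  have h := second_orthogonality (G := G) g g
  rw [if_pos (IsConj.refl g)] at h
  have h2 := congrArg Complex.re h
  simp only [Complex.re_sum, Complex.mul_conj, Complex.ofReal_re, Complex.natCast_re] at h2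
  rw [← h2]
  exact Finset.sum_le_sum_of_subset_of_nonneg (Finset.subset_univ _)
    fun χ _ _ => Complex.normSq_nonneg _

/-- A congruence between integral values at commuting elements. -/
theorem cong_int {p : ℕ} {M : Ideal Cfsg.AlgInt} (hM : Cfsg.IsPModular p M)
    (χ : Cfsg.IrrCharacter G) {x y : G} (hc : Commute x y) {k : ℕ} (hx : x ^ p ^ k = 1)
    (hy : ¬ p ∣ orderOf y) {a b : ℤ} (ha : (χ : G → ℂ) (x * y) = (a : ℂ))
    (hb : (χ : G → ℂ) y = (b : ℂ)) : (p : ℤ) ∣ a - b := by
  have h := char_cong_of_commute hM χ hc hx hy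
  rw [ha, hb] at h
  exact (ideal_intCast_iff hM (a - b)).1 (by push_cast; exact h)

open scoped Classical in
/-- The rational value at an involution. -/
noncomputable def iv (t : G) (χ : Cfsg.IrrCharacter G) : ℤ :=
  if h : ∃ v : ℤ, (χ : G → ℂ) t = (v : ℂ) then h.choose else 0

theorem iv_eq {t : G} {χ : Cfsg.IrrCharacter G} {v : ℤ} (h : (χ : G → ℂ) t = (v : ℂ)) :
    iv t χ = v := by
  have he : ∃ v : ℤ, (χ : G → ℂ) t = (v : ℂ) := ⟨v, h⟩
  rw [iv, dif_pos he]
  exact_mod_cast he.choose_spec.symm.trans h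

theorem iv_triv (t : G) : iv t (trivIrr G) = 1 := iv_eq (by simp [trivIrr_coe])

theorem iv_spec [IsSimpleGroup G] (hG : ¬ IsMulCommutative G) {t : G} (ht : orderOf t = 2)
    (χ : Cfsg.IrrCharacter G) : (χ : G → ℂ) t = (iv t χ : ℂ) := by
  by_cases h : χ = trivIrr G
  · subst h; rw [iv_triv]; simp [trivIrr_coe]
  · obtain ⟨v, hv, -⟩ := involution_value hG h ht
    rw [iv_eq hv, hv]

theorem iv_four [IsSimpleGroup G] (hG : ¬ IsMulCommutative G) {t : G} (ht : orderOf t = 2)
    (χ : Cfsg.IrrCharacter G) : (4 : ℤ) ∣ (deg χ : ℤ) - iv t χ := by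
  by_cases h : χ = trivIrr G
  · subst h; rw [iv_triv, deg_trivIrr]; simp
  · obtain ⟨v, hv, h4, -⟩ := involution_value hG h ht
    rwa [iv_eq hv]

theorem iv_lt [IsSimpleGroup G] (hG : ¬ IsMulCommutative G) {t : G} (ht : orderOf t = 2)
    {χ : Cfsg.IrrCharacter G} (h : χ ≠ trivIrr G) : |iv t χ| < (deg χ : ℤ) := by
  obtain ⟨v, hv, -, hlt⟩ := involution_value hG h ht
  rwa [iv_eq hv]

/-- The squares of the values at an involution add up to at most the order of its centralizer. -/
theorem iv_sq_le [IsSimpleGroup G] (hG : ¬ IsMulCommutative G) {t : G} (ht : orderOf t = 2)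
    (S : Finset (Cfsg.IrrCharacter G)) : ∑ χ ∈ S, iv t χ * iv t χ ≤ (cen t : ℤ) := by
  have h := norm_sum_le S t
  rw [Finset.sum_congr rfl fun (χ : Cfsg.IrrCharacter G) _ => show Complex.normSq ((χ : G → ℂ) t) =
      (((iv t χ * iv t χ : ℤ)) : ℝ) by
    rw [iv_spec hG ht χ, show ((iv t χ : ℤ) : ℂ) = (((iv t χ : ℤ) : ℝ) : ℂ) by push_cast; rfl,
      Complex.normSq_ofReal]
    push_cast; rfl] at h
  exact_mod_cast h

end Cfsg.Agent.M12Order
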