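import Cfsg.Agent.Lib.M12Order.Eleven

/-!
# Simple groups of order 95040: an involution commutes with an element of order five
-/

set_option autoImplicit false
set_option linter.style.haveILetI false
set_option linter.unusedSectionVars false

namespace Cfsg.Agent.M12Order

open Subgroup MulAction
open Cfsg.Agent.SmallSimple

universe u

variable {G : Type u} [Group G] [Finite G]

theorem eq_of_nine_lt {K D S : Subgroup G} (hlt : K < D) (hDS : D ≤ S) (hK : Nat.card K = 9)
    (hS : Nat.card S = 27) : D = S := by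
  obtain ⟨c, hc⟩ := hK ▸ card_dvd_of_le hlt.le
  have hd := card_dvd_of_le hDS
  rw [hS, hc, show 27 = 9 * 3 by norm_num] at hd
  have hne : c ≠ 1 := fun h1 => hlt.ne (eq_of_le_of_card_ge hlt.le (by rw [hc, hK, h1]))
  have hc3 : c = 3 :=
    ((Nat.dvd_prime Nat.prime_three).1 (Nat.dvd_of_mul_dvd_mul_left (by norm_num) hd)).resolve_left hne
  exact eq_of_le_of_card_ge hDS (by rw [hS, hc, hc3])

theorem smul_pow_fixed {α : Type*} {H : Type*} [Monoid H] [MulAction H α] (a : H) (x : α)
    (h : a • x = x) : ∀ i : ℕ, a ^ i • x = x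
  | 0 => by simp
  | i + 1 => by rw [pow_succ, mul_smul, h, smul_pow_fixed a x h i]

/-- An element of prime order normalizing `T` centralizes `|T|` points of it, modulo the prime. -/
theorem card_fixed_mod {p : ℕ} [Fact p.Prime] {g : G} (hg : orderOf g = p) (T : Subgroup G)
    (hn : g ∈ normalizer (T : Set G)) :
    Nat.card T % p = Nat.card (T ⊓ centralizer ({g} : Set G) : Subgroup G) % p := by
  classical
  have hle : zpowers g ≤ normalizer (T : Set G) := zpowers_le.2 hn
  letI : MulAction (zpowers g) T :=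
    { smul := fun a t => ⟨(a : G) * t * (a : G)⁻¹, (mem_normalizer_iff.1 (hle a.2) _).1 t.2⟩
      one_smul := fun t => Subtype.ext (by show ((1 : zpowers g) : G) * t * _ = _; simp)
      mul_smul := fun a b t => Subtype.ext (by
        show ((a * b : zpowers g) : G) * t * ((a * b : zpowers g) : G)⁻¹ =
          (a : G) * ((b : G) * t * (b : G)⁻¹) * (a : G)⁻¹
        simp [mul_assoc]) }
  have hP : IsPGroup p (zpowers g) := IsPGroup.of_card (n := 1) (by rw [Nat.card_zpowers, hg, pow_one])
  have h := hP.card_modEq_card_fixedPoints T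
  rw [Nat.ModEq] at h
  rw [h]
  congr 1
  refine Nat.card_congr
    { toFun := fun t => ⟨(t.1 : G), mem_inf.2 ⟨t.1.2, ?_⟩⟩
      invFun := fun t => ⟨⟨(t : G), (mem_inf.1 t.2).1⟩, ?_⟩
      left_inv := fun t => rfl
      right_inv := fun t => rfl }
  · have h1 := congrArg Subtype.val (t.2 ⟨g, mem_zpowers g⟩)
    replace h1 : g * (t.1 : G) * g⁻¹ = t.1 := h1
    exact mem_centralizer_singleton_iff.2 (mul_inv_eq_iff_eq_mul.1 h1).symm
  · intro a
    refine Subtype.ext ?_
    show (a : G) * t * (a : G)⁻¹ = t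
    have hc : Commute (t : G) g := mem_centralizer_singleton_iff.1 (mem_inf.1 t.2).2
    obtain ⟨k, hk⟩ := mem_zpowers_iff.1 a.2
    rw [← hk, ← (hc.zpow_right k).eq, mul_inv_cancel_right]

/-- The number of conjugates under `H` of a Sylow 5-subgroup. -/
theorem conj_count_mod {u : G} (hu : orderOf u = 5) (h5 : ¬ 25 ∣ Nat.card G) (H : Subgroup G)
    (huH : u ∈ H) :
    ∃ m, Nat.card H = m * Nat.card (normalizer (zpowers u : Set G) ⊓ H : Subgroup G) ∧ m % 5 = 1 := by
  classical
  set U := zpowers u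
  have hUH : U ≤ H := zpowers_le.2 huH
  have hUc : Nat.card (U.subgroupOf H) = 5 := by
    rw [Nat.card_congr (subgroupOfEquivOfLe hUH).toEquiv, Nat.card_zpowers, hu]
  have hfac : (Nat.card H).factorization 5 = 1 := by
    have hd : 5 ∣ Nat.card H := by
      have := card_dvd_of_le hUH
      rwa [Nat.card_zpowers, hu] at this
    refine le_antisymm ?_ ((Nat.prime_five.factorization_pos_of_dvd Nat.card_pos.ne' hd))
    by_contra hc
    exact h5 (((Nat.prime_five.pow_dvd_iff_le_factorization Nat.card_pos.ne').2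
      (show 2 ≤ (Nat.card H).factorization 5 by omega)).trans (card_subgroup_dvd_card H))
  let P : Sylow 5 H := Sylow.ofCard (U.subgroupOf H) (by rw [hUc, hfac, pow_one])
  have hN : normalizer ((P : Subgroup H) : Set H) = (normalizer (U : Set G)).subgroupOf H := by
    ext a
    rw [mem_subgroupOf, mem_normalizer_iff, mem_normalizer_iff]
    constructor
    · intro h b
      refine ⟨fun hb => ?_, fun hb => ?_⟩
      · exact (h ⟨b, hUH hb⟩).1 hb
      · have hbH : b ∈ H := by
          have := H.mul_mem (H.mul_mem (H.inv_mem a.2) (hUH hb)) a.2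
          simpa [mul_assoc] using this
        exact (h ⟨b, hbH⟩).2 hb
    · intro h b
      exact h b
  refine ⟨Nat.card (Sylow 5 H), ?_, card_sylow_modEq_one 5 H⟩
  rw [← Basic.card_normalizer_mul P, mul_comm, hN, ← inf_subgroupOf_right,
    Nat.card_congr (subgroupOfEquivOfLe (inf_le_right : normalizer (U : Set G) ⊓ H ≤ H)).toEquiv]

section

variable [IsSimpleGroup G] (hcard : Nat.card G = 95040)

include hcard

theorem not_twentyfive : ¬ 25 ∣ Nat.card G := by rw [hcard]; norm_num

theorem sylow_of_order_five {u : G} (hu : orderOf u = 5) :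
    ∃ Q : Sylow 5 G, (Q : Subgroup G) = zpowers u := by
  obtain ⟨P, hP⟩ := (IsPGroup.of_card (p := 5) (n := 1)
    (by rw [Nat.card_zpowers, hu, pow_one]) : IsPGroup 5 (zpowers u)).exists_le_sylow
  exact ⟨P, (eq_of_le_of_card_ge hP (by
    rw [Nat.card_zpowers, hu, card_sylow_five hcard P])).symm⟩

theorem cen_five_not_eleven {u : G} (hu : orderOf u = 5) : ¬ 11 ∣ cen u := fun h => by
  obtain ⟨⟨y, hym⟩, hyo⟩ := exists_prime_orderOf_dvd_card' (G := centralizer ({u} : Set G)) 11 h
  rw [Subgroup.orderOf_mk] at hyo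
  have hmem : u ∈ centralizer ({y} : Set G) :=
    mem_centralizer_singleton_iff.2 (mem_centralizer_singleton_iff.1 hym).symm
  have := orderOf_dvd_natCard (⟨u, hmem⟩ : centralizer ({y} : Set G))
  rw [Subgroup.orderOf_mk, hu, show Nat.card (centralizer ({y} : Set G)) = 11 from
    (cen_eleven hcard hyo).1] at this
  norm_num at this

/-- Centralizer and normalizer of an element of order five. -/
theorem five_data {u : G} (hu : orderOf u = 5) :
    ∃ e k : ℕ, (e = 2 ∨ e = 4) ∧ cen u = 5 * k ∧
      Nat.card (normalizer (zpowers u : Set G)) = 5 * k * e ∧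
      k * e ∈ ([8, 18, 48, 108, 288, 1728] : List ℕ) := by
  have hG := not_comm hcard
  obtain ⟨Q, hQ⟩ := sylow_of_order_five hcard hu
  obtain ⟨e, hed, he1, hN, ⟨k, hk⟩⟩ :=
    Centralize.centralizer_data hG Q (card_sylow_five hcard Q)
  have hcu : centralizer ((Q : Subgroup G) : Set G) = centralizer ({u} : Set G) := by
    rw [hQ, zpowers_eq_closure, centralizer_closure]
  rw [hcu] at hN hk
  have he : e = 2 ∨ e = 4 := by
    have : ∀ j ∈ Finset.range 5, j ∣ 4 → 1 < j → j = 2 ∨ j = 4 := by decide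
    exact this e (Finset.mem_range.2 (by have := Nat.le_of_dvd (by norm_num) hed; omega)) hed he1
  rw [hk] at hN
  refine ⟨e, k, he, hk, by rw [← hQ]; exact hN, ?_⟩
  obtain ⟨hnd, hnm, hn1, -⟩ := Basic.sylow_count (p := 5) hG (by rw [hcard]; norm_num) (a := 1)
    (m := 19008) (by rw [hcard]; norm_num) (by norm_num)
  have htot : 5 * k * e * Nat.card (Sylow 5 G) = 95040 := by
    rw [← hN, Basic.card_normalizer_mul Q, hcard]
  have hq : 19008 / Nat.card (Sylow 5 G) = k * e := by
    rw [show 19008 = k * e * Nat.card (Sylow 5 G) by nlinarith]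
    exact Nat.mul_div_cancel _ (by omega)
  have h11 : ¬ 11 ∣ 19008 / Nat.card (Sylow 5 G) := fun h => by
    rw [hq] at h
    rcases (Nat.Prime.dvd_mul (by norm_num : Nat.Prime 11)).1 h with h | h
    · exact cen_five_not_eleven hcard hu (show 11 ∣ cen u by rw [show cen u = 5 * k from hk]; exact h.mul_left 5)
    · rcases he with rfl | rfl <;> norm_num at h
  have h2 : 2 ∣ 19008 / Nat.card (Sylow 5 G) := by
    rw [hq]; rcases he with rfl | rfl <;> exact Dvd.dvd.mul_left (by norm_num) k
  rw [← hq]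
  exact dvd_cases (P := fun n => n ∣ 19008 → n % 5 = 1 → 1 < n → ¬ 11 ∣ 19008 / n → 2 ∣ 19008 / n →
    19008 / n ∈ ([8, 18, 48, 108, 288, 1728] : List ℕ)) (by decide +kernel) (hnd.trans (by norm_num))
    hnd hnm hn1 h11 h2

/-- An element of order five normalizes no subgroup of order `27` it does not centralize. -/
theorem not_normalize_twenty_seven {u : G} (hu : orderOf u = 5) (h27 : ¬ 27 ∣ cen u) (T : Subgroup G)
    (hT : Nat.card T = 27) : u ∉ normalizer (T : Set G) := fun hn => by
  have h := card_fixed_mod hu T hn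
  have hd := card_dvd_of_le (inf_le_left : T ⊓ centralizer ({u} : Set G) ≤ T)
  have hd' := card_dvd_of_le (inf_le_right : T ⊓ centralizer ({u} : Set G) ≤ centralizer ({u} : Set G))
  rw [hT] at h hd
  generalize hm : Nat.card (T ⊓ centralizer ({u} : Set G) : Subgroup G) = m at h hd hd'
  have : m = 27 := by
    have key : ∀ m ∈ Finset.range 28, m ∣ 27 → 27 % 5 = m % 5 → m = 27 := by decide
    exact key m (Finset.mem_range.2 (by have := Nat.le_of_dvd (by norm_num) hd; omega)) hd h
  exact h27 (this ▸ hd')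

/-- Not `k e = 108`. -/
theorem ke_ne_108 {u : G} (hu : orderOf u = 5) {e k : ℕ} (he : e = 2 ∨ e = 4) (hk : cen u = 5 * k)
    (hN : Nat.card (normalizer (zpowers u : Set G)) = 5 * k * e) : k * e ≠ 108 := by
  classical
  intro hke
  have hG := not_comm hcard
  set C := centralizer ({u} : Set G) with hCdef
  have hk' : k = 54 ∨ k = 27 := by rcases he with rfl | rfl <;> omega
  obtain ⟨S₀⟩ : Nonempty (Sylow 3 C) := inferInstance
  have hS₀ : Nat.card (S₀ : Subgroup C) = 27 := by
    rw [Basic.card_sylow_eq_pow (a := 3) (m := 5 * k / 27)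
      (show cen u = 3 ^ 3 * (5 * k / 27) by rw [hk]; omega) (by omega) S₀]
    norm_num
  -- it is normal in the centralizer
  have hone : Nat.card (Sylow 3 C) = 1 := by
    have hmod : Nat.card (Sylow 3 C) % 3 = 1 := card_sylow_modEq_one 3 C
    have hmul := Basic.card_normalizer_mul S₀
    have huC : u ∈ C := mem_centralizer_singleton_iff.2 rfl
    have huN : (⟨u, huC⟩ : C) ∈ normalizer ((S₀ : Subgroup C) : Set C) := by
      refine centralizer_le_normalizer _ (mem_centralizer_iff.2 fun y _ => Subtype.ext ?_)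
      exact mem_centralizer_singleton_iff.1 y.2
    have h5 := orderOf_dvd_natCard (⟨_, huN⟩ : normalizer ((S₀ : Subgroup C) : Set C))
    rw [Subgroup.orderOf_mk, Subgroup.orderOf_mk, hu] at h5
    have h27 := Basic.sylow_dvd_normalizer S₀
    rw [hS₀] at h27
    obtain ⟨c, hc⟩ : 135 ∣ Nat.card (normalizer ((S₀ : Subgroup C) : Set C)) :=
      Nat.Coprime.mul_dvd_of_dvd_of_dvd (by norm_num : Nat.Coprime 5 27) h5 h27
    rw [hc, show Nat.card C = 5 * k from hk] at hmul
    have hc1 : c * Nat.card (Sylow 3 C) ≤ 2 := by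
      rcases hk' with rfl | rfl <;> nlinarith
    have hc0 : 1 ≤ c := by
      rcases Nat.eq_zero_or_pos c with rfl | h
      · rcases hk' with rfl | rfl <;> simp at hmul
      · exact h
    have : Nat.card (Sylow 3 C) ≤ 2 := le_trans (Nat.le_mul_of_pos_left _ hc0) hc1
    omega
  haveI : Subsingleton (Sylow 3 C) := Finite.card_le_one_iff_subsingleton.1 hone.le
  set S : Subgroup G := (S₀ : Subgroup C).map C.subtype with hSdef
  have hSc : Nat.card S = 27 := by rw [hSdef, card_map_of_injective C.subtype_injective, hS₀]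
  have hSC : S ≤ C := map_subtype_le _
  have huniq : ∀ T : Subgroup G, T ≤ C → Nat.card T = 27 → T = S := by
    intro T hTC hT
    have hTc : Nat.card (T.subgroupOf C) = 27 := by
      rw [Nat.card_congr (subgroupOfEquivOfLe hTC).toEquiv, hT]
    obtain ⟨P, hP⟩ := (IsPGroup.of_card (p := 3) (n := 3)
      (by rw [hTc]; norm_num) : IsPGroup 3 (T.subgroupOf C)).exists_le_sylow
    rw [Subsingleton.elim P S₀] at hP
    have := eq_of_le_of_card_ge hP (by rw [hTc, hS₀])
    rw [hSdef, ← this, map_subgroupOf_eq_of_le hTC]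
  have hNS : normalizer (zpowers u : Set G) ≤ normalizer (S : Set G) := by
    intro n hn
    have hU : ∀ y ∈ C, n * y * n⁻¹ ∈ C := by
      intro y hy
      have h1 : n⁻¹ * u * n ∈ zpowers u := (mem_normalizer_iff''.1 hn u).1 (mem_zpowers u)
      obtain ⟨j, hj⟩ := mem_zpowers_iff.1 h1
      have hcy : Commute y (n⁻¹ * u * n) := hj ▸ (Commute.zpow_right (mem_centralizer_singleton_iff.1 hy) j)
      refine mem_centralizer_singleton_iff.2 ?_
      calc n * y * n⁻¹ * u = n * (y * (n⁻¹ * u * n)) * n⁻¹ := by group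
        _ = n * ((n⁻¹ * u * n) * y) * n⁻¹ := by rw [hcy.eq]
        _ = u * (n * y * n⁻¹) := by group
    have hmap : S.map (MulAut.conj n).toMonoidHom = S := huniq _ (by
      rintro z ⟨y, hy, rfl⟩
      exact hU y (hSC hy)) (by rw [card_map_of_injective (MulAut.conj n).injective, hSc])
    rw [mem_normalizer_iff]
    intro y
    constructor
    · intro hy
      rw [← hmap]
      exact ⟨y, hy, rfl⟩
    · intro hy
      rw [← hmap] at hy
      obtain ⟨z, hz, hzy⟩ := hy
      rwa [show z = y from (MulAut.conj n).injective hzy] at hz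
  set H := normalizer (S : Set G) with hHdef
  obtain ⟨Q, hQ⟩ := (IsPGroup.of_card (p := 3) (n := 3)
    (by rw [hSc]; norm_num) : IsPGroup 3 S).exists_le_sylow
  have hQS : S = (Q : Subgroup G) := eq_of_le_of_card_ge hQ (by rw [hSc, card_sylow_three hcard Q])
  obtain ⟨hnd, hnm, hn1, -⟩ := Basic.sylow_count (p := 3) hG (by rw [hcard]; norm_num) (a := 3)
    (m := 3520) (by rw [hcard]; norm_num) (by norm_num)
  have hmul : Nat.card H * Nat.card (Sylow 3 G) = 95040 := by
    rw [hHdef, hQS, Basic.card_normalizer_mul Q, hcard]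
  have huH : u ∈ H := hNS (le_normalizer (mem_zpowers u))
  obtain ⟨m, hm, hm5⟩ := conj_count_mod hu (not_twentyfive hcard) H huH
  rw [inf_eq_left.2 hNS, hN, mul_assoc 5 k e, hke] at hm
  rw [hm] at hmul
  have hm11 : m = 11 := by
    have hdvd : m ∣ 176 := ⟨Nat.card (Sylow 3 G), by nlinarith⟩
    have key : ∀ m ∈ Finset.range 177, m ∣ 176 → m % 5 = 1 → ∀ n ∈ Finset.range 177,
        m * n = 176 → n % 3 = 1 → 1 < n → m = 11 := by decide +kernel
    exact key m (Finset.mem_range.2 (by have := Nat.le_of_dvd (by norm_num) hdvd; omega)) hdvd hm5 _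
      (Finset.mem_range.2 (by
        have h1 : 1 ≤ m := Nat.pos_of_dvd_of_pos hdvd (by norm_num)
        nlinarith)) (by nlinarith) hnm hn1
  obtain ⟨⟨y, hyH⟩, hyo⟩ := exists_prime_orderOf_dvd_card' (G := H) 11
    (by rw [hm, hm11]; norm_num)
  rw [Subgroup.orderOf_mk] at hyo
  have h := card_fixed_mod hyo S hyH
  have h1 : Nat.card (S ⊓ centralizer ({y} : Set G) : Subgroup G) = 1 :=
    Nat.eq_one_of_dvd_coprimes (by norm_num : Nat.Coprime 27 11)
      (hSc ▸ card_dvd_of_le inf_le_left)
      ((cen_eleven hcard hyo).1 ▸ card_dvd_of_le inf_le_right)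
  rw [hSc, h1] at h
  norm_num at h

/-- Every normalizer of a subgroup of order five has the same order. -/
theorem card_normalizer_five {u v : G} (hu : orderOf u = 5) (hv : orderOf v = 5) :
    Nat.card (normalizer (zpowers v : Set G)) = Nat.card (normalizer (zpowers u : Set G)) := by
  obtain ⟨P, hP⟩ := sylow_of_order_five hcard hu
  obtain ⟨Q, hQ⟩ := sylow_of_order_five hcard hv
  have h1 := Basic.card_normalizer_mul P
  have h2 := Basic.card_normalizer_mul Q
  rw [← hP, ← hQ]
  exact Nat.eq_of_mul_eq_mul_right (Nat.card_pos : 0 < Nat.card (Sylow 5 G)) (h2.trans h1.symm)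

/-- No overgroup of the centralizer with central Sylow 5-subgroup of its normalizer. -/
theorem no_over_centralizer {u : G} (hu : orderOf u = 5)
    (hN : Nat.card (normalizer (zpowers u : Set G)) = 90) {H : Subgroup G}
    (hC : centralizer ({u} : Set G) ≤ H) {m : ℕ} (hm : m = 6 ∨ m = 96) (hH : Nat.card H = 45 * m)
    (hNH : (normalizer (zpowers u : Set G) ⊓ H : Subgroup G) = centralizer ({u} : Set G)) :
    False := by
  classical
  have huH : u ∈ H := hC (mem_centralizer_singleton_iff.2 rfl)
  have hUH : zpowers u ≤ H := zpowers_le.2 huH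
  obtain ⟨P, hP⟩ : ∃ P : Sylow 5 H, (P : Subgroup H) = (zpowers u).subgroupOf H := by
    obtain ⟨P, hP⟩ := (IsPGroup.of_card (p := 5) (n := 1) (by
      rw [Nat.card_congr (subgroupOfEquivOfLe hUH).toEquiv, Nat.card_zpowers, hu, pow_one]) :
      IsPGroup 5 ((zpowers u).subgroupOf H)).exists_le_sylow
    refine ⟨P, (eq_of_le_of_card_ge hP ?_).symm⟩
    rw [Basic.card_sylow_eq_pow (a := 1) (m := 9 * m) (by rw [hH]; ring)
      (by rcases hm with rfl | rfl <;> norm_num) P,
      Nat.card_congr (subgroupOfEquivOfLe hUH).toEquiv, Nat.card_zpowers, hu, pow_one]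
  have hburn : normalizer ((P : Subgroup H) : Set H) ≤ centralizer ((P : Subgroup H) : Set H) := by
    intro a ha
    have haN : (a : G) ∈ normalizer (zpowers u : Set G) := by
      rw [hP] at ha
      rw [mem_normalizer_iff] at ha ⊢
      intro y
      refine ⟨fun hy => (ha ⟨y, hUH hy⟩).1 hy, fun hy => ?_⟩
      have hyH : y ∈ H := by
        have := H.mul_mem (H.mul_mem (H.inv_mem a.2) (hUH hy)) a.2
        simpa [mul_assoc] using this
      exact (ha ⟨y, hyH⟩).2 hy
    have hac : (a : G) ∈ centralizer ({u} : Set G) := hNH ▸ mem_inf.2 ⟨haN, a.2⟩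
    refine mem_centralizer_iff.2 fun y hy => Subtype.ext ?_
    rw [SetLike.mem_coe, hP, mem_subgroupOf] at hy
    obtain ⟨j, hj⟩ := mem_zpowers_iff.1 hy
    show (y : G) * a = a * y
    rw [← hj]
    exact ((show Commute u a from (mem_centralizer_singleton_iff.1 hac).symm).zpow_left j).eq
  set f := MonoidHom.transferSylow P hburn
  have hcompl := MonoidHom.ker_transferSylow_isComplement' P hburn
  have hker : Nat.card f.ker = 9 * m := by
    have := hcompl.card_mul_card
    rw [Basic.card_sylow_eq_pow (a := 1) (m := 9 * m) (by rw [hH]; ring)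
      (by rcases hm with rfl | rfl <;> norm_num) P, hH, pow_one] at this
    linarith
  obtain ⟨T⟩ : Nonempty (Sylow 3 f.ker) := inferInstance
  have hT : Nat.card (T : Subgroup f.ker) = 27 := by
    rw [Basic.card_sylow_eq_pow (a := 3) (m := m / 3) (by rw [hker]; omega)
      (by rcases hm with rfl | rfl <;> norm_num) T]; norm_num
  have htop := Sylow.normalizer_sup_eq_top T
  set NT := normalizer (((T : Subgroup f.ker).map f.ker.subtype : Subgroup H) : Set H) with hNT
  have h5 : 5 ∣ Nat.card NT := by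
    by_contra hn
    have hle : NT ≤ f.ker := fun a ha => by
      have hc : Nat.Coprime (Nat.card NT) 5 := ((Nat.Prime.coprime_iff_not_dvd (by norm_num)).2 hn).symm
      have h1 : (f a) ^ Nat.card NT = 1 := by
        rw [← map_pow, ← map_one f]
        congr 1
        exact congrArg Subtype.val (pow_card_eq_one' (x := (⟨a, ha⟩ : NT)))
      have h2 : (f a) ^ 5 = 1 := by
        have := pow_card_eq_one' (x := f a)
        rwa [Basic.card_sylow_eq_pow (a := 1) (m := 9 * m) (by rw [hH]; ring)
          (by rcases hm with rfl | rfl <;> norm_num) P, pow_one] at this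
      have := pow_gcd_eq_one.2 ⟨h1, h2⟩
      rwa [hc.gcd_eq_one, pow_one] at this
    rw [sup_eq_right.2 hle] at htop
    have := congrArg (fun S : Subgroup H => Nat.card S) htop
    simp only [Nat.card_congr (topEquiv : (⊤ : Subgroup H) ≃* H).toEquiv, hker, hH] at this
    omega
  obtain ⟨⟨v, hv⟩, hvo⟩ := exists_prime_orderOf_dvd_card' (G := NT) 5 h5
  rw [Subgroup.orderOf_mk] at hvo
  have hvo' : orderOf (v : G) = 5 := by
    rw [orderOf_submonoid (v : H)]; exact hvo
  set TG : Subgroup G := ((T : Subgroup f.ker).map f.ker.subtype).map H.subtype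
  refine not_normalize_twenty_seven hcard hvo' (fun h27 => ?_) TG
    (by rw [card_map_of_injective H.subtype_injective, card_map_of_injective f.ker.subtype_injective, hT]) ?_
  · obtain ⟨e, k, he, hk', hN', -⟩ := five_data hcard hvo'
    rw [card_normalizer_five hcard hu hvo', hN] at hN'
    rw [hk'] at h27
    have : k ∣ 18 := ⟨e, by linarith⟩
    have h27k : 27 ∣ k := (Nat.Coprime.dvd_of_dvd_mul_left (by norm_num) h27)
    exact absurd (h27k.trans this) (by norm_num)
  · have := le_normalizer_map H.subtype (mem_map_of_mem H.subtype hv)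
    exact this

/-- Not `k e = 18`. -/
theorem ke_ne_18 {u : G} (hu : orderOf u = 5) {e k : ℕ} (he : e = 2 ∨ e = 4) (hk : cen u = 5 * k)
    (hN : Nat.card (normalizer (zpowers u : Set G)) = 5 * k * e) : k * e ≠ 18 := by
  classical
  intro hke
  obtain ⟨rfl, rfl⟩ : e = 2 ∧ k = 9 := by rcases he with rfl | rfl <;> omega
  norm_num at hk hN
  have hG := not_comm hcard
  set C := centralizer ({u} : Set G) with hCdef
  set N := normalizer (zpowers u : Set G) with hNdef
  have huC : u ∈ C := mem_centralizer_singleton_iff.2 rfl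
  have hCN : C ≤ N := by
    refine le_trans ?_ (centralizer_le_normalizer _)
    rw [zpowers_eq_closure, centralizer_closure]
  -- the Sylow 3-subgroup of the centralizer
  obtain ⟨S₀⟩ : Nonempty (Sylow 3 C) := inferInstance
  set K : Subgroup G := (S₀ : Subgroup C).map C.subtype with hKdef
  have hKc : Nat.card K = 9 := by
    rw [hKdef, card_map_of_injective C.subtype_injective,
      Basic.card_sylow_eq_pow (a := 2) (m := 5) (show Nat.card C = 3 ^ 2 * 5 from hk) (by norm_num) S₀]
    norm_num
  have hKC : K ≤ C := map_subtype_le _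
  have hKcomm : ∀ a ∈ K, ∀ b ∈ K, Commute a b := fun a ha b hb => by
    haveI : IsMulCommutative K := IsPGroup.isMulCommutative_of_card_eq_prime_sq (p := 3)
      (by rw [hKc]; norm_num)
    exact congrArg Subtype.val (mul_comm' (⟨a, ha⟩ : K) ⟨b, hb⟩)
  have hgen : ∀ D : Subgroup G, u ∈ D → K ≤ D → C ≤ D := fun D huD hKD => by
    have h5 : 5 ∣ Nat.card (C ⊓ D : Subgroup G) := by
      have := orderOf_dvd_natCard (⟨u, mem_inf.2 ⟨huC, huD⟩⟩ : (C ⊓ D : Subgroup G))
      rwa [Subgroup.orderOf_mk, hu] at this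
    have h9 : 9 ∣ Nat.card (C ⊓ D : Subgroup G) := hKc ▸ card_dvd_of_le (le_inf hKC hKD)
    have := eq_of_le_of_card_ge (inf_le_left : C ⊓ D ≤ C) (by
      rw [show Nat.card C = 45 from hk]
      exact Nat.le_of_dvd Nat.card_pos (Nat.Coprime.mul_dvd_of_dvd_of_dvd (by norm_num) h5 h9 :))
    rw [← this]; exact inf_le_right
  have hCK : ∀ a ∈ K, C ≤ centralizer ({a} : Set G) := fun a ha => hgen _
    (mem_centralizer_singleton_iff.2 (mem_centralizer_singleton_iff.1 (hKC ha)).symm)
    fun b hb => mem_centralizer_singleton_iff.2 (hKcomm b hb a ha).eq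
  have hCC : C ≤ centralizer (C : Set G) := fun c hc => mem_centralizer_iff.2 fun d hd => by
    have : C ≤ centralizer ({c} : Set G) := hgen _
      (mem_centralizer_singleton_iff.2 (mem_centralizer_singleton_iff.1 hc).symm)
      fun b hb => mem_centralizer_singleton_iff.2 (mem_centralizer_singleton_iff.1 (hCK b hb hc)).symm
    exact mem_centralizer_singleton_iff.1 (this hd)
  -- overgroups
  have hover : ∀ H : Subgroup G, C ≤ H → ∃ m, m % 5 = 1 ∧
      ((Nat.card H = 45 * m ∧ N ⊓ H = C) ∨ (Nat.card H = 90 * m ∧ N ≤ H)) := by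
    intro H hH
    obtain ⟨m, hm, hm5⟩ := conj_count_mod hu (not_twentyfive hcard) H (hH huC)
    refine ⟨m, hm5, ?_⟩
    have h1 : C ≤ N ⊓ H := le_inf hCN hH
    have hd1 := card_dvd_of_le h1
    have hd2 := card_dvd_of_le (inf_le_left : N ⊓ H ≤ N)
    rw [show Nat.card C = 45 from hk] at hd1
    rw [hN] at hd2
    obtain ⟨c, hc⟩ := hd1
    have : c = 1 ∨ c = 2 := by
      have h2 : c ∣ 2 := Nat.dvd_of_mul_dvd_mul_left (by norm_num : 0 < 45) (hc ▸ hd2)
      exact (Nat.dvd_prime Nat.prime_two).1 h2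
    rcases this with rfl | rfl
    · left
      exact ⟨by rw [hm, hc]; ring, (eq_of_le_of_card_ge h1 (by rw [hc, show Nat.card C = 45 from hk])).symm⟩
    · right
      refine ⟨by rw [hm, hc]; ring, ?_⟩
      rw [← eq_of_le_of_card_ge (inf_le_left : N ⊓ H ≤ N) (by rw [hc, hN])]
      exact inf_le_right
  -- centralizers with a full Sylow 3-subgroup
  have hbig : ∀ w ∈ K, w ≠ 1 → 27 ∣ cen w →
      Nat.card (centralizer ({w} : Set G)) = 540 ∧ N ≤ centralizer ({w} : Set G) := by
    intro w hw hw1 h27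
    set H := centralizer ({w} : Set G) with hHdef
    have h7 := cen_le hcard w hw1
    have hH : C ≤ H := hCK w hw
    have h11 : ¬ 11 ∣ cen w := fun h => by
      obtain ⟨⟨y, hym⟩, hyo⟩ := exists_prime_orderOf_dvd_card' (G := H) 11 h
      rw [Subgroup.orderOf_mk] at hyo
      have hmem : w ∈ centralizer ({y} : Set G) :=
        mem_centralizer_singleton_iff.2 (mem_centralizer_singleton_iff.1 hym).symm
      have hw3 : orderOf w ∣ 9 := by
        have := orderOf_dvd_natCard (⟨w, hw⟩ : K)
        rwa [Subgroup.orderOf_mk, hKc] at this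
      have := orderOf_dvd_natCard (⟨w, hmem⟩ : centralizer ({y} : Set G))
      rw [Subgroup.orderOf_mk, show Nat.card (centralizer ({y} : Set G)) = 11 from
        (cen_eleven hcard hyo).1] at this
      exact hw1 (orderOf_eq_one_iff.1 (Nat.eq_one_of_dvd_coprimes (by norm_num) hw3 this))
    obtain ⟨m, hm5, hcase⟩ := hover H hH
    have hd := cen_dvd hcard w
    rcases hcase with ⟨hc, heq⟩ | ⟨hc, hle⟩
    · exfalso
      have hm : m = 6 ∨ m = 96 := by
        rw [show cen w = 45 * m from hc] at hd h27 h11 h7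
        have key : ∀ m ∈ Finset.range 177, 45 * m ∣ 95040 → 27 ∣ 45 * m → ¬ 11 ∣ 45 * m →
            m % 5 = 1 → m = 6 ∨ m = 96 := by decide +kernel
        exact key m (Finset.mem_range.2 (by omega)) hd h27 h11 hm5
      exact no_over_centralizer hcard hu hN hH hm hc heq
    · have hm : m = 6 := by
        rw [show cen w = 90 * m from hc] at hd h27 h11 h7
        have key : ∀ m ∈ Finset.range 89, 90 * m ∣ 95040 → 27 ∣ 90 * m → ¬ 11 ∣ 90 * m →
            m % 5 = 1 → m = 6 := by decide +kernel
        exact key m (Finset.mem_range.2 (by omega)) hd h27 h11 hm5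
      exact ⟨by rw [hc, hm], hle⟩
  -- some element of `K` is central in a Sylow 3-subgroup containing `K`
  obtain ⟨S, hKS⟩ := (IsPGroup.of_card (p := 3) (n := 2) (by rw [hKc]; norm_num) :
    IsPGroup 3 K).exists_le_sylow
  have hSc := card_sylow_three hcard S
  obtain ⟨w₀, hw₀, hw₀1, hw₀S⟩ : ∃ w ∈ K, w ≠ 1 ∧ (S : Subgroup G) ≤ centralizer ({w} : Set G) := by
    by_contra hno
    push Not at hno
    haveI : Nontrivial (S : Subgroup G) := Finite.one_lt_card_iff_nontrivial.1 (by rw [hSc]; norm_num)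
    haveI := S.2.center_nontrivial
    obtain ⟨z, hz⟩ := exists_ne (1 : center (S : Subgroup G))
    have hzc : ∀ s ∈ (S : Subgroup G), Commute s ((z : S) : G) := fun s hs =>
      congrArg Subtype.val (mem_center_iff.1 z.2 ⟨s, hs⟩)
    have hzK : ((z : S) : G) ∉ K := fun hzK => by
      refine hno _ hzK (fun h1 => hz (Subtype.ext (Subtype.ext h1))) fun s hs => ?_
      exact mem_centralizer_singleton_iff.2 (hzc s hs).eq
    -- then `S` is abelian
    obtain ⟨a, ha, ha1⟩ : ∃ a ∈ K, a ≠ 1 := by
      by_contra h; push Not at h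
      have : K = ⊥ := (eq_bot_iff_forall K).2 h
      rw [this, card_bot] at hKc; omega
    refine hno a ha ha1 ?_
    set D := (S : Subgroup G) ⊓ centralizer ({a} : Set G)
    have hlt : K < D := by
      refine lt_of_le_of_ne (le_inf hKS fun b hb => mem_centralizer_singleton_iff.2 (hKcomm b hb a ha).eq)
        fun h => hzK ?_
      rw [h]
      exact mem_inf.2 ⟨(z : S).2, mem_centralizer_singleton_iff.2 (hzc a (hKS ha)).eq.symm⟩
    rw [← eq_of_nine_lt hlt inf_le_left hKc hSc]
    exact inf_le_right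
  set H := centralizer ({w₀} : Set G) with hHdef
  obtain ⟨hHc, hNH⟩ := hbig w₀ hw₀ hw₀1 (hSc ▸ card_dvd_of_le hw₀S)
  have hCH : C ≤ H := hCN.trans hNH
  have huH : u ∈ H := hCH huC
  -- the action on the six Sylow 5-subgroups
  have hUH : zpowers u ≤ H := zpowers_le.2 huH
  have hP5 : ∀ Q : Sylow 5 H, Nat.card (Q : Subgroup H) = 5 := fun Q => by
    rw [Basic.card_sylow_eq_pow (a := 1) (m := 108) (show Nat.card H = 5 ^ 1 * 108 by rw [hHc]; norm_num)
      (by norm_num) Q, pow_one]
  obtain ⟨P, hP⟩ : ∃ P : Sylow 5 H, (P : Subgroup H) = (zpowers u).subgroupOf H := by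
    have hc : Nat.card ((zpowers u).subgroupOf H) = 5 := by
      rw [Nat.card_congr (subgroupOfEquivOfLe hUH).toEquiv, Nat.card_zpowers, hu]
    obtain ⟨P, hP⟩ := (IsPGroup.of_card (p := 5) (n := 1) (by rw [hc, pow_one]) :
      IsPGroup 5 ((zpowers u).subgroupOf H)).exists_le_sylow
    exact ⟨P, (eq_of_le_of_card_ge hP (by rw [hP5 P, hc])).symm⟩
  have hPN : normalizer ((P : Subgroup H) : Set H) = N.subgroupOf H := by
    rw [hP]
    ext a
    rw [hNdef, mem_subgroupOf, mem_normalizer_iff, mem_normalizer_iff]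
    constructor
    · intro h b
      refine ⟨fun hb => (h ⟨b, hUH hb⟩).1 hb, fun hb => ?_⟩
      have hbH : b ∈ H := by
        have := H.mul_mem (H.mul_mem (H.inv_mem a.2) (hUH hb)) a.2
        simpa [mul_assoc] using this
      exact (h ⟨b, hbH⟩).2 hb
    · intro h b
      exact h b
  have hsix : Nat.card (Sylow 5 H) = 6 := by
    have := Basic.card_normalizer_mul P
    rw [hPN, Nat.card_congr (subgroupOfEquivOfLe hNH).toEquiv, hN, hHc] at this
    omega
  let uH : H := ⟨u, huH⟩
  have huo : orderOf uH = 5 := by rw [Subgroup.orderOf_mk, hu]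
  have hfix : ∀ Q : Sylow 5 H, uH • Q = Q → Q = P := by
    intro Q hQ
    have huP : uH ∈ (P : Subgroup H) := hP ▸ mem_zpowers u
    have hPle : zpowers uH ≤ (P : Subgroup H) := zpowers_le.2 huP
    have hn : uH ∈ normalizer ((Q : Subgroup H) : Set H) := Sylow.smul_eq_iff_mem_normalizer.1 hQ
    have huQ : uH ∈ (Q : Subgroup H) := by
      have := IsPGroup.inf_normalizer_sylow (IsPGroup.of_card (p := 5) (n := 1)
        (by rw [Nat.card_zpowers, huo, pow_one]) : IsPGroup 5 (zpowers uH)) Q
      exact (mem_inf.1 (this ▸ mem_inf.2 ⟨mem_zpowers uH, hn⟩)).2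
    have h1 := eq_of_le_of_card_ge hPle (by rw [hP5 P, Nat.card_zpowers, huo])
    have h2 := eq_of_le_of_card_ge (zpowers_le.2 huQ) (by rw [hP5 Q, Nat.card_zpowers, huo])
    exact Sylow.ext (h2.symm.trans h1)
  have hKker : ∀ a ∈ K, ∀ (haH : a ∈ H) (Q : Sylow 5 H), (⟨a, haH⟩ : H) • Q = Q := by
    intro a ha haH
    set aH : H := ⟨a, haH⟩
    have hcomm : Commute aH uH := Subtype.ext (mem_centralizer_singleton_iff.1 (hKC ha) :)
    have hP' : uH • P = P := Sylow.smul_eq_iff_mem_normalizer.2 (le_normalizer (hP ▸ mem_zpowers u))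
    have haP : aH • P = P := hfix _ (by rw [← mul_smul, ← hcomm.eq, mul_smul, hP'])
    obtain ⟨Q₁, hQ₁⟩ : ∃ Q₁ : Sylow 5 H, Q₁ ≠ P := by
      haveI : Nontrivial (Sylow 5 H) := Finite.one_lt_card_iff_nontrivial.1 (by omega)
      exact exists_ne P
    haveI := Fintype.ofFinite (Sylow 5 H)
    have hcov : ∀ Q : Sylow 5 H, Q ≠ P → ∃ i : Fin 5, (uH ^ (i : ℕ)) • Q₁ = Q := by
      intro Q hQ
      have hinj : Function.Injective fun i : Fin 5 => (uH ^ (i : ℕ)) • Q₁ := by
        have hst : ∀ j : ℕ, j < 5 → uH ^ j • Q₁ = Q₁ → j = 0 := fun j hj h => by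
          by_contra h0
          obtain ⟨i, hi⟩ := exists_pow_eq_self_of_coprime (x := uH) (n := j)
            (by rw [huo]; exact (Nat.Prime.coprime_iff_not_dvd (by norm_num)).2 (fun hd => by
              have := Nat.le_of_dvd (Nat.pos_of_ne_zero h0) hd; omega) |>.symm)
          refine hQ₁ (hfix Q₁ ?_)
          rw [← hi]
          exact smul_pow_fixed (uH ^ j) Q₁ h i
        intro i j hij
        simp only at hij
        rcases le_total (i : ℕ) j with hle | hle
        · rw [show (j : ℕ) = i + (j - i) by omega, pow_add, mul_smul, smul_left_cancel_iff] at hij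
          exact Fin.ext (by have := hst _ (by omega) hij.symm; omega)
        · rw [show (i : ℕ) = j + (i - j) by omega, pow_add, mul_smul, smul_left_cancel_iff] at hij
          exact Fin.ext (by have := hst _ (by omega) hij; omega)
      have hsub : Finset.univ.image (fun i : Fin 5 => (uH ^ (i : ℕ)) • Q₁) ⊆ Finset.univ.erase P := by
        intro R hR
        obtain ⟨i, -, rfl⟩ := Finset.mem_image.1 hR
        refine Finset.mem_erase.2 ⟨fun h => hQ₁ ?_, Finset.mem_univ _⟩
        rw [← smul_pow_fixed uH P hP' (i : ℕ)] at h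
        exact smul_left_cancel _ h
      have heq := Finset.eq_of_subset_of_card_le hsub (by
        rw [Finset.card_image_of_injective _ hinj, Finset.card_erase_of_mem (Finset.mem_univ _),
          Finset.card_univ, ← Nat.card_eq_fintype_card, hsix, Finset.card_univ, Fintype.card_fin])
      obtain ⟨i, -, hi⟩ := Finset.mem_image.1 (heq ▸ Finset.mem_erase.2 ⟨hQ, Finset.mem_univ Q⟩ :)
      exact ⟨i, hi⟩
    obtain ⟨j, hj⟩ := hcov (aH • Q₁) fun h => hQ₁ (smul_left_cancel aH (h.trans haP.symm))
    have hagree : ∀ Q : Sylow 5 H, aH • Q = uH ^ (j : ℕ) • Q := by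
      intro Q
      by_cases hQ : Q = P
      · rw [hQ, haP, smul_pow_fixed uH P hP']
      · obtain ⟨i, rfl⟩ := hcov Q hQ
        rw [← mul_smul, (hcomm.pow_right i).eq, mul_smul, ← hj, ← mul_smul, ← mul_smul, ← pow_add,
          ← pow_add, add_comm]
    have h9 : ∀ (n : ℕ) (Q : Sylow 5 H), aH ^ n • Q = uH ^ ((j : ℕ) * n) • Q := by
      intro n
      induction n with
      | zero => intro Q; simp
      | succ n ih =>
        intro Q
        rw [pow_succ', mul_smul, hagree, ih, ← mul_smul, ← pow_add]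
        congr 2; ring
    have ha9 : aH ^ 9 = 1 := Subtype.ext (by
      have := pow_card_eq_one' (x := (⟨a, ha⟩ : K))
      rw [hKc] at this
      exact congrArg Subtype.val this :)
    have hj0 : (j : ℕ) = 0 := by
      have := h9 9 Q₁
      rw [ha9, one_smul] at this
      by_contra h0
      obtain ⟨i, hi⟩ := exists_pow_eq_self_of_coprime (x := uH) (n := (j : ℕ) * 9)
        (by rw [huo]; exact ((Nat.Prime.coprime_iff_not_dvd (by norm_num)).2 (fun hd => by
          have := j.2; omega)).symm)
      refine hQ₁ (hfix Q₁ ?_)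
      rw [← hi]
      exact smul_pow_fixed _ Q₁ this.symm i
    intro Q
    rw [hagree Q, hj0, pow_zero, one_smul]
  -- the kernel of this action is `K`
  let f := MulAction.toPermHom H (Sylow 5 H)
  have hker : ∀ a : H, a ∈ f.ker ↔ ∀ Q : Sylow 5 H, a • Q = Q := fun a => by
    rw [MonoidHom.mem_ker, Equiv.ext_iff]; rfl
  have hu_not : uH ∉ f.ker := fun h => by
    haveI : Nontrivial (Sylow 5 H) := Finite.one_lt_card_iff_nontrivial.1 (by omega)
    obtain ⟨Q₁, hQ₁⟩ := exists_ne P
    exact hQ₁ (hfix Q₁ ((hker uH).1 h Q₁))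
  have hkerK : ∀ a : H, a ∈ f.ker → (a : G) ∈ K := by
    intro a ha
    have haN : (a : G) ∈ N := mem_subgroupOf.1 (hPN ▸ Sylow.smul_eq_iff_mem_normalizer.1 ((hker a).1 ha P))
    obtain ⟨c, hcU, hc⟩ : ∃ c, c ∈ zpowers u ∧ (a : G) * u * (a : G)⁻¹ * u⁻¹ = c :=
      ⟨_, mul_mem ((mem_normalizer_iff.1 haN u).1 (mem_zpowers u)) (inv_mem (mem_zpowers u)), rfl⟩
    have hck : (⟨c, hUH hcU⟩ : H) ∈ f.ker := by
      have h1 : a * (uH * a⁻¹ * uH⁻¹) ∈ f.ker :=
        mul_mem ha (f.normal_ker.conj_mem _ (inv_mem ha) uH)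
      convert h1 using 1
      refine Subtype.ext ?_
      show c = (a : G) * (u * (a : G)⁻¹ * u⁻¹)
      rw [← hc]; group
    have hc1 : c = 1 := by
      by_contra hne
      obtain ⟨i, hi⟩ := mem_zpowers_iff.1 hcU
      have hco : orderOf c = 5 := by
        have := orderOf_dvd_natCard (⟨c, hcU⟩ : zpowers u)
        rw [Subgroup.orderOf_mk, Nat.card_zpowers, hu] at this
        exact ((Nat.dvd_prime (by norm_num)).1 this).resolve_left fun h => hne (orderOf_eq_one_iff.1 h)
      have hz := eq_of_le_of_card_ge (zpowers_le.2 hcU) (by rw [Nat.card_zpowers, Nat.card_zpowers, hu, hco])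
      obtain ⟨i', hi'⟩ := mem_zpowers_iff.1 (hz ▸ mem_zpowers u : u ∈ zpowers c)
      refine hu_not ?_
      rw [show uH = (⟨c, hUH hcU⟩ : H) ^ i' from Subtype.ext (by simpa using hi'.symm)]
      exact zpow_mem hck i'
    have haC : (a : G) ∈ C := by
      rw [hc1, mul_inv_eq_one, mul_inv_eq_iff_eq_mul] at hc
      exact mem_centralizer_singleton_iff.2 hc
    -- its 5-part is a power of `u` in the kernel
    have h45 : (a : G) ^ 45 = 1 := by
      have := pow_card_eq_one' (x := (⟨a, haC⟩ : C))
      rw [show Nat.card C = 45 from hk] at this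
      exact congrArg Subtype.val this
    set o := orderOf (a : G) with ho
    have hod : o ∣ 45 := orderOf_dvd_of_pow_eq_one h45
    have h5o : ¬ 5 ∣ o := fun h5 => by
      have hbo : orderOf ((a : G) ^ (o / 5)) = 5 := by
        rw [orderOf_pow_of_dvd (by intro h0; have := orderOf_pos (a : G); rw [← ho] at this
                                   obtain ⟨d, hd⟩ := h5; omega) (Nat.div_dvd_of_dvd h5)]
        exact Nat.div_div_self h5 (orderOf_pos (a : G)).ne'
      have hbC : (a : G) ^ (o / 5) ∈ C := pow_mem haC _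
      obtain ⟨Q, hQ⟩ := (IsPGroup.of_card (p := 5) (n := 1) (by rw [Nat.card_zpowers, hbo, pow_one]) :
        IsPGroup 5 (zpowers ((a : G) ^ (o / 5)))).exists_le_sylow
      -- both commuting subgroups of order five generate a 5-group
      have hz : (a : G) ^ (o / 5) ∈ zpowers u := by
        by_contra hne
        have hnorm : zpowers ((a : G) ^ (o / 5)) ≤ normalizer (zpowers u : Set G) :=
          zpowers_le.2 (hCN hbC)
        have hp : IsPGroup 5 (zpowers ((a : G) ^ (o / 5)) ⊔ zpowers u : Subgroup G) :=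
          (IsPGroup.of_card (p := 5) (n := 1) (by rw [Nat.card_zpowers, hbo, pow_one])).to_sup_of_normal_right'
            (IsPGroup.of_card (p := 5) (n := 1) (by rw [Nat.card_zpowers, hu, pow_one])) hnorm
        obtain ⟨R, hR⟩ := hp.exists_le_sylow
        have := eq_of_le_of_card_ge (le_sup_right.trans hR : zpowers u ≤ (R : Subgroup G))
          (by rw [card_sylow_five hcard R, Nat.card_zpowers, hu])
        exact hne (this ▸ hR (mem_sup_left (mem_zpowers _)))
      obtain ⟨i', hi'⟩ := mem_zpowers_iff.1 ((eq_of_le_of_card_ge (zpowers_le.2 hz)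
        (by rw [Nat.card_zpowers, Nat.card_zpowers, hu, hbo])).ge (mem_zpowers u))
      refine hu_not ?_
      rw [show uH = (a ^ (o / 5)) ^ i' from Subtype.ext (by simpa using hi'.symm)]
      exact zpow_mem (pow_mem ha _) i'
    have h9 : o ∣ 9 :=
      (((Nat.Prime.coprime_iff_not_dvd (by norm_num)).2 h5o).symm).dvd_of_dvd_mul_left
        (show o ∣ 5 * 9 from hod)
    obtain ⟨R, hR⟩ := (IsPGroup.of_card (p := 3) (n := 2) (by rw [hKc]; norm_num) :
      IsPGroup 3 K).exists_le_sylow
    by_contra hne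
    set D := C ⊓ centralizer ({(a : G)} : Set G) with hD
    have haa : IsPGroup 3 (zpowers (a : G)) := by
      obtain ⟨i, hi, hie⟩ := (Nat.dvd_prime_pow Nat.prime_three).1 (show o ∣ 3 ^ 2 from h9)
      exact IsPGroup.of_card (n := i) (by rw [Nat.card_zpowers, ← ho, hie])
    have hnorm : zpowers (a : G) ≤ normalizer (K : Set G) := zpowers_le.2
      (centralizer_le_normalizer _ (mem_centralizer_iff.2 fun b hb =>
        mem_centralizer_iff.1 (hCC haC) b (hKC hb)))
    have hp : IsPGroup 3 (zpowers (a : G) ⊔ K : Subgroup G) :=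
      haa.to_sup_of_normal_right' (IsPGroup.of_card (n := 2) (by rw [hKc]; norm_num)) hnorm
    obtain ⟨i, hi⟩ := hp.exists_card_eq
    have hsub : zpowers (a : G) ⊔ K ≤ C := sup_le (zpowers_le.2 haC) hKC
    have hd := card_dvd_of_le hsub
    rw [hi, show Nat.card C = 3 ^ 2 * 5 from hk] at hd
    have hd' : 3 ^ i ∣ 3 ^ 2 :=
      (Nat.Coprime.pow_left i (by norm_num : Nat.Coprime 3 5)).dvd_of_dvd_mul_right hd
    have := eq_of_le_of_card_ge (le_sup_right : K ≤ zpowers (a : G) ⊔ K) (by
      rw [hi, hKc]; exact Nat.le_of_dvd (by norm_num) hd')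
    exact hne (this ▸ mem_sup_left (mem_zpowers _))
  have hKH : K ≤ H := hKC.trans hCH
  have hKnorm : ∀ h ∈ H, ∀ a ∈ K, h * a * h⁻¹ ∈ K := fun h hh a ha => by
    have h1 : (⟨a, hKH ha⟩ : H) ∈ f.ker := (hker _).2 (hKker a ha _)
    exact hkerK _ (f.normal_ker.conj_mem _ h1 ⟨h, hh⟩)
  -- `K` is central in `H`
  have hKcen : H ≤ centralizer (K : Set G) := by
    set D := H ⊓ centralizer (K : Set G) with hDdef
    have hCD : C ≤ D := le_inf hCH fun c hc => mem_centralizer_iff.2 fun a ha =>
      (mem_centralizer_singleton_iff.1 (hCK a ha hc)).symm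
    obtain ⟨m, hm5, hcase⟩ := hover D hCD
    have hDd : Nat.card D ∣ 540 := hHc ▸ card_dvd_of_le inf_le_left
    have hconj : ∀ h ∈ H, h * u * h⁻¹ ∈ D := fun h hh => by
      refine mem_inf.2 ⟨mul_mem (mul_mem hh huH) (inv_mem hh), mem_centralizer_iff.2 fun a ha => ?_⟩
      have h1 := hKnorm h⁻¹ (inv_mem hh) a ha
      rw [inv_inv] at h1
      have h2 : Commute (h⁻¹ * a * h) u := mem_centralizer_singleton_iff.1 (hKC h1)
      calc a * (h * u * h⁻¹) = h * ((h⁻¹ * a * h) * u) * h⁻¹ := by group
        _ = h * (u * (h⁻¹ * a * h)) * h⁻¹ := by rw [h2.eq]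
        _ = (h * u * h⁻¹) * a := by group
    have hm1 : m ≠ 1 := by
      rintro rfl
      have hDN : D ≤ N := by
        rcases hcase with ⟨hc, heq⟩ | ⟨hc, hle⟩
        · rw [← eq_of_le_of_card_ge hCD (by rw [hc, show Nat.card C = 45 from hk])]; exact hCN
        · exact (eq_of_le_of_card_ge hle (by rw [hc, hN])).ge
      haveI : Nontrivial (Sylow 5 H) := Finite.one_lt_card_iff_nontrivial.1 (by omega)
      obtain ⟨Q₁, hQ₁⟩ := exists_ne P
      obtain ⟨g, hg⟩ := MulAction.exists_smul_eq H Q₁ P
      apply hQ₁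
      apply hfix
      rw [← smul_left_cancel_iff g, ← mul_smul, show g * uH = (g * uH * g⁻¹) * g by group, mul_smul, hg]
      refine Sylow.smul_eq_iff_mem_normalizer.2 ?_
      show g * uH * g⁻¹ ∈ normalizer ((P : Subgroup H) : Set H)
      rw [hPN, mem_subgroupOf]
      exact hDN (hconj (g : G) g.2)
    rcases hcase with ⟨hc, heq⟩ | ⟨hc, -⟩
    · exfalso
      have hm : m = 6 := by
        rw [hc] at hDd
        have key : ∀ m ∈ Finset.range 13, 45 * m ∣ 540 → m % 5 = 1 → m ≠ 1 → m = 6 := by decide +kernel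
        exact key m (Finset.mem_range.2 (by have := Nat.le_of_dvd (by norm_num) hDd; omega)) hDd hm5 hm1
      exact no_over_centralizer hcard hu hN hCD (Or.inl hm) hc heq
    · have hm : m = 6 := by
        rw [hc] at hDd
        have key : ∀ m ∈ Finset.range 7, 90 * m ∣ 540 → m % 5 = 1 → m ≠ 1 → m = 6 := by decide +kernel
        exact key m (Finset.mem_range.2 (by have := Nat.le_of_dvd (by norm_num) hDd; omega)) hDd hm5 hm1
      have := eq_of_le_of_card_ge (inf_le_left : D ≤ H) (by rw [hc, hHc, hm])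
      rw [← this]; exact inf_le_right
  -- hence every centralizer of an element of `K` is `H`
  have hall : ∀ w ∈ K, w ≠ 1 → centralizer ({w} : Set G) = H := fun w hw hw1 => by
    have hle : H ≤ centralizer ({w} : Set G) := fun h hh =>
      mem_centralizer_singleton_iff.2 (mem_centralizer_iff.1 (hKcen hh) w hw).symm
    have h27 : 27 ∣ cen w := dvd_trans (by rw [hHc]; norm_num) (card_dvd_of_le hle)
    exact (eq_of_le_of_card_ge hle (by rw [(hbig w hw hw1 h27).1, hHc])).symm
  -- so the normalizer of `S` lies in `H`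
  have hNS : normalizer ((S : Subgroup G) : Set G) ≤ H := by
    intro n hn
    set K' := K.map (MulAut.conj n).toMonoidHom with hK'
    have hK'S : K' ≤ (S : Subgroup G) := by
      rintro y ⟨z, hz, rfl⟩
      exact (mem_normalizer_iff.1 hn z).1 (hKS hz)
    obtain ⟨w, hwK, hwK', hw1⟩ : ∃ w, w ∈ K ∧ w ∈ K' ∧ w ≠ 1 := by
      by_contra hno
      push Not at hno
      have hinj : Function.Injective fun p : K × K' =>
          (⟨(p.1 : G) * p.2, mul_mem (hKS p.1.2) (hK'S p.2.2)⟩ : (S : Subgroup G)) := by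
        rintro ⟨a, b⟩ ⟨a', b'⟩ h
        have h' : (a : G) * b = a' * b' := congrArg Subtype.val h
        have h1 : (a' : G)⁻¹ * a = b' * (b : G)⁻¹ := by
          rw [eq_mul_inv_iff_mul_eq, mul_assoc, h']; group
        have h2 := hno _ (mul_mem (inv_mem a'.2) a.2) (h1 ▸ mul_mem b'.2 (inv_mem b.2))
        have ha : (a : G) = a' := by
          rw [inv_mul_eq_one] at h2; exact h2.symm
        have hb : (b : G) = b' := by rwa [ha, mul_right_inj] at h'
        exact Prod.ext (Subtype.ext ha) (Subtype.ext hb)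
      have := Nat.card_le_card_of_injective _ hinj
      rw [Nat.card_prod, hKc, hK', card_map_of_injective (MulAut.conj n).injective, hKc, hSc] at this
      omega
    obtain ⟨z, hz, hzw⟩ := hwK'
    replace hzw : n * z * n⁻¹ = w := hzw
    have hz1 : z ≠ 1 := fun h => hw1 (by rw [← hzw, h]; group)
    have hnH : ∀ h ∈ H, n * h * n⁻¹ ∈ H := fun h hh => by
      rw [← hall w hwK hw1]
      refine mem_centralizer_singleton_iff.2 ?_
      have : Commute h z := mem_centralizer_singleton_iff.1 ((hall z hz hz1).symm ▸ hh)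
      rw [← hzw]
      calc n * h * n⁻¹ * (n * z * n⁻¹) = n * (h * z) * n⁻¹ := by group
        _ = n * (z * h) * n⁻¹ := by rw [this.eq]
        _ = n * z * n⁻¹ * (n * h * n⁻¹) := by group
    -- move the Sylow 5-subgroup back
    have hv : n * u * n⁻¹ ∈ H := hnH u huH
    set vH : H := ⟨n * u * n⁻¹, hv⟩ with hvH
    have hvo : orderOf vH = 5 := by
      rw [hvH, Subgroup.orderOf_mk, ← hu]
      exact MulEquiv.orderOf_eq (MulAut.conj n) u
    obtain ⟨Q, hQ⟩ := (IsPGroup.of_card (p := 5) (n := 1) (by rw [Nat.card_zpowers, hvo, pow_one]) :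
      IsPGroup 5 (zpowers vH)).exists_le_sylow
    obtain ⟨h, hh⟩ := MulAction.exists_smul_eq H Q P
    have hmem : h * vH * h⁻¹ ∈ (P : Subgroup H) := by
      rw [← hh, Sylow.smul_def]
      exact ⟨vH, hQ (mem_zpowers _), rfl⟩
    rw [hP, mem_subgroupOf] at hmem
    replace hmem : (h : G) * (n * u * n⁻¹) * (h : G)⁻¹ ∈ zpowers u := hmem
    have hhn : (h : G) * n ∈ N := by
      have himg : (zpowers u).map (MulAut.conj ((h : G) * n)).toMonoidHom ≤ zpowers u := by
        rw [MonoidHom.map_zpowers, zpowers_le]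
        show (h : G) * n * u * ((h : G) * n)⁻¹ ∈ zpowers u
        rw [show (h : G) * n * u * ((h : G) * n)⁻¹ = (h : G) * (n * u * n⁻¹) * (h : G)⁻¹ by group]
        exact hmem
      have := eq_of_le_of_card_ge himg (by rw [card_map_of_injective (MulAut.conj _).injective])
      rw [hNdef, mem_normalizer_iff]
      intro y
      constructor
      · intro hy; rw [← this]; exact ⟨y, hy, rfl⟩
      · intro hy
        rw [← this] at hy
        obtain ⟨z, hz, hzy⟩ := hy
        rwa [show z = y from (MulAut.conj _).injective hzy] at hz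
    have := H.mul_mem (H.inv_mem h.2) (hNH hhn)
    simpa using this
  -- transfer into `S`
  have hSab : IsMulCommutative (S : Subgroup G) := by
    obtain ⟨a, ha, haK⟩ : ∃ a ∈ (S : Subgroup G), a ∉ K := by
      by_contra h; push Not at h
      have := card_dvd_of_le (show (S : Subgroup G) ≤ K from h)
      rw [hSc, hKc] at this
      norm_num at this
    set D := (S : Subgroup G) ⊓ centralizer ({a} : Set G) with hD
    have hlt : K < D := lt_of_le_of_ne (le_inf hKS fun b hb => mem_centralizer_singleton_iff.2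
      (mem_centralizer_iff.1 (hKcen (hNS (le_normalizer ha))) b hb))
      fun h => haK (h.symm ▸ mem_inf.2 ⟨ha, mem_centralizer_singleton_iff.2 rfl⟩)
    have hDS : D = (S : Subgroup G) := eq_of_nine_lt hlt inf_le_left hKc hSc
    have hSa : ∀ b ∈ (S : Subgroup G), Commute b a := fun b hb =>
      mem_centralizer_singleton_iff.1 (mem_inf.1 (hDS.ge hb)).2
    refine ⟨⟨fun b c => Subtype.ext ?_⟩⟩
    show (b : G) * c = c * b
    set E := (S : Subgroup G) ⊓ centralizer ({(b : G)} : Set G) with hE
    have hKE : K ≤ E := le_inf hKS fun k' hk' => mem_centralizer_singleton_iff.2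
      (mem_centralizer_iff.1 (hKcen (hNS (le_normalizer b.2))) k' hk')
    have hlt' : K < E := lt_of_le_of_ne hKE fun h => haK (h.symm ▸ mem_inf.2 ⟨ha,
      mem_centralizer_singleton_iff.2 (hSa b b.2).eq.symm⟩)
    have hES : E = (S : Subgroup G) := eq_of_nine_lt hlt' inf_le_left hKc hSc
    exact (mem_centralizer_singleton_iff.1 (mem_inf.1 (hES.ge c.2)).2).symm
  haveI := hSab
  have key : ∀ (j : ℕ) (g₀ : G), g₀⁻¹ * w₀ ^ j * g₀ ∈ (S : Subgroup G) →
      g₀⁻¹ * w₀ ^ j * g₀ = w₀ ^ j := by
    intro j g₀ h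
    obtain ⟨n, hn, he⟩ := S.conj_eq_normalizer_conj_of_mem (w₀ ^ j) g₀ (hKS (pow_mem hw₀ j)) h
    rw [he]
    exact Commute.inv_mul_cancel (mem_centralizer_iff.1 (hKcen (hNS hn)) _ (pow_mem hw₀ j)).symm
  open scoped IsMulCommutative in
  have htr : ∀ g, MonoidHom.transfer (MonoidHom.id (S : Subgroup G)) g = 1 := by
    intro g
    rcases (MonoidHom.transfer (MonoidHom.id (S : Subgroup G))).normal_ker.eq_bot_or_eq_top with h | h
    · exact absurd ⟨⟨fun a b => (MonoidHom.ker_eq_bot_iff _).1 h (by rw [map_mul, map_mul, mul_comm])⟩⟩ hG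
    · exact MonoidHom.mem_ker.1 (h ▸ mem_top g)
  open scoped IsMulCommutative in
  have htp : w₀ ^ (S : Subgroup G).index = 1 := by
    have h := htr w₀
    rw [MonoidHom.transfer_eq_pow _ w₀ key, MonoidHom.id_apply] at h
    exact congrArg Subtype.val h
  have hw9 : w₀ ^ 9 = 1 := by
    have := pow_card_eq_one' (x := (⟨w₀, hw₀⟩ : K))
    rw [hKc] at this
    exact congrArg Subtype.val this
  have hidx : (S : Subgroup G).index = 3520 := by
    have := card_mul_index (S : Subgroup G)
    rw [hSc, hcard] at this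
    omega
  rw [hidx] at htp
  refine hw₀1 ?_
  have := pow_gcd_eq_one.2 ⟨htp, hw9⟩
  rwa [show Nat.gcd 3520 9 = 1 by norm_num, pow_one] at this

/-- Some involution commutes with an element of order five. -/
theorem exists_five_two : ∃ u t : G, orderOf u = 5 ∧ orderOf t = 2 ∧ Commute u t := by
  obtain ⟨u, hu⟩ := exists_prime_orderOf_dvd_card' (G := G) 5 (by rw [hcard]; norm_num)
  obtain ⟨e, k, he, hk, hN, hmem⟩ := five_data hcard hu
  have h108 := ke_ne_108 hcard hu he hk hN
  have h18 := ke_ne_18 hcard hu he hk hN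
  simp only [List.mem_cons, List.not_mem_nil, or_false] at hmem
  have h2k : 2 ∣ k := by rcases he with rfl | rfl <;> omega
  obtain ⟨⟨t, htm⟩, hto⟩ := exists_prime_orderOf_dvd_card' (G := centralizer ({u} : Set G)) 2
    (show 2 ∣ cen u by rw [hk]; exact h2k.mul_left 5)
  rw [Subgroup.orderOf_mk] at hto
  exact ⟨u, t, hu, hto, (mem_centralizer_singleton_iff.1 htm).symm⟩

end

end Cfsg.Agent.M12Order
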