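import Cfsg.Agent.Lib.M12Order.BlockScan
import Cfsg.Agent.Lib.M12Order.Five
import Cfsg.Agent.Lib.FrobeniusSchur.Basic

/-!
# Simple groups of order 95040: the principal 11-block
-/

set_option autoImplicit false
set_option linter.style.haveILetI false
set_option linter.unusedSectionVars false

namespace Cfsg.Agent.M12Order

open Subgroup
open Cfsg.Agent.Characters Cfsg.Agent.Blocks Cfsg.Agent.PrimeBlock
open Cfsg.Agent.SmallSimple
open scoped ComplexConjugate

universe u

variable {G : Type u} [Group G] [Finite G]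

/-- A permutation of the images comes from a permutation of the list. -/
theorem exists_perm_of_map_perm {α β : Type*} (f : α → β) :
    ∀ {M : List β} {l : List α}, (l.map f).Perm M → ∃ l' : List α, l'.Perm l ∧ l'.map f = M
  | [], l, h => ⟨l, List.Perm.refl _, List.perm_nil.1 h⟩
  | a :: M, l, h => by
    classical
    obtain ⟨b, hb, rfl⟩ := List.mem_map.1 (h.symm.subset (List.mem_cons_self ..))
    have hl : l.Perm (b :: l.erase b) := List.perm_cons_erase hb
    obtain ⟨l', hl', rfl⟩ := exists_perm_of_map_perm f (M := M) (l := l.erase b)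
      (((hl.map f).symm.trans h).cons_inv)
    exact ⟨b :: l', (hl'.cons b).trans hl.symm, rfl⟩

open scoped Classical in
/-- The members of the principal block at the prime eleven. -/
noncomputable def blockSet (a b c d θ θ' : Cfsg.IrrCharacter G) :
    Finset (Cfsg.IrrCharacter G) := {trivIrr G, a, b, c, d, θ, θ'}

/-- The principal block at the prime eleven, with the values at involutions. -/
structure Frame (G : Type u) [Group G] [Finite G] where
  x : G
  hx : orderOf x = 11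
  c45 : Cfsg.IrrCharacter G
  c54 : Cfsg.IrrCharacter G
  c120 : Cfsg.IrrCharacter G
  c144 : Cfsg.IrrCharacter G
  θ : Cfsg.IrrCharacter G
  θ' : Cfsg.IrrCharacter G
  d45 : deg c45 = 45
  d54 : deg c54 = 54
  d120 : deg c120 = 120
  d144 : deg c144 = 144
  d16 : deg θ = 16
  d16' : deg θ' = 16
  ne : θ' ≠ θ
  rel : ∀ g : G, ¬ 11 ∣ orderOf g →
    1 + (c45 : G → ℂ) g - (c54 : G → ℂ) g - (c120 : G → ℂ) g + (c144 : G → ℂ) g = (θ : G → ℂ) g
  same : ∀ g : G, ¬ 11 ∣ orderOf g → (θ' : G → ℂ) g = (θ : G → ℂ) g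
  int45 : ∀ g, ∃ k : ℤ, (c45 : G → ℂ) g = (k : ℂ)
  int54 : ∀ g, ∃ k : ℤ, (c54 : G → ℂ) g = (k : ℂ)
  int120 : ∀ g, ∃ k : ℤ, (c120 : G → ℂ) g = (k : ℂ)
  int144 : ∀ g, ∃ k : ℤ, (c144 : G → ℂ) g = (k : ℂ)
  x45 : (c45 : G → ℂ) x = 1
  x54 : (c54 : G → ℂ) x = -1
  x120 : (c120 : G → ℂ) x = -1
  x144 : (c144 : G → ℂ) x = 1
  xsum : (θ : G → ℂ) x + (θ' : G → ℂ) x = -1
  xconj : conj ((θ : G → ℂ) x) = (θ' : G → ℂ) x
  xne : (θ : G → ℂ) x ≠ (θ' : G → ℂ) x
  rest : ∀ χ : Cfsg.IrrCharacter G, χ ∉ blockSet c45 c54 c120 c144 θ θ' →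
    (χ : G → ℂ) x = 0 ∧ 11 ∣ deg χ
  tab : ∀ t : G, orderOf t = 2 →
    (cen t, [iv t c45, -iv t c54, -iv t c120, iv t c144]) ∈ table

section

variable [IsSimpleGroup G] (hcard : Nat.card G = 95040)

include hcard

/-- No two conjugate involutions have a product of order eleven. -/
theorem zero_coeff [Fintype G] [Fintype (Cfsg.IrrCharacter G)] {x t : G} (hx : orderOf x = 11)
    (ht : orderOf t = 2) :
    ∑ χ : Cfsg.IrrCharacter G,
      (χ : G → ℂ) t * (χ : G → ℂ) t * conj ((χ : G → ℂ) x) / (χ : G → ℂ) 1 = 0 := by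
  classical
  have hG : (Nat.card G : ℂ) ≠ 0 := natCard_ne_zero
  refine mul_left_cancel₀ hG ?_
  rw [mul_zero, Finset.mul_sum]
  have h : ∀ χ : Cfsg.IrrCharacter G,
      (Nat.card G : ℂ) * ((χ : G → ℂ) t * (χ : G → ℂ) t * conj ((χ : G → ℂ) x) / (χ : G → ℂ) 1) =
        ∑ g : G, (χ : G → ℂ) (t * (g * t * g⁻¹)) * conj ((χ : G → ℂ) x) := fun χ => by
    rw [← Finset.sum_mul, sum_mul_conjugates χ.2]
    ring
  rw [Finset.sum_congr rfl fun χ _ => h χ, Finset.sum_comm]
  refine Finset.sum_eq_zero fun g _ => ?_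
  rw [second_orthogonality, if_neg]
  intro hc
  set y := t * (g * t * g⁻¹) with hy
  obtain ⟨a, ha⟩ := isConj_iff.1 hc
  have hyo : orderOf y = 11 := by
    rw [← hx, ← ha]; exact (MulEquiv.orderOf_eq (MulAut.conj a) y).symm
  have htt : t * t = 1 := by rw [← sq, ← ht]; exact pow_orderOf_eq_one t
  have hinv : t * y * t⁻¹ = y⁻¹ := by
    rw [hy]
    simp only [mul_inv_rev, inv_inv, inv_eq_of_mul_eq_one_left htt, ← mul_assoc, htt, one_mul]
  obtain ⟨P, hP⟩ := sylow_of_order_eleven hcard hyo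
  have hN := (cen_eleven hcard hyo).2 P hP
  have hmem : t ∈ normalizer ((P : Subgroup G) : Set G) := by
    rw [hP, mem_normalizer_iff]
    intro z
    constructor
    · intro hz
      obtain ⟨k, rfl⟩ := mem_zpowers_iff.1 hz
      rw [← conj_zpow, hinv, inv_zpow]
      exact inv_mem (zpow_mem (mem_zpowers y) k)
    · intro hz
      obtain ⟨k, hk⟩ := mem_zpowers_iff.1 hz
      have : z = t⁻¹ * (y ^ k) * t := by rw [hk]; group
      rw [this, show t⁻¹ * y ^ k * t = t * y ^ k * t⁻¹ by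
        rw [inv_eq_of_mul_eq_one_left htt], ← conj_zpow, hinv, inv_zpow]
      exact inv_mem (zpow_mem (mem_zpowers y) k)
  have := orderOf_dvd_natCard (⟨t, hmem⟩ : normalizer ((P : Subgroup G) : Set G))
  rw [Subgroup.orderOf_mk, ht, hN] at this
  norm_num at this

/-- The number of normalizer classes of an element of order eleven. -/
theorem pblock_e {P : Sylow 11 G} (D : PBlock P) : D.e = 5 ∧
    Nat.card (centralizer ((P : Subgroup G) : Set G)) = 11 := by
  obtain ⟨y, hy1, hy⟩ := D.exists_ne_one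
  have hz := (D.zpowers_eq hy hy1).symm
  obtain ⟨hc, hN⟩ := cen_eleven hcard (D.orderOf_eq hy hy1)
  rw [cen, D.centralizer_eq hy hy1] at hc
  refine ⟨?_, hc⟩
  have := relIndex_mul_relIndex ⊥ (centralizer ((P : Subgroup G) : Set G))
    (normalizer ((P : Subgroup G) : Set G)) bot_le (centralizer_le_normalizer _)
  rw [relIndex_bot_left, relIndex_bot_left, D.he, hc, hN P hz] at this
  omega

/-- The values of the members at an involution satisfy the block relations. -/
theorem values_ok {P : Sylow 11 G} (D : PBlock P) (htX : trivIrr G ∈ D.X)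
    (hts : D.sgn (trivIrr G) = 1) {t : G} (ht : orderOf t = 2) (five : Bool)
    (hfive : five = true → ∀ χ : Cfsg.IrrCharacter G, 5 ∣ deg χ → (5 : ℤ) ∣ iv t χ)
    {L : List (Cfsg.IrrCharacter G)} (hL : ∀ [DecidableEq (Cfsg.IrrCharacter G)],
      L.Perm (D.X.erase (trivIrr G)).toList) :
    L.map (fun χ => D.sgn χ * iv t χ) ∈
        valLists (cen t) five (L.map fun χ => D.sgn χ * (deg χ : ℤ)) ∧
      valOK (cen t) five (L.map fun χ => D.sgn χ * (deg χ : ℤ))
        (L.map fun χ => D.sgn χ * iv t χ) = true := by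
  classical
  haveI := Fintype.ofFinite G
  haveI := Fintype.ofFinite (Cfsg.IrrCharacter G)
  have hG := not_comm hcard
  obtain ⟨he, hC⟩ := pblock_e hcard D
  obtain ⟨θ, hθ⟩ := D.Y_nonempty
  have hθ1 : θ ≠ trivIrr G := fun h => Finset.disjoint_left.1 D.disj htX (h ▸ hθ)
  have ht11 : ¬ 11 ∣ orderOf t := by rw [ht]; norm_num
  have ht1 : t ≠ 1 := fun h => by rw [h, orderOf_one] at ht; norm_num at ht
  set C := cen t with hCdef
  set v := iv t with hv
  have hh : (cls t : ℤ) = ((95040 / C : ℕ) : ℤ) := by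
    rw [← cen_mul_cls hcard t, Nat.mul_div_cancel_left _ (Nat.card_pos : 0 < C)]
  have hmem : ∀ χ : Cfsg.IrrCharacter G, χ ≠ trivIrr G → ∀ s : ℤ, (s = 1 ∨ s = -1) →
      memOK' C five (s * (deg χ : ℤ)) (s * v χ) = true := by
    intro χ hne s hs
    have hlt := iv_lt hG ht hne
    have h4 := iv_four hG ht χ
    have hdv := deg_dvd_cls hcard χ (iv_spec hG ht χ)
    rw [hh] at hdv
    change (deg χ : ℤ) ∣ ((95040 / C : ℕ) : ℤ) * v χ at hdv
    change |v χ| < (deg χ : ℤ) at hlt
    change (4 : ℤ) ∣ (deg χ : ℤ) - v χ at h4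
    have hlt' := abs_lt.1 hlt
    have hsq : v χ * v χ ≤ (C : ℤ) := by
      have h := iv_sq_le hG ht ({χ} : Finset (Cfsg.IrrCharacter G))
      rwa [Finset.sum_singleton] at h
    simp only [memOK', Bool.and_eq_true, Bool.or_eq_true, decide_eq_true_eq]
    refine ⟨⟨⟨⟨?_, ?_⟩, ?_⟩, ?_⟩, ?_⟩
    · rcases hs with rfl | rfl <;> omega
    · rcases hs with rfl | rfl <;> omega
    · apply Int.emod_eq_zero_of_dvd
      rw [mul_left_comm]
      exact mul_dvd_mul_left _ hdv
    · rcases hs with rfl | rfl <;> simpa using hsq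
    · cases five with
      | false => simp
      | true =>
        by_cases h5 : 5 ∣ deg χ
        · obtain ⟨k, hk⟩ := hfive rfl χ h5
          refine Or.inr ?_
          rw [show v χ = 5 * k from hk]
          rcases hs with rfl | rfl <;> omega
        · exact Or.inl (Or.inr (by rcases hs with rfl | rfl <;> omega))
  have hLe : ∀ χ ∈ L, χ ∈ D.X ∧ χ ≠ trivIrr G := fun χ hχ => by
    have := Finset.mem_erase.1 (Finset.mem_toList.1 (hL.mem_iff.1 hχ))
    exact ⟨this.2, this.1⟩
  have hsum : ∀ f : Cfsg.IrrCharacter G → ℤ, (L.map f).sum = ∑ χ ∈ D.X.erase (trivIrr G), f χ :=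
    fun f => by rw [(hL.map f).sum_eq, Finset.sum_map_toList]
  refine ⟨?_, ?_⟩
  · rw [valLists, List.map_map]
    refine mem_pick fun χ hχ => ?_
    obtain ⟨hX, hne⟩ := hLe χ hχ
    have := hmem χ hne _ (D.sgn_eq χ hX)
    refine List.mem_filter.2 ⟨mem_vals ?_ (cen_le hcard t ht1), this⟩
    simp only [memOK', Bool.and_eq_true, decide_eq_true_eq] at this
    exact this.1.2
  have hF : D.ε * (deg θ : ℤ) = 1 + (L.map fun χ => D.sgn χ * (deg χ : ℤ)).sum := by
    rw [hsum, D.rel_one hθ, ← Finset.add_sum_erase _ _ htX, hts, deg_trivIrr]; simp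
  have hW : D.ε * v θ = 1 + (L.map fun χ => D.sgn χ * v χ).sum := by
    have h := D.rel θ hθ t ht11
    rw [← Finset.add_sum_erase _ _ htX, hts, iv_spec hG ht θ,
      Finset.sum_congr rfl (g := fun χ => ((D.sgn χ * v χ : ℤ) : ℂ)) fun χ _ => by
        rw [iv_spec hG ht χ]; push_cast; rfl] at h
    simp only [trivIrr_coe, Int.cast_one, mul_one] at h
    rw [hsum]
    exact_mod_cast h
  have hεε : D.ε * D.ε = 1 := by rcases D.ε_eq with e | e <;> rw [e] <;> norm_num
  have hY2 : D.Y.card = 2 := by rw [D.card_Y, he]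
  have hYv : ∀ ψ ∈ D.Y, v ψ = v θ := fun ψ hψ => iv_eq (by
    rw [D.same ψ hψ θ hθ t ht11]; exact iv_spec hG ht θ)
  have hnorm : 1 + (∑ χ ∈ D.X.erase (trivIrr G), v χ * v χ) + 2 * (v θ * v θ) ≤ (C : ℤ) := by
    have h := iv_sq_le hG ht (D.X ∪ D.Y)
    rw [Finset.sum_union D.disj, ← Finset.add_sum_erase _ _ htX, iv_triv,
      Finset.sum_congr (s₁ := D.Y) rfl (g := fun _ => v θ * v θ) (fun ψ hψ => by rw [← hYv ψ hψ]),
      Finset.sum_const, hY2, nsmul_eq_mul] at h
    simpa [hCdef] using h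
  -- the class multiplication coefficient
  obtain ⟨x, hx1, hx⟩ := D.exists_ne_one
  have hz := zero_coeff hcard (D.orderOf_eq hx hx1) ht
  rw [← Finset.sum_subset (Finset.subset_univ (D.X ∪ D.Y)) (fun χ _ hn => by
    rw [D.eq_zero_of_notMem hC (fun hb => hn (Finset.mem_union.2 ((D.mem_block χ).1 hb))) hx hx1,
      map_zero, mul_zero, zero_div]), Finset.sum_union D.disj, ← Finset.add_sum_erase _ _ htX] at hz
  have hT : ((trivIrr G : Cfsg.IrrCharacter G) : G → ℂ) t * (trivIrr G : G → ℂ) t *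
      conj ((trivIrr G : G → ℂ) x) / (trivIrr G : G → ℂ) 1 = 1 := by simp [trivIrr_coe]
  have hYsum : ∑ ψ ∈ D.Y, (ψ : G → ℂ) t * (ψ : G → ℂ) t * conj ((ψ : G → ℂ) x) / (ψ : G → ℂ) 1 =
      -((D.ε : ℂ) * ((v θ : ℂ) * (v θ : ℂ)) / (deg θ : ℂ)) := by
    rw [Finset.sum_congr rfl (g := fun ψ : Cfsg.IrrCharacter G =>
      (v θ : ℂ) * (v θ : ℂ) / (deg θ : ℂ) * conj ((ψ : G → ℂ) x)) fun ψ hψ => by
        rw [iv_spec hG ht ψ, ← hv, hYv ψ hψ, ← deg_cast, D.deg_Y_eq hψ hθ]; ring,
      ← Finset.mul_sum, ← map_sum, D.sum_Y hx hx1]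
    simp only [map_neg, map_intCast]
    ring
  have hXsum : ∀ χ ∈ D.X.erase (trivIrr G),
      (χ : G → ℂ) t * (χ : G → ℂ) t * conj ((χ : G → ℂ) x) / (χ : G → ℂ) 1 =
      ((95040 / (D.sgn χ * (deg χ : ℤ)) * ((D.sgn χ * v χ) * (D.sgn χ * v χ)) : ℤ) : ℂ) / 95040 := by
    intro χ hχ
    have hX := (Finset.mem_erase.1 hχ).2
    have hdvd : D.sgn χ * (deg χ : ℤ) ∣ 95040 := by
      have h : (deg χ : ℤ) ∣ 95040 := by exact_mod_cast deg_dvd hcard χ
      rcases D.sgn_eq χ hX with e | e <;> rw [e] <;> simpa using h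
    have hd0 : (deg χ : ℂ) ≠ 0 := Nat.cast_ne_zero.2 (charDegree_pos χ).ne'
    have hs0 : (D.sgn χ : ℂ) ≠ 0 := by rcases D.sgn_eq χ hX with e | e <;> rw [e] <;> norm_num
    have hss : (D.sgn χ : ℂ) * (D.sgn χ : ℂ) = 1 := by
      rcases D.sgn_eq χ hX with e | e <;> rw [e] <;> norm_num
    rw [iv_spec hG ht χ, ← deg_cast, D.val_X' hX hx hx1, map_intCast, Int.cast_mul,
      Int.cast_div hdvd (by push_cast; exact mul_ne_zero hs0 hd0)]
    push_cast
    field_simp
    linear_combination (0 : ℂ) * hss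
  rw [hT, hYsum, Finset.sum_congr rfl hXsum, ← Finset.sum_div, ← Int.cast_sum] at hz
  have hFd : D.ε * (deg θ : ℤ) ∣ 95040 := by
    have h : (deg θ : ℤ) ∣ 95040 := by exact_mod_cast deg_dvd hcard θ
    rcases D.ε_eq with e | e <;> rw [e] <;> simpa using h
  have hQ : 95040 + (∑ χ ∈ D.X.erase (trivIrr G),
      95040 / (D.sgn χ * (deg χ : ℤ)) * ((D.sgn χ * v χ) * (D.sgn χ * v χ))) -
      95040 / (D.ε * (deg θ : ℤ)) * ((D.ε * v θ) * (D.ε * v θ)) = 0 := by
    have hd0 : (deg θ : ℂ) ≠ 0 := Nat.cast_ne_zero.2 (charDegree_pos θ).ne'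
    have hε0 : (D.ε : ℂ) ≠ 0 := by rcases D.ε_eq with e | e <;> rw [e] <;> norm_num
    have hεc : (D.ε : ℂ) * (D.ε : ℂ) = 1 := by exact_mod_cast hεε
    refine Int.cast_injective (α := ℂ) ?_
    rw [Int.cast_sub, Int.cast_add, Int.cast_mul (α := ℂ) (95040 / (D.ε * (deg θ : ℤ))),
      Int.cast_div hFd (by push_cast; exact mul_ne_zero hε0 hd0)]
    push_cast at hz ⊢
    field_simp at hz ⊢
    linear_combination hz
  simp only [valOK, ← hF, ← hW, Bool.and_eq_true, decide_eq_true_eq]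
  refine ⟨⟨hmem θ hθ1 _ D.ε_eq, ?_⟩, ?_⟩
  · rw [mul_mul_mul_comm D.ε, hεε, one_mul, List.map_map, hsum]
    refine le_trans (le_of_eq ?_) hnorm
    congr 2
    refine Finset.sum_congr rfl fun χ hχ => ?_
    show D.sgn χ * v χ * (D.sgn χ * v χ) = v χ * v χ
    rcases D.sgn_eq χ (Finset.mem_erase.1 hχ).2 with e | e <;> rw [e] <;> ring
  · rw [List.zip_map', List.map_map, hsum]
    exact hQ

/-- The degrees in the block. -/
theorem exists_frame : Nonempty (Frame G) := by
  classical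
  have hG := not_comm hcard
  obtain ⟨P⟩ : Nonempty (Sylow 11 G) := inferInstance
  obtain ⟨D, htX, hts⟩ := exists_pblock' hG (by norm_num) P (card_sylow_eleven hcard P)
  obtain ⟨he, hC⟩ := pblock_e hcard D
  set X' := D.X.erase (trivIrr G) with hX'
  let z : Cfsg.IrrCharacter G → ℤ := fun χ => D.sgn χ * (deg χ : ℤ)
  set L₀ := X'.toList with hL₀
  have hlen : L₀.length = 4 := by
    rw [hL₀, Finset.length_toList, hX', Finset.card_erase_of_mem htX, D.card_X, he]
  have hmemz : ∀ w ∈ L₀.map z, w ∈ degList := by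
    intro w hw
    obtain ⟨χ, hχ, rfl⟩ := List.mem_map.1 hw
    rw [hL₀, Finset.mem_toList, hX', Finset.mem_erase] at hχ
    have hd := Int.modEq_iff_dvd.1 (D.deg_X χ hχ.2)
    have h1 : deg χ ≠ 1 := deg_ne_one hG hχ.1
    have h0 : 0 < deg χ := charDegree_pos χ
    refine List.mem_filter.2 ⟨mem_signedDivs (deg_dvd hcard χ) (by omega) (deg_lt hcard hχ.1)
      (D.sgn_eq χ hχ.2), ?_⟩
    simp only [decide_eq_true_eq, z]
    push_cast at hd
    rcases D.sgn_eq χ hχ.2 with e | e <;> rw [e] at hd ⊢ <;> omega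
  obtain ⟨M, hM, hgood⟩ := srch_spec (U := fun _ => True) (fun s L' hs _ heq => by
    rw [List.map_const', List.sum_replicate] at heq
    simp only [decide_eq_true_eq] at hs
    simp at heq
    omega) scan_deg hmemz (fun _ _ => trivial)
    (by rw [List.map_const', List.sum_replicate, List.length_map, hlen]; rfl)
  -- realize the order
  obtain ⟨L₁, hL₁, hM₁⟩ : ∃ L₁ : List (Cfsg.IrrCharacter G), L₁.Perm L₀ ∧ L₁.map z = M := by
    exact exists_perm_of_map_perm z hM.symm
  obtain ⟨θ, hθ⟩ := D.Y_nonempty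
  have hθ1 : θ ≠ trivIrr G := fun h => Finset.disjoint_left.1 D.disj htX (h ▸ hθ)
  have hF : D.ε * (deg θ : ℤ) = 1 + M.sum := by
    rw [← hM₁, (hL₁.map z).sum_eq, hL₀, Finset.sum_map_toList, D.rel_one hθ,
      ← Finset.add_sum_erase _ _ htX, hts, deg_trivIrr]
    simp [hX', z]
  have hdegOK : degOK M = true := by
    haveI := Fintype.ofFinite (Cfsg.IrrCharacter G)
    simp only [degOK, ← hF, Bool.and_eq_true, decide_eq_true_eq]
    refine ⟨⟨mem_signedDivs (deg_dvd hcard θ) ?_ (deg_lt hcard hθ1) D.ε_eq, ?_⟩, ?_⟩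
    · have h1 := deg_ne_one hG hθ1
      have h0 : 0 < deg θ := charDegree_pos θ
      omega
    · have hd := Int.modEq_iff_dvd.1 (D.deg_Y θ hθ)
      rw [he] at hd
      push_cast at hd
      rcases D.ε_eq with e | e <;> rw [e] at hd ⊢ <;> omega
    · have h := sum_degree_sq (G := G)
      simp only [← deg_cast] at h
      have h' : ∑ ψ : Cfsg.IrrCharacter G, ((deg ψ : ℤ) * (deg ψ : ℤ)) = 95040 := by
        apply Int.cast_injective (α := ℂ)
        rw [Int.cast_sum, show ((95040 : ℤ) : ℂ) = ((Nat.card G : ℕ) : ℂ) by rw [hcard]; norm_num, ← h]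
        exact Finset.sum_congr rfl fun ψ _ => by push_cast; ring
      have hle := Finset.sum_le_sum_of_subset_of_nonneg (f := fun ψ => (deg ψ : ℤ) * (deg ψ : ℤ))
        (Finset.subset_univ (D.X ∪ D.Y)) (fun ψ _ _ => mul_self_nonneg _)
      rw [h', Finset.sum_union D.disj, ← Finset.add_sum_erase _ _ htX, deg_trivIrr,
        Finset.sum_congr (s₁ := D.Y) rfl (g := fun _ => (deg θ : ℤ) * (deg θ : ℤ))
          (fun ψ hψ => by rw [D.deg_Y_eq hψ hθ]), Finset.sum_const, D.card_Y, he,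
        nsmul_eq_mul] at hle
      rw [← hM₁, List.map_map, (hL₁.map _).sum_eq, hL₀, Finset.sum_map_toList]
      refine le_trans (le_of_eq ?_) hle
      have hεε : D.ε * D.ε = 1 := by rcases D.ε_eq with e | e <;> rw [e] <;> norm_num
      rw [mul_mul_mul_comm D.ε, hεε, hX',
        Finset.sum_congr rfl (g := fun χ : Cfsg.IrrCharacter G => (deg χ : ℤ) * (deg χ : ℤ)) fun χ hχ => by
          show z χ * z χ = _
          simp only [z]
          rcases D.sgn_eq χ (Finset.mem_erase.1 hχ).2 with e | e <;> rw [e] <;> ring]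
      norm_num
  -- an involution commuting with an element of order five
  obtain ⟨f, t₅, hf, ht₅, hft⟩ := exists_five_two hcard
  obtain ⟨M5, hM5⟩ := BlockCharsA.DefectZeroVanish.exists_modular (p := 5) (by norm_num)
  have hfive : true = true → ∀ χ : Cfsg.IrrCharacter G, 5 ∣ deg χ → (5 : ℤ) ∣ iv t₅ χ := fun _ χ h5 => by
    have hot : orderOf (f * t₅) = 10 := by
      rw [hft.orderOf_mul_eq_mul_orderOf_of_coprime (by rw [hf, ht₅]; norm_num), hf, ht₅]
    have h0 : (χ : G → ℂ) (f * t₅) = ((0 : ℤ) : ℂ) := by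
      rw [five_zero hcard χ h5 (by rw [hot]; norm_num)]; simp
    have := cong_int hM5 χ hft (k := 1) (by rw [pow_one, ← hf, pow_orderOf_eq_one])
      (by rw [ht₅]; norm_num) h0 (iv_spec hG ht₅ χ)
    simpa using this
  have hcs5 : cen t₅ ∈ cs5 := by
    have ht1 : t₅ ≠ 1 := fun h => by rw [h, orderOf_one] at ht₅; norm_num at ht₅
    have h2 : 2 ∣ cen t₅ := by
      have := orderOf_dvd_natCard (⟨t₅, mem_centralizer_singleton_iff.2 rfl⟩ :
        centralizer ({t₅} : Set G))
      rwa [Subgroup.orderOf_mk, ht₅] at this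
    have h5 : 5 ∣ cen t₅ := by
      have := orderOf_dvd_natCard (⟨f, mem_centralizer_singleton_iff.2 hft.eq⟩ :
        centralizer ({t₅} : Set G))
      rwa [Subgroup.orderOf_mk, hf] at this
    have h11 : ¬ 11 ∣ cen t₅ := fun h => by
      obtain ⟨⟨y, hym⟩, hyo⟩ := exists_prime_orderOf_dvd_card'
        (G := centralizer ({t₅} : Set G)) 11 h
      rw [Subgroup.orderOf_mk] at hyo
      exact no_two_eleven hcard hyo ht₅ (mem_centralizer_singleton_iff.1 hym)
    exact List.mem_filter.2 ⟨mem_divs (cen_dvd hcard t₅), by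
      simp only [decide_eq_true_eq]
      exact ⟨Nat.Coprime.mul_dvd_of_dvd_of_dvd (by norm_num : Nat.Coprime 2 5) h2 h5, h11,
        cen_le hcard t₅ ht1⟩⟩
  have hcs2 : ∀ t : G, orderOf t = 2 → cen t ∈ cs2 := fun t ht => by
    have ht1 : t ≠ 1 := fun h => by rw [h, orderOf_one] at ht; norm_num at ht
    have h2 : 2 ∣ cen t := by
      have := orderOf_dvd_natCard (⟨t, mem_centralizer_singleton_iff.2 rfl⟩ :
        centralizer ({t} : Set G))
      rwa [Subgroup.orderOf_mk, ht] at this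
    have h11 : ¬ 11 ∣ cen t := fun h => by
      obtain ⟨⟨y, hym⟩, hyo⟩ := exists_prime_orderOf_dvd_card'
        (G := centralizer ({t} : Set G)) 11 h
      rw [Subgroup.orderOf_mk] at hyo
      exact no_two_eleven hcard hyo ht (mem_centralizer_singleton_iff.1 hym)
    exact List.mem_filter.2 ⟨mem_divs (cen_dvd hcard t), by
      simp [h2, h11, cen_le hcard t ht1]⟩
  simp only [Bool.or_eq_true, Bool.not_eq_true', hdegOK, false_or,
    decide_eq_true_eq, List.all_eq_true, reduceCtorEq] at hgood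
  have hL₁' : ∀ [DecidableEq (Cfsg.IrrCharacter G)],
      L₁.Perm (D.X.erase (trivIrr G)).toList := fun {inst} => by convert hL₁
  have hMstd : M.Perm std := by
    rcases hgood with (h | h) | h
    · exact h
    · exfalso
      obtain ⟨S⟩ : Nonempty (Sylow 2 G) := inferInstance
      haveI : Nontrivial (S : Subgroup G) :=
        Finite.one_lt_card_iff_nontrivial.1 (by rw [card_sylow_two hcard S]; norm_num)
      haveI := S.2.center_nontrivial
      obtain ⟨⟨c, hc⟩, hco⟩ := exists_prime_orderOf_dvd_card' (G := center (S : Subgroup G)) 2 (by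
        obtain ⟨i, hi⟩ := (S.2.to_subgroup (center (S : Subgroup G))).exists_card_eq
        have : 1 < Nat.card (center (S : Subgroup G)) := Finite.one_lt_card
        rw [hi] at this ⊢
        exact dvd_pow_self 2 (by rintro rfl; simp at this))
      rw [Subgroup.orderOf_mk, ← orderOf_submonoid] at hco
      have h64 : 64 ∣ cen (c : G) := by
        rw [← card_sylow_two hcard S]
        exact card_dvd_of_le fun s hs => mem_centralizer_singleton_iff.2
          (congrArg Subtype.val (mem_center_iff.1 hc ⟨s, hs⟩))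
      obtain ⟨L₂, hL₂, hexo⟩ := exists_perm_of_map_perm z (M := exo) (l := L₁)
        (by rw [hM₁]; exact h)
      obtain ⟨h1, h2⟩ := values_ok hcard D htX hts hco false (by simp) (L := L₂)
        (fun {inst} => (hL₂.trans hL₁'))
      rw [show L₂.map (fun χ => D.sgn χ * (deg χ : ℤ)) = exo from hexo] at h1 h2
      rw [scan_exo _ (hcs2 _ hco) h64 _ h1] at h2
      exact absurd h2 (by simp)
    · exfalso
      obtain ⟨h1, h2⟩ := values_ok hcard D htX hts ht₅ true hfive (L := L₁) hL₁'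
      rw [show L₁.map (fun χ => D.sgn χ * (deg χ : ℤ)) = M from hM₁] at h1 h2
      simp [h _ hcs5 _ h1] at h2
  obtain ⟨L₂, hL₂, hstd⟩ := exists_perm_of_map_perm z (M := std) (l := L₁)
    (by rw [hM₁]; exact hMstd)
  obtain ⟨a, b, c, d, rfl⟩ : ∃ a b c d, L₂ = [a, b, c, d] := by
    have hl : L₂.length = 4 := by simpa [std] using congrArg List.length hstd
    rcases L₂ with _ | ⟨a, _ | ⟨b, _ | ⟨c, _ | ⟨d, _ | ⟨e', L₃⟩⟩⟩⟩⟩ <;> simp at hl ⊢
  · simp only [List.map_cons, List.map_nil, std, List.cons.injEq, and_true, z] at hstd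
    obtain ⟨za, zb, zc, zd⟩ := hstd
    have hLperm : [a, b, c, d].Perm X'.toList := hL₂.trans hL₁
    have hsX : ∀ χ ∈ [a, b, c, d], χ ∈ D.X ∧ χ ≠ trivIrr G := fun χ hχ => by
      have := Finset.mem_erase.1 (Finset.mem_toList.1 (hLperm.mem_iff.1 hχ))
      exact ⟨this.2, this.1⟩
    have sa : D.sgn a = 1 ∧ deg a = 45 := by
      rcases D.sgn_eq a (hsX a (by simp)).1 with e | e <;> rw [e] at za ⊢ <;> omega
    have sb : D.sgn b = -1 ∧ deg b = 54 := by
      rcases D.sgn_eq b (hsX b (by simp)).1 with e | e <;> rw [e] at zb ⊢ <;> omega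
    have sc : D.sgn c = -1 ∧ deg c = 120 := by
      rcases D.sgn_eq c (hsX c (by simp)).1 with e | e <;> rw [e] at zc ⊢ <;> omega
    have sd : D.sgn d = 1 ∧ deg d = 144 := by
      rcases D.sgn_eq d (hsX d (by simp)).1 with e | e <;> rw [e] at zd ⊢ <;> omega
    have hFs : D.ε * (deg θ : ℤ) = 16 := by rw [hF, hMstd.sum_eq]; rfl
    have hε : D.ε = 1 ∧ deg θ = 16 := by
      rcases D.ε_eq with e | e <;> rw [e] at hFs ⊢ <;> omega
    obtain ⟨θ₁, θ₂, hne, hY⟩ := Finset.card_eq_two.1 (show D.Y.card = 2 by rw [D.card_Y, he])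
    have hθ₁ : θ₁ ∈ D.Y := by rw [hY]; simp
    have hθ₂ : θ₂ ∈ D.Y := by rw [hY]; simp
    have hd₁ : deg θ₁ = 16 := (D.deg_Y_eq hθ₁ hθ).trans hε.2
    have hd₂ : deg θ₂ = 16 := (D.deg_Y_eq hθ₂ hθ).trans hε.2
    have hX : ∀ χ, χ ∈ D.X ↔ χ = trivIrr G ∨ χ ∈ [a, b, c, d] := fun χ => by
      rw [hLperm.mem_iff, Finset.mem_toList, hX', Finset.mem_erase]
      constructor
      · intro h; by_cases h' : χ = trivIrr G
        · exact Or.inl h'
        · exact Or.inr ⟨h', h⟩
      · rintro (rfl | h)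
        · exact htX
        · exact h.2
    have hblock : ∀ χ, χ ∈ Cfsg.principalBlock D.M G ↔ χ ∈ blockSet a b c d θ₁ θ₂ := fun χ => by
      rw [D.mem_block, hX, hY]
      simp only [blockSet, List.mem_cons, List.not_mem_nil, or_false, Finset.mem_insert,
        Finset.mem_singleton, or_assoc]
    have hblock' : ∀ χ, χ ∈ Cfsg.principalBlock D.M G → χ = trivIrr G ∨ χ = a ∨ χ = b ∨ χ = c ∨
        χ = d ∨ χ = θ₁ ∨ χ = θ₂ := fun χ h => by
      have := (hblock χ).1 h
      simpa [blockSet] using this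
    have hint : ∀ χ ∈ [a, b, c, d], ∀ g, ∃ k : ℤ, (χ : G → ℂ) g = (k : ℂ) := by
      intro χ hχ
      have hb : χ ∈ Cfsg.principalBlock D.M G := (D.mem_block χ).2 (Or.inl (hsX χ hχ).1)
      have ht0 : deg (trivIrr G) = 1 := deg_trivIrr
      refine D.int_of_unique hC hb ?_ fun ψ hψ hdd => ?_
      · simp only [List.mem_cons, List.not_mem_nil, or_false] at hχ
        rcases hχ with rfl | rfl | rfl | rfl
        · rw [sa.2]; norm_num
        · rw [sb.2]; norm_num
        · rw [sc.2]; norm_num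
        · rw [sd.2]; norm_num
      · simp only [List.mem_cons, List.not_mem_nil, or_false] at hχ
        rcases hblock' ψ hψ with rfl | rfl | rfl | rfl | rfl | rfl | rfl <;>
          rcases hχ with rfl | rfl | rfl | rfl <;> first | rfl | (exfalso; omega)
    obtain ⟨x, hx1, hx⟩ := D.exists_ne_one
    have hxsum : (θ₁ : G → ℂ) x + (θ₂ : G → ℂ) x = -1 := by
      have := D.sum_Y hx hx1
      rw [hY, Finset.sum_pair hne, hε.1] at this
      simpa using this
    have hrest : ∀ χ : Cfsg.IrrCharacter G, χ ∉ blockSet a b c d θ₁ θ₂ →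
        (χ : G → ℂ) x = 0 ∧ 11 ∣ deg χ := fun χ hχ => by
      have h0 := D.eq_zero_of_notMem hC (fun hb => hχ ((hblock χ).1 hb)) hx hx1
      refine ⟨h0, ?_⟩
      have hc := char_cong_of_commute D.hM χ (Commute.one_right x) (k := 1)
        (by rw [pow_one, D.x_pow hx]) (not_dvd_one (G := G))
      rw [mul_one, h0, ← deg_cast] at hc
      exact (ideal_natCast_iff D.hM _).1 (cong_zero_iff.1 (cong_symm D.hM hc))
    have hnormY : (θ₁ : G → ℂ) x * conj ((θ₁ : G → ℂ) x) + (θ₂ : G → ℂ) x * conj ((θ₂ : G → ℂ) x) = 6 := by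
      have := D.norm_Y hx hx1
      rw [hY, Finset.sum_pair hne, he] at this
      rw [this]; norm_num
    have hreal : conj ((θ₁ : G → ℂ) x) ≠ (θ₁ : G → ℂ) x := fun hr => by
      have h2 : (θ₂ : G → ℂ) x = -1 - (θ₁ : G → ℂ) x := by linear_combination hxsum
      rw [h2, map_sub, map_neg, map_one, hr] at hnormY
      have hz : (((5 / 2 : ℚ)) : ℂ) = (θ₁ : G → ℂ) x * (θ₁ : G → ℂ) x + (θ₁ : G → ℂ) x := by
        push_cast; linear_combination (-(1 : ℂ) / 2) * hnormY
      have hint := char_value_isIntegral (irr_isCharacter θ₁) x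
      obtain ⟨k, hk⟩ := exists_int_of_isIntegral_ratCast (q := (5 / 2 : ℚ))
        (hz ▸ (hint.mul hint).add hint)
      have hk' : (5 / 2 : ℚ) = (k : ℚ) := by exact_mod_cast hk
      have : (5 : ℤ) = 2 * k := by
        have h5 : (5 : ℚ) = 2 * (k : ℚ) := by rw [← hk']; norm_num
        exact_mod_cast h5
      omega
    have hconj : FrobeniusSchur.conjIrr θ₁ = θ₂ := by
      set ψ := FrobeniusSchur.conjIrr θ₁ with hψ
      have hdψ : deg ψ = 16 := by
        have : (deg ψ : ℂ) = deg θ₁ := by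
          rw [deg_cast, deg_cast, hψ, FrobeniusSchur.conjIrr_coe, ← deg_cast, map_natCast]
        rw [← hd₁]; exact_mod_cast this
      by_cases hin : ψ ∈ blockSet a b c d θ₁ θ₂
      · have ht0 : deg (trivIrr G) = 1 := deg_trivIrr
        simp only [blockSet, Finset.mem_insert, Finset.mem_singleton] at hin
        rcases hin with h | h | h | h | h | h | h
        · rw [h] at hdψ; omega
        · rw [h] at hdψ; omega
        · rw [h] at hdψ; omega
        · rw [h] at hdψ; omega
        · rw [h] at hdψ; omega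
        · exact absurd (congrArg (fun φ : Cfsg.IrrCharacter G => (φ : G → ℂ) x) h) hreal
        · exact h
      · have := (hrest ψ hin).2
        rw [hdψ] at this
        norm_num at this
    have hxconj : conj ((θ₁ : G → ℂ) x) = (θ₂ : G → ℂ) x := by
      rw [← hconj, FrobeniusSchur.conjIrr_coe]
    refine ⟨{
      x := x, hx := D.orderOf_eq hx hx1
      c45 := a, c54 := b, c120 := c, c144 := d, θ := θ₁, θ' := θ₂
      d45 := sa.2, d54 := sb.2, d120 := sc.2, d144 := sd.2, d16 := hd₁, d16' := hd₂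
      ne := hne.symm
      rel := fun g hg => ?_
      same := fun g hg => D.same θ₂ hθ₂ θ₁ hθ₁ g hg
      int45 := hint a (by simp), int54 := hint b (by simp)
      int120 := hint c (by simp), int144 := hint d (by simp)
      x45 := by rw [D.val_X' (hsX a (by simp)).1 hx hx1, sa.1]; simp
      x54 := by rw [D.val_X' (hsX b (by simp)).1 hx hx1, sb.1]; simp
      x120 := by rw [D.val_X' (hsX c (by simp)).1 hx hx1, sc.1]; simp
      x144 := by rw [D.val_X' (hsX d (by simp)).1 hx hx1, sd.1]; simp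
      xsum := hxsum, xconj := hxconj
      xne := fun h => hreal (hxconj.trans h.symm)
      rest := hrest
      tab := fun t ht => ?_ }⟩
    · have h := D.rel θ₁ hθ₁ g hg
      rw [← Finset.add_sum_erase _ _ htX, hts, hε.1, ← hX', ← Finset.sum_map_toList,
        ← (hLperm.map _).sum_eq] at h
      simp only [List.map_cons, List.map_nil, List.sum_cons, List.sum_nil, sa.1, sb.1, sc.1, sd.1,
        trivIrr_coe] at h
      push_cast at h
      linear_combination -h
    · obtain ⟨h1, h2⟩ := values_ok hcard D htX hts ht false (by simp) (L := [a, b, c, d])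
        (fun {inst} => by convert hLperm)
      simp only [List.map_cons, List.map_nil, za, zb, zc, zd] at h1 h2
      have := scan_std _ (hcs2 t ht) _ h1 h2
      simpa [sa.1, sb.1, sc.1, sd.1] using this

end

end Cfsg.Agent.M12Order
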