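import Cfsg.Agent.Lib.M12Order.Eleven

/-!
# Simple groups of order 95040: arithmetic of the principal 11-block
-/

set_option autoImplicit false

namespace Cfsg.Agent.M12Order

/-- Signed degree and signed value of a member at a centralizer of order `C`. -/
def memOK' (C : ℕ) (five : Bool) (z v : ℤ) : Bool :=
  decide ((z - v) % 4 = 0) && decide (v.natAbs < z.natAbs) &&
    decide (((95040 / C : ℕ) : ℤ) * v % z = 0) && decide (v * v ≤ (C : ℤ)) &&
      (!five || decide (z % 5 ≠ 0) || decide (v % 5 = 0))

/-- All lists with the i-th entry in the i-th list. -/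
def pick : List (List ℤ) → List (List ℤ)
  | [] => [[]]
  | l :: ls => l.flatMap fun a => (pick ls).map (a :: ·)

theorem mem_pick {α : Type*} {f : α → List ℤ} {g : α → ℤ} :
    ∀ {L : List α}, (∀ a ∈ L, g a ∈ f a) → L.map g ∈ pick (L.map f)
  | [], _ => by simp [pick]
  | a :: L, h => by
    simp only [List.map_cons, pick, List.mem_flatMap, List.mem_map]
    exact ⟨g a, h a (by simp), L.map g, mem_pick fun b hb => h b (by simp [hb]), rfl⟩

/-- The possible values of the members with signed degrees `zs`. -/
def valLists (C : ℕ) (five : Bool) (zs : List ℤ) : List (List ℤ) :=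
  pick (zs.map fun z => vals.filter (memOK' C five z))

/-- The two exceptional characters of signed degree `F` fit. -/
def valOK (C : ℕ) (five : Bool) (zs vs : List ℤ) : Bool :=
  let F := 1 + zs.sum
  let W := 1 + vs.sum
  memOK' C five F W && decide (1 + (vs.map fun v => v * v).sum + 2 * (W * W) ≤ (C : ℤ)) &&
    decide (95040 + ((zs.zip vs).map fun p => 95040 / p.1 * (p.2 * p.2)).sum - 95040 / F * (W * W) = 0)

/-- The degrees fit. -/
def degOK (zs : List ℤ) : Bool :=
  let F := 1 + zs.sum
  decide (F ∈ signedDivs 2) && decide ((F - 5) % 11 = 0) &&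
    decide (1 + (zs.map fun z => z * z).sum + 2 * (F * F) ≤ 95040)

/-- The usual degrees. -/
def std : List ℤ := [45, -54, -120, 144]

/-- The other possibility. -/
def exo : List ℤ := [12, -32, -32, 45]

def degList : List ℤ := (signedDivs 2).filter fun z => decide (z % 11 = 1)

def cs5 : List ℕ := divs.filter fun C => decide (10 ∣ C ∧ ¬ 11 ∣ C ∧ C ≤ 7920)

def cs2 : List ℕ := divs.filter fun C => decide (2 ∣ C ∧ ¬ 11 ∣ C ∧ C ≤ 7920)

/-- The centralizer orders and signed values, for the usual degrees. -/
def table : List (ℕ × List ℤ) :=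
  [(120, [5, -6, 0, 4]), (120, [5, -6, 0, -4]), (240, [5, -6, 0, 4]), (240, [5, -6, 0, -4]),
    (192, [-3, -6, 8, 0]), (1440, [-15, -18, 0, 24])]

theorem scan_deg : srch (fun _ : ℤ => (1 : ℤ)) (fun s => decide (s < 0))
    (fun M => !degOK M || decide (M.Perm std) || decide (M.Perm exo) ||
      cs5.all fun C => (valLists C true M).all fun vs => !valOK C true M vs) 40 degList 4 [] = true := by
  decide +kernel

theorem scan_std : ∀ C ∈ cs2, ∀ vs ∈ valLists C false std, valOK C false std vs = true →
    (C, vs) ∈ table := by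
  decide +kernel

theorem scan_exo : ∀ C ∈ cs2, 64 ∣ C → ∀ vs ∈ valLists C false exo, valOK C false exo vs = false := by
  decide +kernel

end Cfsg.Agent.M12Order
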