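import Cfsg.Agent.Lib.M12Order.TwoBasic

/-!
# Simple groups of order 95040: counting involutions
-/

set_option autoImplicit false
set_option linter.style.haveILetI false
set_option linter.unusedSectionVars false

namespace Cfsg.Agent.M12Order

open Subgroup
open Cfsg.Agent.Characters Cfsg.Agent.Blocks Cfsg.Agent.PrimeBlock
open scoped ComplexConjugate

universe u

variable {G : Type u} [Group G] [Finite G]

noncomputable local instance : Fintype (Cfsg.IrrCharacter G) := Fintype.ofFinite _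

/-- A value on the block is an integer away from the elements of order divisible by eleven. -/
theorem Frame.B_int (F : Frame G) {g : G} (hg : ¬ 11 ∣ orderOf g) :
    ∀ χ ∈ F.B, (χ : G → ℂ) g = (iv g χ : ℂ) := by
  intro χ hχ
  have hex : ∃ v : ℤ, (χ : G → ℂ) g = (v : ℂ) := by
    obtain ⟨a, ha⟩ := F.int45 g
    obtain ⟨b, hb⟩ := F.int54 g
    obtain ⟨c, hc⟩ := F.int120 g
    obtain ⟨d, hd⟩ := F.int144 g
    have hθ : (F.θ : G → ℂ) g = ((1 + a - b - c + d : ℤ) : ℂ) := by
      rw [← F.rel g hg, ha, hb, hc, hd]; push_cast; ring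
    simp only [Frame.B, blockSet, Finset.mem_insert, Finset.mem_singleton] at hχ
    rcases hχ with e | e | e | e | e | e | e <;> subst e
    exacts [⟨1, by simp⟩, ⟨a, ha⟩, ⟨b, hb⟩, ⟨c, hc⟩, ⟨d, hd⟩, ⟨_, hθ⟩, ⟨_, (F.same g hg).trans hθ⟩]
  obtain ⟨v, hv⟩ := hex
  rw [iv_eq hv, hv]

/-- The Frobenius-Schur count bounds the involutions. -/
theorem fs_bound (F : Frame G) :
    (Nat.card {s : G // s * s = 1} : ℤ) ≤ 364 + 11 * ∑ χ ∈ F.R, (Frame.m χ : ℤ) ∧
      ((Nat.card {s : G // s * s = 1} : ℤ) = 364 + 11 * ∑ χ ∈ F.R, (Frame.m χ : ℤ) →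
        ∀ χ ∈ F.R, ∀ g : G, ((χ : G → ℂ) g).im = 0) := by
  classical
  haveI := Fintype.ofFinite G
  let r : Cfsg.IrrCharacter G → ℝ := fun χ => (FrobeniusSchur.nu (χ : G → ℂ)).re
  have hr : ∀ χ, r χ ≤ 1 := fun χ => by
    rcases FrobeniusSchur.nu_trichotomy χ with e | e | e <;> simp only [r, e] <;> norm_num
  have hθ : ∀ χ : Cfsg.IrrCharacter G, conj ((χ : G → ℂ) F.x) ≠ (χ : G → ℂ) F.x → r χ = 0 :=
    fun χ hne => by
      simp only [r]
      rw [FrobeniusSchur.nu_eq_zero_of_not_real χ fun h => hne (Complex.conj_eq_iff_im.2 (h F.x))]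
      simp
  have hθ1 : r F.θ = 0 := hθ _ (by rw [F.xconj]; exact F.xne.symm)
  have hθ2 : r F.θ' = 0 := hθ _ (by rw [← F.xconj, Complex.conj_conj, F.xconj]; exact F.xne)
  have h := congrArg Complex.re (FrobeniusSchur.card_sq_eq_one (G := G))
  simp only [Complex.re_sum, Complex.natCast_re, ← deg_cast, Complex.mul_re, Complex.natCast_im,
    mul_zero, sub_zero] at h
  change (Nat.card {s : G // s * s = 1} : ℝ) = ∑ χ : Cfsg.IrrCharacter G, r χ * (deg χ : ℝ) at h
  rw [F.sum_all, F.sum_B, hθ1, hθ2, deg_trivIrr, F.d45, F.d54, F.d120, F.d144] at h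
  have hR : ∑ χ ∈ F.R, r χ * (deg χ : ℝ) = 11 * ∑ χ ∈ F.R, r χ * (Frame.m χ : ℝ) := by
    rw [Finset.mul_sum]
    exact Finset.sum_congr rfl fun χ hχ => by rw [Frame.deg_eq hχ]; push_cast; ring
  rw [hR] at h
  push_cast at h
  have hle : ∑ χ ∈ F.R, r χ * (Frame.m χ : ℝ) ≤ ∑ χ ∈ F.R, (Frame.m χ : ℝ) :=
    Finset.sum_le_sum fun χ _ => by
      have := hr χ
      nlinarith [Nat.cast_nonneg (α := ℝ) (Frame.m χ)]
  have a1 := hr (trivIrr G); have a2 := hr F.c45; have a3 := hr F.c54
  have a4 := hr F.c120; have a5 := hr F.c144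
  refine ⟨?_, fun heq χ hχ => ?_⟩
  · have : (Nat.card {s : G // s * s = 1} : ℝ) ≤ 364 + 11 * ∑ χ ∈ F.R, (Frame.m χ : ℝ) := by
      rw [h]; linarith
    exact_mod_cast this
  · have heq' : (Nat.card {s : G // s * s = 1} : ℝ) = 364 + 11 * ∑ χ ∈ F.R, (Frame.m χ : ℝ) := by
      exact_mod_cast heq
    have hsum : ∑ χ ∈ F.R, (1 - r χ) * (Frame.m χ : ℝ) = 0 := by
      simp only [sub_mul, one_mul, Finset.sum_sub_distrib]
      linarith
    have h0 := (Finset.sum_eq_zero_iff_of_nonneg fun χ _ => mul_nonneg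
      (by have := hr χ; linarith) (Nat.cast_nonneg _)).1 hsum χ hχ
    have hm : (Frame.m χ : ℝ) ≠ 0 := by
      have hp : 0 < deg χ := charDegree_pos χ
      have := Frame.deg_eq hχ
      exact Nat.cast_ne_zero.2 (by omega)
    have hr1 : r χ = 1 := by
      have := (mul_eq_zero.1 h0).resolve_right hm
      linarith
    refine (FrobeniusSchur.nu_ne_zero_iff χ).1 fun e => ?_
    simp only [r, e, Complex.zero_re] at hr1
    norm_num at hr1

/-- Involutions in pairwise different classes give lower bounds for their number. -/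
theorem le_card_sq_one {L : List G} (hL : ∀ t ∈ L, orderOf t = 2)
    (hne : L.Pairwise fun a b => ¬ IsConj a b) :
    1 + (L.map cls).sum ≤ Nat.card {s : G // s * s = 1} := by
  classical
  haveI := Fintype.ofFinite G
  let C : G → Finset G := fun t => Finset.univ.filter fun h => IsConj t h
  have key : ∀ L : List G, (∀ t ∈ L, orderOf t = 2) → L.Pairwise (fun a b => ¬ IsConj a b) →
      ∃ U : Finset G, U.card = (L.map cls).sum ∧ (∀ h ∈ U, orderOf h = 2) ∧
        ∀ h ∈ U, ∃ t ∈ L, IsConj t h := by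
    intro L
    induction L with
    | nil => exact fun _ _ => ⟨∅, by simp, by simp, by simp⟩
    | cons a L ih =>
      intro hL hp
      rw [List.pairwise_cons] at hp
      obtain ⟨U, hU, hU2, hUc⟩ := ih (fun t ht => hL t (by simp [ht])) hp.2
      have hdisj : Disjoint (C a) U := Finset.disjoint_left.2 fun h ha hh => by
        obtain ⟨t, ht, htc⟩ := hUc h hh
        exact hp.1 t ht (((Finset.mem_filter.1 ha).2).trans htc.symm)
      refine ⟨C a ∪ U, ?_, fun h hh => ?_, fun h hh => ?_⟩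
      · rw [Finset.card_union_of_disjoint hdisj, hU, List.map_cons, List.sum_cons]
        congr 1
        rw [← cls_eq_card a, Nat.card_eq_fintype_card, Fintype.card_subtype]
      · rcases Finset.mem_union.1 hh with h' | h'
        · obtain ⟨g, hg⟩ := isConj_iff.1 (Finset.mem_filter.1 h').2
          rw [← hg, ← hL a (by simp)]
          exact MulEquiv.orderOf_eq (MulAut.conj g) a
        · exact hU2 h h'
      · rcases Finset.mem_union.1 hh with h' | h'
        · exact ⟨a, by simp, (Finset.mem_filter.1 h').2⟩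
        · obtain ⟨t, ht, htc⟩ := hUc h h'
          exact ⟨t, by simp [ht], htc⟩
  obtain ⟨U, hU, hU2, -⟩ := key L hL hne
  rw [Nat.card_eq_fintype_card, Fintype.card_subtype, ← hU]
  have h1 : (1 : G) ∉ U := fun h => by
    have := hU2 1 h; rw [orderOf_one] at this; norm_num at this
  rw [add_comm, ← Finset.card_insert_of_notMem h1]
  refine Finset.card_le_card fun h hh => ?_
  rw [Finset.mem_filter]
  refine ⟨Finset.mem_univ _, ?_⟩
  rcases Finset.mem_insert.1 hh with e | e
  · rw [e, one_mul]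
  · rw [← sq, ← hU2 h e, pow_orderOf_eq_one]

end Cfsg.Agent.M12Order
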