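import Cfsg.Agent.Lib.M12Order.Mathieu
import Cfsg.Agent.Recognition.MathieuEleven

/-!
# The group of order 95040 from the numbers of elements of equal orders
-/

set_option autoImplicit false
set_option linter.style.haveILetI false

namespace Cfsg.Agent.M12Order.Counts

open Subgroup

/-- Every number of elements of one order is one, a multiple of eleven, or 17280. -/
theorem count_cases {M : Type*} [Group M] [Finite M] (hM : Cfsg.IsM12 M) {c : ℕ}
    (hc : c ∈ {c : ℕ | 0 < c ∧ ∃ n : ℕ, c = Nat.card {g : M // orderOf g = n}}) :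
    c = 1 ∨ 11 ∣ c ∨ c = 17280 := by
  classical
  haveI := hM.1
  have hcard := hM.2
  obtain ⟨hc0, n, rfl⟩ := hc
  obtain ⟨⟨w, hw⟩⟩ := (Nat.card_pos_iff.1 hc0).1
  by_cases hn1 : n = 1
  · left
    subst hn1
    rw [Nat.card_eq_one_iff_unique]
    exact ⟨⟨fun a b => Subtype.ext ((orderOf_eq_one_iff.1 a.2).trans (orderOf_eq_one_iff.1 b.2).symm)⟩,
      ⟨⟨w, hw⟩⟩⟩
  haveI : Fact (Nat.Prime 11) := ⟨by norm_num⟩
  by_cases hn : n = 11
  · right; right
    subst hn
    rw [M11Order.card_orderOf_eq fun Q => card_sylow_eleven hcard Q]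
    obtain ⟨P, hP⟩ := sylow_of_order_eleven hcard hw
    have hN := (cen_eleven hcard hw).2 P hP
    have h := (normalizer ((P : Subgroup M) : Set M)).card_mul_index
    rw [hN, hcard, show (normalizer ((P : Subgroup M) : Set M)).index = Nat.card (Sylow 11 M) from
      P.card_eq_index_normalizer.symm] at h
    omega
  · refine Or.inr (Or.inl ?_)
    refine Recognition.MathieuEleven.index_dvd_count (G := M) (dvd_refl n) fun y hy => ?_
    have hno : ¬ 11 ∣ Nat.card (centralizer ({y} : Set M)) := by
      intro hd
      obtain ⟨z, hz⟩ := exists_prime_orderOf_dvd_card' (G := centralizer ({y} : Set M)) 11 hd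
      have hz' : orderOf (z : M) = 11 := (orderOf_coe z).trans hz
      have h := orderOf_dvd_natCard (⟨y, mem_centralizer_singleton_iff.2
        (mem_centralizer_singleton_iff.1 z.2).symm⟩ : centralizer ({(z : M)} : Set M))
      rw [Subgroup.orderOf_mk, show Nat.card (centralizer ({(z : M)} : Set M)) = 11 from
        (cen_eleven hcard hz').1, hy] at h
      rcases (Nat.dvd_prime (by norm_num)).1 h with h | h
      · exact hn1 h
      · exact hn h
    have h := (centralizer ({y} : Set M)).card_mul_index
    rw [hcard] at h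
    exact ((Nat.Prime.dvd_mul (by norm_num)).1 (h ▸ (by norm_num : 11 ∣ 95040))).resolve_left hno

theorem eleven_count : ∀ k ∈ Nat.divisors 8640, k % 11 = 1 →
    (10 * k = 1 ∨ 11 ∣ 10 * k ∨ 10 * k = 17280) → k = 1728 := by
  decide +kernel

theorem sylow_cases : ∀ a ∈ Finset.range 7, 2 ^ a % 11 = 1 → a = 0 := by decide +kernel

theorem prime_power_cases : ∀ p ∈ [2, 3, 5], ∀ a ∈ Finset.range 7, p ^ a ∣ 8640 → p ^ a % 11 = 1 → p ^ a = 1 := by
  decide +kernel

/-- A supplement maps onto the quotient. -/
theorem index_dvd_of_sup_eq_top {H : Type*} [Group H] [Finite H] {S K : Subgroup H} [K.Normal]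
    (h : S ⊔ K = ⊤) : K.index ∣ Nat.card S := by
  rw [Subgroup.index]
  refine Subgroup.card_dvd_of_surjective ((QuotientGroup.mk' K).comp S.subtype) fun q => ?_
  obtain ⟨g, rfl⟩ := QuotientGroup.mk'_surjective K q
  have hg : g ∈ S ⊔ K := h ▸ Subgroup.mem_top g
  obtain ⟨s, hs, k, hk, rfl⟩ := Subgroup.mem_sup_of_normal_right.1 hg
  refine ⟨⟨s, hs⟩, ?_⟩
  show (QuotientGroup.mk' K) s = (QuotientGroup.mk' K) (s * k)
  rw [map_mul, show (QuotientGroup.mk' K) k = 1 from (QuotientGroup.eq_one_iff k).2 hk, mul_one]

/-- The normalizer of a Sylow subgroup for eleven. -/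
theorem card_normalizer {G : Type*} [Group G] [Finite G] [Fact (Nat.Prime 11)] (hcard : Nat.card G = 95040)
    (hn : Nat.card (Sylow 11 G) = 1728) (P : Sylow 11 G) :
    Nat.card (normalizer ((P : Subgroup G) : Set G)) = 55 := by
  have h := (normalizer ((P : Subgroup G) : Set G)).card_mul_index
  rw [show (normalizer ((P : Subgroup G) : Set G)).index = 1728 from
    P.card_eq_index_normalizer.symm.trans hn, hcard] at h
  omega

/-- A normal subgroup of order prime to eleven is trivial when the centralisers of order eleven are small. -/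
theorem normal_trivial {H : Type*} [Group H] [Finite H] (hd : Nat.card H ∣ 95040) (h11 : 11 ∣ Nat.card H)
    (hC : ∀ x : H, orderOf x = 11 → Nat.card (centralizer ({x} : Set H)) = 11)
    (K : Subgroup H) [K.Normal] (hK : ¬ 11 ∣ Nat.card K) : K = ⊥ := by
  classical
  haveI : Fact (Nat.Prime 11) := ⟨by norm_num⟩
  by_contra hne
  obtain ⟨p, hp, hpK⟩ := Nat.exists_prime_and_dvd (mt Subgroup.card_eq_one.1 hne)
  haveI := Fact.mk hp
  have hp11 : p ≠ 11 := fun e => hK (e ▸ hpK)
  obtain ⟨Q⟩ : Nonempty (Sylow p K) := inferInstance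
  set R : Subgroup H := (Q : Subgroup K).map K.subtype with hR
  have hsup : normalizer (R : Set H) ⊔ K = ⊤ := Sylow.normalizer_sup_eq_top Q
  have hN11 : 11 ∣ Nat.card (normalizer (R : Set H)) := by
    have h := K.card_mul_index
    exact ((((by norm_num : Nat.Prime 11).dvd_mul).1 (h ▸ h11)).resolve_left hK).trans
      (index_dvd_of_sup_eq_top hsup)
  obtain ⟨z, hz⟩ := exists_prime_orderOf_dvd_card' (G := normalizer (R : Set H)) 11 hN11
  have hz' : orderOf (z : H) = 11 := (orderOf_coe z).trans hz
  have hRcard : Nat.card R = Nat.card (Q : Subgroup K) := card_map_of_injective K.subtype_injective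
  obtain ⟨a, ha⟩ := IsPGroup.iff_card.1 Q.isPGroup'
  have hRK : R ≤ K := map_subtype_le _
  have hR11 : ¬ 11 ∣ Nat.card R := fun h => hK (h.trans (card_dvd_of_le hRK))
  -- the action of the element of order eleven
  letI : MulAction H H := MulAction.compHom H (MulAut.conj : H →* MulAut H)
  let f : R → R := fun r => ⟨(z : H) * r * (z : H)⁻¹, (mem_normalizer_iff.1 z.2 r).1 r.2⟩
  have hfn : ∀ (n : ℕ) (r : R), ((f^[n]) r : H) = (z : H) ^ n * r * ((z : H) ^ n)⁻¹ := by
    intro n
    induction n with
    | zero => intro r; simp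
    | succ n ih =>
      intro r
      rw [Function.iterate_succ_apply']
      show (z : H) * ((f^[n]) r : H) * (z : H)⁻¹ = _
      rw [ih, pow_succ', mul_inv_rev]
      simp only [mul_assoc]
  have hz11 : (z : H) ^ 11 = 1 := by rw [← hz', pow_orderOf_eq_one]
  let g : Function.End R := f
  have hg : g ^ 11 ^ 1 = 1 := by
    funext r
    refine Subtype.ext ?_
    show ((f^[11]) r : H) = r
    rw [hfn, hz11]
    simp
  haveI := Fintype.ofFinite R
  haveI : DecidableEq R := Classical.decEq _
  have hmod := (Equiv.Perm.card_fixedPoints_modEq (f := g) hg)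
  have hfix : Fintype.card (Function.fixedPoints g) = 1 := by
    refine Fintype.card_eq_one_iff.2 ⟨⟨1, Subtype.ext (by show (z : H) * 1 * (z : H)⁻¹ = 1; simp)⟩, fun r => ?_⟩
    have hr : (z : H) * (r.1 : H) * (z : H)⁻¹ = (r.1 : H) := congrArg Subtype.val r.2
    refine Subtype.ext (Subtype.ext ?_)
    have h := orderOf_dvd_natCard (⟨(r.1 : H), mem_centralizer_singleton_iff.2
      (mul_inv_eq_iff_eq_mul.1 hr).symm⟩ : centralizer ({(z : H)} : Set H))
    rw [Subgroup.orderOf_mk, hC _ hz'] at h
    rcases (Nat.dvd_prime (by norm_num)).1 h with h | h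
    · exact orderOf_eq_one_iff.1 h
    · exfalso
      refine hR11 ?_
      rw [← h, orderOf_coe]
      exact orderOf_dvd_natCard _
  rw [← Nat.card_eq_fintype_card (α := R), hfix] at hmod
  have hmod' : p ^ a % 11 = 1 := by rw [← ha, ← hRcard]; exact hmod
  have hdiv : p ^ a ∣ 8640 := by
    have h1 : p ^ a ∣ 11 * 8640 := by
      rw [← ha, ← hRcard]
      exact R.card_subgroup_dvd_card.trans hd
    exact (Nat.Coprime.pow_left a ((Nat.coprime_primes hp (by norm_num)).2 hp11)).dvd_of_dvd_mul_left h1
  have ha0 : a ≠ 0 := by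
    intro e
    have h := Q.dvd_card_of_dvd_card hpK
    rw [ha, e, pow_zero] at h
    exact hp.ne_one (Nat.dvd_one.1 h)
  have hmem : p ∈ [2, 3, 5] := by
    have h1 : p ∣ 8640 := (dvd_pow_self p ha0).trans hdiv
    have h2 : p ∈ Nat.primeFactors 8640 := Nat.mem_primeFactors.2 ⟨hp, h1, by norm_num⟩
    have key : Nat.primeFactors 8640 = {2, 3, 5} := by
      rw [show (8640 : ℕ) = 2 ^ 6 * (3 ^ 3 * 5) by norm_num, Nat.primeFactors_mul (by norm_num) (by norm_num),
        Nat.primeFactors_mul (by norm_num) (by norm_num), Nat.primeFactors_prime_pow (by norm_num) (by norm_num),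
        Nat.primeFactors_prime_pow (by norm_num) (by norm_num), Nat.Prime.primeFactors (by norm_num)]
      rfl
    rw [key] at h2
    simpa using h2
  have ha7 : a < 7 := by
    by_contra h
    have h1 : p ^ 7 ∣ 8640 := (pow_dvd_pow p (by omega)).trans hdiv
    rcases List.mem_cons.1 hmem with rfl | hm
    · norm_num at h1
    rcases List.mem_cons.1 hm with rfl | hm
    · norm_num at h1
    · obtain rfl := List.mem_singleton.1 hm
      norm_num at h1
  exact absurd (prime_power_cases p hmem a (Finset.mem_range.2 ha7) hdiv hmod')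
    (Nat.one_lt_pow ha0 hp.one_lt).ne'

/-- The statement behind the recognition. -/
theorem isM12_of_counts {G : Type*} [Group G] [Finite G] (hcard : Nat.card G = 95040) {M : Type*} [Group M]
    [Finite M] (hM : Cfsg.IsM12 M)
    (hnse : {c : ℕ | 0 < c ∧ ∃ n : ℕ, c = Nat.card {g : G // orderOf g = n}} =
      {c : ℕ | 0 < c ∧ ∃ n : ℕ, c = Nat.card {g : M // orderOf g = n}}) : Cfsg.IsM12 G := by
  classical
  haveI : Fact (Nat.Prime 11) := ⟨by norm_num⟩
  haveI : Nontrivial G := Finite.one_lt_card_iff_nontrivial.1 (by omega)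
  have hP : ∀ P : Sylow 11 G, Nat.card (P : Subgroup G) = 11 := fun P => by
    rw [P.card_eq_multiplicity, hcard, show (95040 : ℕ).factorization 11 = 1 by
      rw [show (95040 : ℕ) = 11 * 8640 by norm_num, Nat.factorization_mul (by norm_num) (by norm_num),
        Finsupp.add_apply, Nat.Prime.factorization_self (by norm_num),
        Nat.factorization_eq_zero_of_not_dvd (by norm_num)], pow_one]
  have hn11 : Nat.card {g : G // orderOf g = 11} = 17280 := by
    obtain ⟨g, hg⟩ := exists_prime_orderOf_dvd_card' (G := G) 11 (by rw [hcard]; norm_num)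
    have hv := count_cases hM (hnse.subset ⟨Nat.card_pos_iff.2 ⟨⟨⟨g, hg⟩⟩, inferInstance⟩, 11, rfl⟩)
    obtain ⟨P⟩ : Nonempty (Sylow 11 G) := inferInstance
    rw [M11Order.card_orderOf_eq hP, mul_comm] at hv ⊢
    have hdvd : Nat.card (Sylow 11 G) ∣ 8640 := by
      have h := P.card_dvd_index
      have hi := (P : Subgroup G).card_mul_index
      rw [hP P, hcard] at hi
      rwa [show (P : Subgroup G).index = 8640 by omega] at h
    have := eleven_count _ (Nat.mem_divisors.2 ⟨hdvd, by norm_num⟩) (card_sylow_modEq_one 11 G) hv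
    omega
  have hS : Nat.card (Sylow 11 G) = 1728 := by
    have h := hn11
    rw [M11Order.card_orderOf_eq hP] at h
    omega
  have hC : ∀ x : G, orderOf x = 11 → Nat.card (centralizer ({x} : Set G)) = 11 := by
    intro x hx
    obtain ⟨P, hP'⟩ := (IsPGroup.of_card (p := 11) (n := 1) (by rw [Nat.card_zpowers, hx, pow_one]) :
      IsPGroup 11 (zpowers x)).exists_le_sylow
    have hxP : zpowers x = (P : Subgroup G) :=
      eq_of_le_of_card_ge hP' (by rw [Nat.card_zpowers, hx, hP P])
    have hN := card_normalizer hcard hS P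
    have hCN : centralizer ({x} : Set G) ≤ normalizer ((P : Subgroup G) : Set G) := by
      rw [← hxP]
      refine le_trans ?_ (centralizer_le_normalizer _)
      rw [zpowers_eq_closure, centralizer_closure]
    have hd : Nat.card (centralizer ({x} : Set G)) ∣ 55 := hN ▸ card_dvd_of_le hCN
    have h11 : 11 ∣ Nat.card (centralizer ({x} : Set G)) := by
      have := card_dvd_of_le (zpowers_le.2 (mem_centralizer_singleton_iff.2 rfl :
        x ∈ centralizer ({x} : Set G)))
      rwa [Nat.card_zpowers, hx] at this
    by_contra hne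
    obtain ⟨k, hk⟩ := h11
    rw [hk] at hd hne
    have hk5 : k = 5 := by
      rcases (Nat.dvd_prime (by norm_num : Nat.Prime 5)).1
        (Nat.dvd_of_mul_dvd_mul_left (by norm_num : 0 < 11) hd) with h | h
      · exact absurd (by rw [h]) hne
      · exact h
    subst hk5
    -- then the elements of order 55 are too many
    set C := centralizer ({x} : Set G) with hCdef
    obtain ⟨y, hy⟩ := exists_prime_orderOf_dvd_card' (G := C) (hp := ⟨by norm_num⟩) 5
      (by rw [hk]; norm_num)
    have hy' : orderOf (y : G) = 5 := (orderOf_coe y).trans hy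
    have hxy : Commute x y := (mem_centralizer_singleton_iff.1 y.2).symm
    have hgen : orderOf (x * y : G) = 55 := by
      rw [hxy.orderOf_mul_eq_mul_orderOf_of_coprime (by rw [hx, hy']; norm_num), hx, hy']
    have hxyC : x * (y : G) ∈ C :=
      C.mul_mem (mem_centralizer_singleton_iff.2 rfl) y.2
    haveI : IsCyclic C := isCyclic_of_orderOf_eq_card ⟨_, hxyC⟩ (by rw [Subgroup.orderOf_mk, hgen, hk])
    letI : MulAction G G := MulAction.compHom G (MulAut.conj : G →* MulAut G)
    let f : {g : G // orderOf g = 55} → {g : G // orderOf g = 55} := fun g =>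
      ⟨x * g.1 * x⁻¹, (MulEquiv.orderOf_eq (MulAut.conj x) g.1).trans g.2⟩
    have hfn : ∀ (n : ℕ) (r : {g : G // orderOf g = 55}),
        ((f^[n]) r : G) = x ^ n * r.1 * (x ^ n)⁻¹ := by
      intro n
      induction n with
      | zero => intro r; simp
      | succ n ih =>
        intro r
        rw [Function.iterate_succ_apply']
        show x * ((f^[n]) r : G) * x⁻¹ = _
        rw [ih, pow_succ', mul_inv_rev]
        simp only [mul_assoc]
    let g : Function.End {g : G // orderOf g = 55} := f
    have hg : g ^ 11 ^ 1 = 1 := by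
      funext r
      refine Subtype.ext ?_
      show ((f^[11]) r : G) = r
      rw [hfn, show x ^ 11 = 1 by rw [← hx, pow_orderOf_eq_one]]
      simp
    haveI := Fintype.ofFinite {g : G // orderOf g = 55}
    haveI := Fintype.ofFinite C
    have hmod := Equiv.Perm.card_fixedPoints_modEq (f := g) hg
    have hfix : Fintype.card (Function.fixedPoints g) = 40 := by
      have h1 : Fintype.card (Function.fixedPoints g) = Fintype.card {a : C // orderOf a = 55} := by
        refine Fintype.card_congr
          { toFun := fun r => ⟨⟨r.1.1, mem_centralizer_singleton_iff.2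
              (mul_inv_eq_iff_eq_mul.1 (congrArg Subtype.val r.2)).symm⟩, by rw [Subgroup.orderOf_mk]; exact r.1.2⟩
            invFun := fun a => ⟨⟨a.1.1, (orderOf_coe a.1).trans a.2⟩, Subtype.ext (by
              show x * (a.1 : G) * x⁻¹ = a.1
              rw [mul_inv_eq_iff_eq_mul]; exact (mem_centralizer_singleton_iff.1 a.1.2).symm)⟩
            left_inv := fun _ => rfl
            right_inv := fun _ => rfl }
      rw [h1, Fintype.card_subtype, IsCyclic.card_orderOf_eq_totient (by rw [← Nat.card_eq_fintype_card, hk])]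
      decide +kernel
    rw [hfix, ← Nat.card_eq_fintype_card] at hmod
    have hmod' : Nat.card {g : G // orderOf g = 55} % 11 = 40 % 11 := hmod
    have hpos : 0 < Nat.card {g : G // orderOf g = 55} :=
      Nat.card_pos_iff.2 ⟨⟨⟨_, hgen⟩⟩, inferInstance⟩
    rcases count_cases hM (hnse.subset ⟨hpos, 55, rfl⟩) with h | h | h
    · rw [h] at hmod'; omega
    · omega
    · rw [h] at hmod'; omega
  refine ⟨⟨fun N hN => ?_⟩, hcard⟩
  haveI := hN
  by_cases h11 : 11 ∣ Nat.card N
  swap
  · exact .inl (normal_trivial (dvd_of_eq hcard) (by rw [hcard]; norm_num) hC N h11)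
  right
  -- it contains every element of order eleven
  obtain ⟨P, hPN⟩ : ∃ P : Sylow 11 G, (P : Subgroup G) ≤ N := by
    obtain ⟨z, hz⟩ := exists_prime_orderOf_dvd_card' (G := N) 11 h11
    obtain ⟨P, hP'⟩ := (IsPGroup.of_card (p := 11) (n := 1)
      (by rw [Nat.card_zpowers, orderOf_coe, hz, pow_one]) : IsPGroup 11 (zpowers (z : G))).exists_le_sylow
    exact ⟨P, by rw [← eq_of_le_of_card_ge hP' (by rw [Nat.card_zpowers, orderOf_coe, hz, hP P]), zpowers_le]; exact z.2⟩
  have hsup : normalizer ((P : Subgroup G) : Set G) ⊔ N = ⊤ := by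
    haveI : Finite (Sylow 11 N) := inferInstance
    have := Sylow.normalizer_sup_eq_top (P.subtype hPN)
    rwa [Sylow.coe_subtype, Subgroup.map_subgroupOf_eq_of_le hPN] at this
  by_contra hne
  have hN5 : N.index = 5 := by
    have hd55 : N.index ∣ 55 := by
      rw [← card_normalizer hcard hS P]
      exact index_dvd_of_sup_eq_top hsup
    have hno : ¬ 11 ∣ N.index := by
      intro h
      have := mul_dvd_mul h11 h
      rw [N.card_mul_index, hcard] at this
      norm_num at this
    have : N.index ∣ 5 := ((Nat.Prime.coprime_iff_not_dvd (by norm_num)).2 hno).symm.dvd_of_dvd_mul_left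
      (show N.index ∣ 11 * 5 from hd55)
    rcases (Nat.dvd_prime (by norm_num)).1 this with h | h
    · exact absurd (Subgroup.index_eq_one.1 h) hne
    · exact h
  have hNc : Nat.card N = 19008 := by
    have := N.card_mul_index
    rw [hN5, hcard] at this
    omega
  obtain ⟨Q⟩ : Nonempty (Sylow 11 N) := inferInstance
  have hQ11 : Nat.card (Q : Subgroup N) = 11 := by
    rw [Q.card_eq_multiplicity, hNc, show (19008 : ℕ).factorization 11 = 1 by
      rw [show (19008 : ℕ) = 11 * 1728 by norm_num, Nat.factorization_mul (by norm_num) (by norm_num),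
        Finsupp.add_apply, Nat.Prime.factorization_self (by norm_num),
        Nat.factorization_eq_zero_of_not_dvd (by norm_num)], pow_one]
  have hCN : ∀ z : N, orderOf z = 11 → Nat.card (centralizer ({z} : Set N)) = 11 := by
    intro z hz
    refine Nat.dvd_antisymm ?_ ?_
    · rw [← hC z ((orderOf_coe z).trans hz), ← card_map_of_injective N.subtype_injective]
      refine card_dvd_of_le ?_
      rintro _ ⟨w, hw, rfl⟩
      exact mem_centralizer_singleton_iff.2 (congrArg Subtype.val (mem_centralizer_singleton_iff.1 hw))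
    · rw [← hz]
      exact (dvd_of_eq (Nat.card_zpowers z).symm).trans
        (card_dvd_of_le (zpowers_le.2 (mem_centralizer_singleton_iff.2 rfl)))
  have hself : normalizer ((Q : Subgroup N) : Set N) ≤ centralizer ((Q : Subgroup N) : Set N) := by
    intro n hn
    obtain ⟨z, hz⟩ := exists_prime_orderOf_dvd_card' (G := (Q : Subgroup N)) 11 (by rw [hQ11])
    have hzN : orderOf (z : N) = 11 := (orderOf_coe z).trans hz
    -- the normalizer in `N` has order prime to five
    have hcl : Nat.card (normalizer ((Q : Subgroup N) : Set N)) = 11 := by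
      have hle : (normalizer ((Q : Subgroup N) : Set N)).map N.subtype ≤
          normalizer (((Q : Subgroup N).map N.subtype : Subgroup G) : Set G) :=
        Subgroup.le_normalizer_map _
      obtain ⟨P', hP''⟩ := (Q.isPGroup'.map N.subtype).exists_le_sylow
      have hPe := eq_of_le_of_card_ge hP''
        (by rw [hP P', card_map_of_injective N.subtype_injective, hQ11])
      have hn55 := card_normalizer hcard hS P'
      rw [hPe] at hle
      have h1 := card_dvd_of_le hle
      rw [card_map_of_injective N.subtype_injective, hn55] at h1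
      have h2 : Nat.card (normalizer ((Q : Subgroup N) : Set N)) ∣ 19008 :=
        hNc ▸ Subgroup.card_subgroup_dvd_card _
      have h3 := Nat.dvd_gcd h1 h2
      norm_num at h3
      refine Nat.dvd_antisymm h3 ?_
      have := card_dvd_of_le (le_normalizer (H := (Q : Subgroup N)))
      rwa [hQ11] at this
    have he : (Q : Subgroup N) = normalizer ((Q : Subgroup N) : Set N) :=
      eq_of_le_of_card_ge le_normalizer (by rw [hcl, hQ11])
    rw [← he] at hn
    haveI := isCyclic_of_prime_card (α := (Q : Subgroup N)) hQ11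
    refine mem_centralizer_iff.2 fun w hw => ?_
    exact congrArg Subtype.val (mul_comm' (⟨w, hw⟩ : (Q : Subgroup N)) ⟨n, hn⟩)
  have hk := (MonoidHom.ker_transferSylow_isComplement' Q hself).card_mul_card
  rw [hQ11, hNc] at hk
  have hK : Nat.card (MonoidHom.transferSylow Q hself).ker = 1728 := by
    change Nat.card (MonoidHom.transferSylow Q hself).ker * 11 = 19008 at hk
    omega
  have := normal_trivial (by rw [hNc]; norm_num) (by rw [hNc]; norm_num) hCN
    (MonoidHom.transferSylow Q hself).ker (by rw [hK]; norm_num)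
  rw [this, Subgroup.card_bot] at hK
  norm_num at hK

end Cfsg.Agent.M12Order.Counts
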