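import Cfsg.Agent.Lib.M12Order.Eigen

/-!
# Degree eleven representations in characteristic two with rational traces
-/

set_option autoImplicit false
set_option linter.style.haveILetI false
set_option linter.unusedSectionVars false

namespace Cfsg.Agent.M12Order.Mod2

open Matrix

/-- The cyclic shift matrix. -/
def shiftM (R : Type*) [CommRing R] : Matrix (ZMod 11) (ZMod 11) R :=
  Matrix.of fun i j => if i = j + 1 then 1 else 0

/-- The permutation matrix of multiplication by three. -/
def threeM (R : Type*) [CommRing R] : Matrix (ZMod 11) (ZMod 11) R :=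
  Matrix.of fun i j => if i = 3 * j then 1 else 0

theorem rep_pow : ∀ i j : ZMod 11, rep i = rep j → ∃ r ∈ Finset.range 5, j = 3 ^ r * i := by
  decide +kernel

theorem rep_double : ∀ j : ZMod 11, (rep j = 1 → rep (2 * j) = 2) ∧ (rep j = 2 → rep (2 * j) = 1) ∧
    (rep j = 0 ↔ j = 0) ∧ rep (3 * j) = rep j := by
  decide +kernel

theorem rep_vals : rep 1 = 1 ∧ rep 2 = 2 ∧ rep 0 = 0 := by decide +kernel

theorem double_facts : ∀ j : ZMod 11, (2 * j = 0 ↔ j = 0) ∧ 3 * (4 * j) = j ∧ 4 * (3 * j) = j ∧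
    6 * (2 * j) = j ∧ 2 * (6 * j) = j := by
  decide +kernel

/-- Multiplication by two as a permutation. -/
def dbl : ZMod 11 ≃ ZMod 11 :=
  ⟨fun j => 2 * j, fun j => 6 * j, fun j => (double_facts j).2.2.2.1, fun j => (double_facts j).2.2.2.2⟩

variable {G : Type*} [Group G] {k : Type*} [Field k]
variable {ω : AddChar (ZMod 11) k}

/-- A function is determined by its transform. -/
theorem coeff_zero (hω : ω 1 ≠ 1) (h11 : (11 : k) = 1) {h : ZMod 11 → k}
    (h0 : ∀ a, ∑ i, ω (a * i) * h i = 0) (n : ZMod 11) : h n = 0 := by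
  have h1 : ∑ a, ω (-(a * n)) * ∑ i, ω (a * i) * h i = 0 := by simp [h0]
  simp only [Finset.mul_sum] at h1
  rw [Finset.sum_comm] at h1
  have h2 : ∀ i, ∑ a, ω (-(a * n)) * (ω (a * i) * h i) = (if i - n = 0 then 1 else 0) * h i := by
    intro i
    rw [← h11, ← sum_char hω (i - n), Finset.sum_mul]
    refine Finset.sum_congr rfl fun a _ => ?_
    rw [← mul_assoc, ← AddChar.map_add_eq_mul, show -(a * n) + a * i = a * (i - n) by ring]
  simpa [h2, sub_eq_zero] using h1

/-- Frobenius on a transform. -/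
theorem conv [CharP k 2] (hω : ω 1 ≠ 1) (h11 : (11 : k) = 1) {f g : ZMod 11 → k}
    (h : ∀ a, (∑ i, ω (a * i) * f i) ^ 2 = ∑ i, ω (a * i) * g i) (i : ZMod 11) :
    g (2 * i) = f i ^ 2 := by
  have h1 : ∀ a, ∑ j, ω (a * j) * (g j - f (6 * j) ^ 2) = 0 := by
    intro a
    simp only [mul_sub, Finset.sum_sub_distrib]
    rw [← h a, CharTwo.sum_sq, sub_eq_zero]
    refine Fintype.sum_equiv dbl _ _ fun j => ?_
    show (ω (a * j) * f j) ^ 2 = ω (a * (2 * j)) * f (6 * (2 * j)) ^ 2
    rw [(double_facts j).2.2.2.1, mul_pow, pow_two (ω _), ← AddChar.map_add_eq_mul,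
      show a * j + a * j = a * (2 * j) by ring]
  have h2 := coeff_zero hω h11 h1 (2 * i)
  rwa [(double_facts i).2.2.2.1, sub_eq_zero] at h2

variable {x u t : G} {τ : G → k} (N : Normal k ω x u τ)

theorem phi_pow (a : ZMod 11) : N.φ (x ^ a.val) = Matrix.diagonal fun j => ω (a * j) := by
  rw [map_pow, N.hx, Matrix.diagonal_pow]
  congr 1
  funext j
  rw [Pi.pow_apply, ← AddChar.map_nsmul_eq_pow, nsmul_eq_mul, ZMod.natCast_zmod_val]

variable [CharP k 2] (hω : ω 1 ≠ 1) (h11 : (11 : k) = 1) (hτ : ∀ g, τ g * τ g = τ g)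

include hω h11 hτ

theorem inv_one (g : G) (i : ZMod 11) : N.φ g (2 * i) (2 * i) = N.φ g i i ^ 2 := by
  refine conv (f := fun i => N.φ g i i) (g := fun i => N.φ g i i) hω h11 (fun a => ?_) i
  have h : ∑ i, ω (a * i) * N.φ g i i = τ (x ^ a.val * g) := by
    rw [← N.htr, map_mul, phi_pow]
    refine Finset.sum_congr rfl fun i _ => ?_
    rw [Matrix.diag_apply, Matrix.diagonal_mul]
  rw [h, pow_two, hτ]

theorem mul_mid (g h : G) (b i l : ZMod 11) :
    N.φ (g * (x ^ b.val * h)) i l = ∑ j, ω (b * j) * (N.φ g i j * N.φ h j l) := by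
  rw [map_mul, map_mul, phi_pow, Matrix.mul_apply]
  refine Finset.sum_congr rfl fun j _ => ?_
  rw [Matrix.diagonal_mul]
  ring

theorem inv_two (g h : G) (i j : ZMod 11) :
    N.φ g (2 * i) (2 * j) * N.φ h (2 * j) (2 * i) = (N.φ g i j * N.φ h j i) ^ 2 := by
  refine conv (f := fun j => N.φ g i j * N.φ h j i)
    (g := fun j => N.φ g (2 * i) j * N.φ h j (2 * i)) hω h11 (fun b => ?_) j
  rw [← mul_mid N hω h11 hτ, ← mul_mid N hω h11 hτ, inv_one N hω h11 hτ]

theorem inv_three (g h f : G) (i j l : ZMod 11) :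
    N.φ g (2 * i) (2 * j) * N.φ h (2 * j) (2 * l) * N.φ f (2 * l) (2 * i) =
      (N.φ g i j * N.φ h j l * N.φ f l i) ^ 2 := by
  refine conv (f := fun j => N.φ g i j * N.φ h j l * N.φ f l i)
    (g := fun j => N.φ g (2 * i) j * N.φ h j (2 * l) * N.φ f (2 * l) (2 * i)) hω h11 (fun b => ?_) j
  have e : ∀ p q : ZMod 11, ∑ j, ω (b * j) * (N.φ g p j * N.φ h j q * N.φ f q p) =
      N.φ (g * (x ^ b.val * h)) p q * N.φ f q p := fun p q => by
    rw [mul_mid N hω h11 hτ, Finset.sum_mul]
    exact Finset.sum_congr rfl fun j _ => by ring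
  rw [e, e, inv_two N hω h11 hτ]

theorem same_orbit (i j : ZMod 11) (hij : rep i = rep j) :
    N.φ t (2 * j) (2 * i) = N.φ t j i ^ 2 := by
  obtain ⟨r, -, rfl⟩ := rep_pow i j hij
  have h := inv_one N hω h11 hτ (u ^ r * t) i
  rw [map_mul, map_pow, N.hu, fourM_pow_mul, fourM_pow_mul] at h
  rwa [show (2 : ZMod 11) * (3 ^ r * i) = 3 ^ r * (2 * i) by ring]

theorem two_orbits (a a' b b' : ZMod 11) (ha : rep a' = rep a) (hb : rep b = rep b') :
    N.φ t (2 * a) (2 * b) * N.φ t (2 * b') (2 * a') = (N.φ t a b * N.φ t b' a') ^ 2 := by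
  obtain ⟨r, -, rfl⟩ := rep_pow a' a ha
  obtain ⟨s, -, rfl⟩ := rep_pow b b' hb
  have h := inv_two N hω h11 hτ (u ^ r * t) (u ^ s * t) a' b
  rw [map_mul, map_pow, map_mul, map_pow, N.hu, fourM_pow_mul, fourM_pow_mul, fourM_pow_mul,
    fourM_pow_mul] at h
  rwa [show (2 : ZMod 11) * (3 ^ r * a') = 3 ^ r * (2 * a') by ring,
    show (2 : ZMod 11) * (3 ^ s * b) = 3 ^ s * (2 * b) by ring]

omit hω h11 hτ

variable (hut : Commute u t)

include hut

theorem scale4 (i j : ZMod 11) : N.φ t (4 * i) (4 * j) = N.φ t i j := by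
  have h := congrArg (fun g => N.φ g (4 * i) j) hut.eq
  simp only [map_mul, N.hu] at h
  rw [fourM_mul, mul_fourM, (double_facts i).2.1] at h
  exact h.symm

theorem scale3 (r : ℕ) (i j : ZMod 11) : N.φ t (3 ^ r * i) (3 ^ r * j) = N.φ t i j := by
  induction r with
  | zero => simp
  | succ r ih =>
    rw [← ih, pow_succ', mul_assoc, mul_assoc, ← scale4 N hut (3 * _) (3 * _), (double_facts _).2.2.1,
      (double_facts _).2.2.1]

theorem border (i j : ZMod 11) (hij : rep i = rep j) :
    N.φ t 0 j = N.φ t 0 i ∧ N.φ t j 0 = N.φ t i 0 := by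
  obtain ⟨r, -, rfl⟩ := rep_pow i j hij
  constructor
  · have h := scale3 N hut r 0 i; rwa [mul_zero] at h
  · have h := scale3 N hut r i 0; rwa [mul_zero] at h

include hω h11 hτ

/-- A single border pattern is impossible. -/
theorem no_half
    (hpr : ∀ T : ZMod 11 → Prop, (∀ j, T (4 * j) ↔ T j) →
      (∀ i j, T i → ¬ T j → N.φ t i j = 0) → ∀ i j, ¬ T i → T j → N.φ t i j = 0)
    {p q : ZMod 11} (hpq : ∀ j, rep j = 0 ∨ rep j = p ∨ rep j = q) (hp0 : p ≠ 0)
    (hp2 : ∀ j, rep j = p → rep (2 * j) = q) (hq2 : ∀ j, rep j = q → rep (2 * j) = p)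
    (hp : rep p = p) (hq : rep q = q) (h1 : N.φ t 0 p ≠ 0) (h2 : N.φ t q 0 ≠ 0)
    (h3 : N.φ t 0 q = 0) (h4 : N.φ t p 0 = 0) : False := by
  have hz : ∀ i j, rep i = p → rep j = q → N.φ t i j = 0 := by
    intro i j hi hj
    have h := inv_three N hω h11 hτ t t t 0 i j
    rw [mul_zero, (border N hut q (2 * i) (by rw [hp2 i hi, hq])).1, h3, zero_mul, zero_mul,
      (border N hut p i (by rw [hi, hp])).1, (border N hut q j (by rw [hj, hq])).2] at h
    have h' := eq_zero_of_pow_eq_zero h.symm
    simpa [h1, h2] using h'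
  have h := hpr (fun j => rep j = p) (fun j => by show rep (4 * j) = p ↔ _; rw [(orbit_facts j).2.1]) ?_
    0 p (fun e => hp0 (by rw [← e]; exact rep_vals.2.2)) hp
  · exact h1 h
  intro i j hi hj
  rcases hpq j with h0 | h0 | h0
  · rw [(rep_double j).2.2.1.1 h0, (border N hut p i (by rw [hi, hp])).2, h4]
  · exact absurd h0 hj
  · exact hz i j hi h0

theorem dichotomy
    (hpr : ∀ T : ZMod 11 → Prop, (∀ j, T (4 * j) ↔ T j) →
      (∀ i j, T i → ¬ T j → N.φ t i j = 0) → ∀ i j, ¬ T i → T j → N.φ t i j = 0) :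
    (∀ i, i ≠ 0 → N.φ t 0 i ≠ 0 ∧ N.φ t i 0 ≠ 0) ∨ (∀ i, i ≠ 0 → N.φ t 0 i = 0 ∧ N.φ t i 0 = 0) := by
  have hcase : ∀ i : ZMod 11, i ≠ 0 → rep i = 1 ∨ rep i = 2 := fun i hi =>
    (orbit_facts i).2.2.2.2.resolve_left fun e => hi ((rep_double i).2.2.1.1 e)
  have hm : N.φ t 0 2 * N.φ t 2 0 = (N.φ t 0 1 * N.φ t 1 0) ^ 2 := by
    have h := inv_two N hω h11 hτ t t 0 1
    rwa [mul_zero, mul_one] at h
  by_cases hm0 : N.φ t 0 1 * N.φ t 1 0 = 0
  swap
  · left
    intro i hi
    have hm2 : N.φ t 0 2 * N.φ t 2 0 ≠ 0 := by rw [hm]; exact pow_ne_zero 2 hm0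
    rcases hcase i hi with e | e
    · obtain ⟨e1, e2⟩ := border N hut 1 i (by rw [rep_vals.1, e])
      rw [e1, e2]
      exact mul_ne_zero_iff.1 hm0
    · obtain ⟨e1, e2⟩ := border N hut 2 i (by rw [rep_vals.2.1, e])
      rw [e1, e2]
      exact mul_ne_zero_iff.1 hm2
  right
  have hm2 : N.φ t 0 2 * N.φ t 2 0 = 0 := by rw [hm, hm0]; ring
  suffices hall : N.φ t 0 1 = 0 ∧ N.φ t 1 0 = 0 ∧ N.φ t 0 2 = 0 ∧ N.φ t 2 0 = 0 by
    intro i hi
    rcases hcase i hi with e | e
    · obtain ⟨e1, e2⟩ := border N hut 1 i (by rw [rep_vals.1, e])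
      rw [e1, e2]
      exact ⟨hall.1, hall.2.1⟩
    · obtain ⟨e1, e2⟩ := border N hut 2 i (by rw [rep_vals.2.1, e])
      rw [e1, e2]
      exact ⟨hall.2.2.1, hall.2.2.2⟩
  have row : N.φ t 0 1 = 0 → N.φ t 0 2 = 0 → N.φ t 1 0 = 0 ∧ N.φ t 2 0 = 0 := by
    intro a b
    have h := hpr (fun j => rep j = 0) (fun j => by show rep (4 * j) = 0 ↔ _; rw [(orbit_facts j).2.1]) ?_
    · exact ⟨h 1 0 (by decide +kernel) rep_vals.2.2, h 2 0 (by decide +kernel) rep_vals.2.2⟩
    intro i j hi hj
    rw [(rep_double i).2.2.1.1 hi]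
    rcases (orbit_facts j).2.2.2.2.resolve_left hj with e | e
    · rw [(border N hut 1 j (by rw [rep_vals.1, e])).1, a]
    · rw [(border N hut 2 j (by rw [rep_vals.2.1, e])).1, b]
  have col : N.φ t 1 0 = 0 → N.φ t 2 0 = 0 → N.φ t 0 1 = 0 ∧ N.φ t 0 2 = 0 := by
    intro a b
    have h := hpr (fun j => rep j ≠ 0) (fun j => by show rep (4 * j) ≠ 0 ↔ _; rw [(orbit_facts j).2.1]) ?_
    · exact ⟨h 0 1 (by decide +kernel) (by decide +kernel), h 0 2 (by decide +kernel) (by decide +kernel)⟩
    intro i j hi hj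
    rw [(rep_double j).2.2.1.1 (not_not.1 hj)]
    rcases (orbit_facts i).2.2.2.2.resolve_left hi with e | e
    · rw [(border N hut 1 i (by rw [rep_vals.1, e])).2, a]
    · rw [(border N hut 2 i (by rw [rep_vals.2.1, e])).2, b]
  by_cases a : N.φ t 0 1 = 0
  · by_cases b : N.φ t 0 2 = 0
    · exact ⟨a, (row a b).1, b, (row a b).2⟩
    · have b' := (mul_eq_zero.1 hm2).resolve_left b
      by_cases a' : N.φ t 1 0 = 0
      · exact ⟨a, a', (col a' b').2, b'⟩
      · exact (no_half N hω h11 hτ hut hpr (p := 2) (q := 1)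
          (fun j => by rcases (orbit_facts j).2.2.2.2 with e | e | e <;> simp [e])
          (by decide) (fun j => (rep_double j).2.1) (fun j => (rep_double j).1)
          rep_vals.2.1 rep_vals.1 b a' a b').elim
  · have a' := (mul_eq_zero.1 hm0).resolve_left a
    by_cases b' : N.φ t 2 0 = 0
    · exact absurd (col a' b').1 a
    · exact (no_half N hω h11 hτ hut hpr (p := 1) (q := 2)
        (fun j => by rcases (orbit_facts j).2.2.2.2 with e | e | e <;> simp [e])
        (by decide) (fun j => (rep_double j).1) (fun j => (rep_double j).2.1)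
        rep_vals.1 rep_vals.2.1 a b' ((mul_eq_zero.1 hm2).resolve_right b') a').elim

/-- The scaling which makes `φ t` rational. -/
theorem exists_scale [IsAlgClosed k]
    (hpr : ∀ T : ZMod 11 → Prop, (∀ j, T (4 * j) ↔ T j) →
      (∀ i j, T i → ¬ T j → N.φ t i j = 0) → ∀ i j, ¬ T i → T j → N.φ t i j = 0) :
    ∃ d : ZMod 11 → k, (∀ j, d j ≠ 0) ∧ (∀ j, d (4 * j) = d j) ∧ ∀ i j,
      d (2 * i) * N.φ t (2 * i) (2 * j) * d j ^ 2 = d i ^ 2 * N.φ t i j ^ 2 * d (2 * j) := by
  classical
  rcases dichotomy N hω h11 hτ hut hpr with hnz | hz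
  · refine ⟨fun j => if j = 0 then 1 else N.φ t 0 j, fun j => ?_, fun j => ?_, fun i j => ?_⟩
    · by_cases h : j = 0
      · simp [h]
      · simp only [if_neg h]; exact (hnz j h).1
    · by_cases h : j = 0
      · simp [h]
      · have h4 : (4 : ZMod 11) * j ≠ 0 := fun e => h (by rw [← (double_facts j).2.1, e, mul_zero])
        simp only [if_neg h, if_neg h4]
        exact (border N hut j (4 * j) (orbit_facts j).2.1.symm).1
    · have two : ∀ l : ZMod 11, 2 * l = 0 ↔ l = 0 := fun l => (double_facts l).1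
      by_cases hi : i = 0 <;> by_cases hj : j = 0
      · subst hi; subst hj
        have h := inv_one N hω h11 hτ t 0
        simp only [mul_zero, if_true] at h ⊢
        linear_combination h
      · subst hi
        simp only [mul_zero, if_true, if_neg hj, two, if_false]
        ring
      · subst hj
        simp only [mul_zero, if_true, if_neg hi, two, if_false]
        have h := inv_two N hω h11 hτ t t 0 i
        rw [mul_zero] at h
        linear_combination h
      · simp only [if_neg hi, if_neg hj, two, if_false]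
        have h3 := inv_three N hω h11 hτ t t t 0 i j
        have h2 := inv_two N hω h11 hτ t t 0 j
        rw [mul_zero] at h3 h2
        refine mul_left_cancel₀ (pow_ne_zero 2 (hnz j hj).2) ?_
        linear_combination (N.φ t 0 (2 * j)) * h3 -
          (N.φ t 0 (2 * i) * N.φ t (2 * i) (2 * j)) * h2
  · -- the border vanishes
    have key : ∃ κ : k, κ ≠ 0 ∧ ∀ i j, rep i = 1 → rep j = 2 →
        N.φ t (2 * i) (2 * j) = κ * N.φ t i j ^ 2 ∧
        κ * N.φ t (2 * j) (2 * i) = N.φ t j i ^ 2 := by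
      by_cases hAB : ∀ i j, rep i = 1 → rep j = 2 → N.φ t i j = 0
      · have hBA := hpr (fun j => rep j = 1)
          (fun j => by show rep (4 * j) = 1 ↔ _; rw [(orbit_facts j).2.1]) (fun i j hi hj => by
            rcases (orbit_facts j).2.2.2.2 with e | e | e
            · have hi0 : i ≠ 0 := fun e' => by rw [e', rep_vals.2.2] at hi; exact absurd hi (by decide)
              rw [(rep_double j).2.2.1.1 e]; exact (hz i hi0).2
            · exact absurd e hj
            · exact hAB i j hi e)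
        refine ⟨1, one_ne_zero, fun i j hi hj => ⟨?_, ?_⟩⟩
        · rw [hAB i j hi hj, hBA _ _ (by rw [(rep_double i).1 hi]; decide) ((rep_double j).2.1 hj)]
          ring
        · rw [hAB _ _ ((rep_double j).2.1 hj) ((rep_double i).1 hi),
            hBA j i (by rw [hj]; decide) hi]
          ring
      · push Not at hAB
        obtain ⟨i0, j0, hi0, hj0, h0⟩ := hAB
        have hBA : ∃ j i, rep j = 2 ∧ rep i = 1 ∧ N.φ t j i ≠ 0 := by
          by_contra hno
          push Not at hno
          refine h0 (hpr (fun j => rep j = 2)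
            (fun j => by show rep (4 * j) = 2 ↔ _; rw [(orbit_facts j).2.1]) (fun i j hi hj => ?_)
            i0 j0 (by show ¬ rep i0 = 2; rw [hi0]; decide) hj0)
          rcases (orbit_facts j).2.2.2.2 with e | e | e
          · have hi0' : i ≠ 0 := fun e' => by rw [e', rep_vals.2.2] at hi; exact absurd hi (by decide)
            rw [(rep_double j).2.2.1.1 e]; exact (hz i hi0').2
          · exact hno i j hi e
          · exact absurd e hj
        obtain ⟨j1, i1, hj1, hi1, h1⟩ := hBA
        have hp := two_orbits N hω h11 hτ i0 i1 j0 j1 (hi1.trans hi0.symm) (hj0.trans hj1.symm) (t := t)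
        have hne := mul_ne_zero_iff.1 (hp.trans_ne (pow_ne_zero 2 (mul_ne_zero h0 h1)))
        set κ := N.φ t (2 * i0) (2 * j0) / N.φ t i0 j0 ^ 2 with hκ
        have hκ0 : κ ≠ 0 := div_ne_zero hne.1 (pow_ne_zero 2 h0)
        have hκe : κ * N.φ t i0 j0 ^ 2 = N.φ t (2 * i0) (2 * j0) :=
          div_mul_cancel₀ _ (pow_ne_zero 2 h0)
        have hB : ∀ i j, rep i = 1 → rep j = 2 → κ * N.φ t (2 * j) (2 * i) = N.φ t j i ^ 2 := by
          intro i j hi hj
          refine mul_left_cancel₀ (pow_ne_zero 2 h0) ?_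
          have h := two_orbits N hω h11 hτ i0 i j0 j (hi.trans hi0.symm) (hj0.trans hj.symm) (t := t)
          linear_combination h + N.φ t (2 * j) (2 * i) * hκe
        refine ⟨κ, hκ0, fun i j hi hj => ⟨?_, hB i j hi hj⟩⟩
        refine mul_left_cancel₀ (pow_ne_zero 2 h1) ?_
        have h := two_orbits N hω h11 hτ i i1 j j1 (hi1.trans hi.symm) (hj.trans hj1.symm) (t := t)
        linear_combination κ * h - N.φ t (2 * i) (2 * j) * hB i1 j1 hi1 hj1
    obtain ⟨κ, hκ, hk⟩ := key
    obtain ⟨a, ha⟩ := IsAlgClosed.exists_pow_nat_eq (κ ^ 2) (n := 3) (by norm_num)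
    have ha0 : a ≠ 0 := fun e => by
      rw [e] at ha; exact hκ (by simpa using ha.symm)
    let d : ZMod 11 → k := fun j => if rep j = 1 then a else if rep j = 2 then a ^ 2 / κ else 1
    have hd1 : ∀ j, rep j = 1 → d j = a := fun j h => if_pos h
    have hd2 : ∀ j, rep j = 2 → d j = a ^ 2 / κ := fun j h => by
      simp only [d]; rw [if_neg (by rw [h]; decide), if_pos h]
    have hd0 : d 0 = 1 := by simp only [d]; rw [if_neg (by decide +kernel), if_neg (by decide +kernel)]
    refine ⟨d, fun j => ?_, fun j => ?_, fun i j => ?_⟩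
    · simp only [d]
      split_ifs
      exacts [ha0, div_ne_zero (pow_ne_zero 2 ha0) hκ, one_ne_zero]
    · simp only [d, (orbit_facts j).2.1]
    · by_cases hij : rep j = rep i
      · have h := same_orbit N hω h11 hτ j i hij (t := t)
        have e1 : d i = d j := by simp only [d, hij]
        have hij2 : rep (2 * j) = rep (2 * i) := by
          rcases (orbit_facts i).2.2.2.2 with e | e | e
          · rw [(rep_double j).2.2.1.1 (hij.trans e), (rep_double i).2.2.1.1 e]
          · rw [(rep_double j).1 (hij.trans e), (rep_double i).1 e]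
          · rw [(rep_double j).2.1 (hij.trans e), (rep_double i).2.1 e]
        have e2 : d (2 * i) = d (2 * j) := by simp only [d, hij2]
        rw [h, e1, e2]; ring
      have z : ∀ l : ZMod 11, rep l = 1 ∨ rep l = 2 → 2 * l ≠ 0 := fun l hl e => by
        rw [(double_facts l).1.1 e, rep_vals.2.2] at hl
        rcases hl with e' | e' <;> exact absurd e' (by decide)
      rcases (orbit_facts i).2.2.2.2 with hi | hi | hi <;> rcases (orbit_facts j).2.2.2.2 with hj | hj | hj
      all_goals first | exact absurd (hj.trans hi.symm) hij | skip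
      · obtain rfl := (rep_double i).2.2.1.1 hi
        rw [mul_zero, (hz _ (z j (.inl hj))).1, (hz j (fun e => by subst e; exact z 0 (.inl hj) (mul_zero _))).1]
        ring
      · obtain rfl := (rep_double i).2.2.1.1 hi
        rw [mul_zero, (hz _ (z j (.inr hj))).1, (hz j (fun e => by subst e; exact z 0 (.inr hj) (mul_zero _))).1]
        ring
      · obtain rfl := (rep_double j).2.2.1.1 hj
        rw [mul_zero, (hz _ (z i (.inl hi))).2, (hz i (fun e => by subst e; exact z 0 (.inl hi) (mul_zero _))).2]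
        ring
      · rw [(hk i j hi hj).1, hd1 i hi, hd2 j hj, hd2 _ ((rep_double i).1 hi), hd1 _ ((rep_double j).2.1 hj)]
        field_simp
        linear_combination (N.φ t i j ^ 2) * ha
      · obtain rfl := (rep_double j).2.2.1.1 hj
        rw [mul_zero, (hz _ (z i (.inr hi))).2, (hz i (fun e => by subst e; exact z 0 (.inr hi) (mul_zero _))).2]
        ring
      · rw [hd2 i hi, hd1 j hj, hd1 _ ((rep_double i).2.1 hi), hd2 _ ((rep_double j).1 hj)]
        have h := (hk j i hj hi).2
        field_simp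
        linear_combination (κ ^ 2) * h - N.φ t i j ^ 2 * ha

omit hω h11 hτ hut

theorem entry_mem {z : k} (h : z ^ 2 = z) : z = 0 ∨ z = 1 := by
  by_cases hz : z = 0
  · exact .inl hz
  · exact .inr (mul_left_cancel₀ hz (by rw [mul_one, ← pow_two, h]))

variable [Finite G] [IsAlgClosed k]

include hω h11 hτ hut

/-- The binary form. -/
theorem exists_binary (hgen : Subgroup.closure ({x, u, t} : Set G) = ⊤) (ht : t * t = 1)
    (hne : Nonempty (Normal k ω x u τ)) :
    ∃ φ : G →* Matrix (ZMod 11) (ZMod 11) (ZMod 2), φ x = shiftM _ ∧ φ u = threeM _ ∧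
      ((∀ m, ∑ n, φ t m n = 1) ↔ (∀ n, ∑ m, φ t m n = 1)) := by
  classical
  obtain ⟨N, hpr⟩ := exists_pruned hgen hne
  obtain ⟨d, hd0, hd4, hds⟩ := exists_scale N hω h11 hτ hut hpr
  let V : Matrix (ZMod 11) (ZMod 11) k := Matrix.of fun m j => ω (-(j * m)) * d j
  let W : Matrix (ZMod 11) (ZMod 11) k := Matrix.of fun j n => ω (j * n) / d j
  have sc : ∀ j : ZMod 11, ∑ a, ω (a * j) = if j = 0 then 1 else 0 := fun j => by
    rw [sum_char hω, h11]
  have sc' : ∀ j : ZMod 11, ∑ a, ω (j * a) = if j = 0 then 1 else 0 := fun j => by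
    rw [← sc j]; exact Finset.sum_congr rfl fun a _ => by rw [mul_comm]
  have hWV : W * V = 1 := by
    ext i j
    rw [Matrix.mul_apply, Matrix.one_apply]
    have : ∀ n, W i n * V n j = d j / d i * ω ((i - j) * n) := fun n => by
      simp only [W, V, Matrix.of_apply]
      rw [show (i - j) * n = i * n + -(j * n) by ring, AddChar.map_add_eq_mul]
      field_simp
    simp only [this, ← Finset.mul_sum, sc', sub_eq_zero]
    split_ifs with h
    · rw [h, div_self (hd0 j), one_mul]
    · rw [mul_zero]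
  have hVW : V * W = 1 := mul_eq_one_comm.1 hWV
  let ψ : G →* Matrix (ZMod 11) (ZMod 11) k :=
    { toFun := fun g => V * N.φ g * W
      map_one' := by rw [map_one, Matrix.mul_one, hVW]
      map_mul' := fun a b => by
        rw [map_mul, show V * N.φ a * W * (V * N.φ b * W) = V * N.φ a * (W * V) * N.φ b * W by
          simp only [Matrix.mul_assoc], hWV, Matrix.mul_one]
        simp only [Matrix.mul_assoc] }
  have hψ : ∀ g m n, ψ g m n = ∑ i, ∑ j, ω (-(i * m)) * ω (j * n) * (d i * N.φ g i j / d j) := by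
    intro g m n
    show (V * N.φ g * W) m n = _
    rw [Matrix.mul_apply]
    simp only [Matrix.mul_apply, Finset.sum_mul]
    rw [Finset.sum_comm]
    refine Finset.sum_congr rfl fun i _ => Finset.sum_congr rfl fun j _ => ?_
    simp only [V, W, Matrix.of_apply]
    ring
  have hψx : ψ x = shiftM k := by
    ext m n
    rw [hψ, shiftM, Matrix.of_apply, N.hx]
    simp only [Matrix.diagonal_apply, mul_ite, mul_zero, ite_div, zero_div, Finset.sum_ite_eq,
      Finset.mem_univ, if_true]
    have : ∀ i, ω (-(i * m)) * ω (i * n) * (d i * ω i / d i) = ω (i * (n + 1 - m)) := fun i => by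
      rw [mul_div_cancel_left₀ _ (hd0 i), ← AddChar.map_add_eq_mul, ← AddChar.map_add_eq_mul]
      congr 1; ring
    simp only [this, sc, sub_eq_zero]
    exact if_congr eq_comm rfl rfl
  have hψu : ψ u = threeM k := by
    ext m n
    rw [hψ, threeM, Matrix.of_apply, Finset.sum_comm, N.hu]
    have : ∀ j, ∑ i, ω (-(i * m)) * ω (j * n) * (d i * fourM k i j / d j) = ω (j * (n - 4 * m)) := by
      intro j
      rw [Finset.sum_eq_single (4 * j)]
      · rw [fourM, Matrix.of_apply, if_pos rfl, mul_one, hd4, div_self (hd0 j), mul_one,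
          ← AddChar.map_add_eq_mul]
        congr 1; ring
      · intro i _ hi
        rw [fourM, Matrix.of_apply, if_neg hi]
        simp
      · simp
    simp only [this, sc, sub_eq_zero]
    refine if_congr ⟨fun e => ?_, fun e => ?_⟩ rfl rfl
    · rw [e, (double_facts m).2.1]
    · rw [e, (double_facts n).2.2.1]
  have hψt : ∀ m n, ψ t m n ^ 2 = ψ t m n := by
    intro m n
    rw [hψ, CharTwo.sum_sq]
    simp only [CharTwo.sum_sq]
    refine Fintype.sum_equiv dbl _ _ fun i => Fintype.sum_equiv dbl _ _ fun j => ?_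
    show _ = ω (-(2 * i * m)) * ω (2 * j * n) * (d (2 * i) * N.φ t (2 * i) (2 * j) / d (2 * j))
    rw [mul_pow, mul_pow, pow_two (ω _), pow_two (ω _), ← AddChar.map_add_eq_mul,
      ← AddChar.map_add_eq_mul, show -(i * m) + -(i * m) = -(2 * i * m) by ring,
      show j * n + j * n = 2 * j * n by ring, div_pow, mul_pow]
    congr 1
    rw [div_eq_div_iff (pow_ne_zero 2 (hd0 j)) (hd0 _)]
    linear_combination -(hds i j)
  let c : ZMod 2 →+* k := ZMod.castHom (dvd_refl 2) k
  have hcinj : Function.Injective (c.mapMatrix (m := ZMod 11)) := fun A B h => Matrix.ext fun i j =>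
    c.injective (congrFun (congrFun h i) j)
  have c0 : c 0 = 0 := map_zero c
  have c1 : c 1 = 1 := map_one c
  have hlift : ∀ A : Matrix (ZMod 11) (ZMod 11) k, (∀ i j, A i j = 0 ∨ A i j = 1) →
      A ∈ (c.mapMatrix (m := ZMod 11)).rangeS := fun A hA =>
    ⟨Matrix.of fun i j => if A i j = 0 then 0 else 1, Matrix.ext fun i j => by
      rcases hA i j with e | e <;> simp [e]⟩
  let M : Submonoid G :=
    { carrier := {g | ψ g ∈ (c.mapMatrix (m := ZMod 11)).rangeS}
      one_mem' := by simp only [Set.mem_setOf_eq, map_one]; exact one_mem _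
      mul_mem' := fun ha hb => by simp only [Set.mem_setOf_eq, map_mul] at *; exact mul_mem ha hb }
  let M' : Subgroup G :=
    { M with
      inv_mem' := fun {g} hg => by
        have h1 : g⁻¹ = g ^ (orderOf g - 1) := by
          refine inv_eq_of_mul_eq_one_right ?_
          rw [← pow_succ', Nat.sub_add_cancel (orderOf_pos g), pow_orderOf_eq_one]
        rw [h1]
        exact M.pow_mem hg _ }
  have hall : ∀ g, ψ g ∈ (c.mapMatrix (m := ZMod 11)).rangeS := fun g => by
    have hle : Subgroup.closure ({x, u, t} : Set G) ≤ M' := by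
      rw [Subgroup.closure_le]
      intro g hg
      simp only [Set.mem_insert_iff, Set.mem_singleton_iff] at hg
      rcases hg with rfl | rfl | rfl
      · exact hlift _ fun i j => by rw [hψx]; simp only [shiftM, Matrix.of_apply]; split_ifs <;> simp
      · exact hlift _ fun i j => by rw [hψu]; simp only [threeM, Matrix.of_apply]; split_ifs <;> simp
      · exact hlift _ fun i j => entry_mem (hψt i j)
    exact hle (hgen ▸ Subgroup.mem_top g)
  choose φ hφ using hall
  let Φ : G →* Matrix (ZMod 11) (ZMod 11) (ZMod 2) :=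
    { toFun := φ
      map_one' := hcinj (by rw [hφ, map_one, map_one])
      map_mul' := fun a b => hcinj (by rw [map_mul, hφ, hφ, hφ, map_mul]) }
  refine ⟨Φ, hcinj ?_, hcinj ?_, ?_⟩
  · show c.mapMatrix (φ x) = _
    rw [hφ, hψx]
    ext i j
    simp only [RingHom.mapMatrix_apply, Matrix.map_apply, shiftM, Matrix.of_apply]
    split_ifs <;> simp
  · show c.mapMatrix (φ u) = _
    rw [hφ, hψu]
    ext i j
    simp only [RingHom.mapMatrix_apply, Matrix.map_apply, threeM, Matrix.of_apply]
    split_ifs <;> simp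
  have hcast : ∀ m n, c (Φ t m n) = ψ t m n := fun m n => congrFun (congrFun (hφ t) m) n
  have h00 : (∀ i, i ≠ 0 → N.φ t 0 i = 0 ∧ N.φ t i 0 = 0) → N.φ t 0 0 = 1 := by
    intro hz
    have h := congrFun (congrFun (congrArg N.φ ht) 0) 0
    rw [map_mul, map_one, Matrix.mul_apply, Finset.sum_eq_single 0, Matrix.one_apply_eq,
      ← pow_two] at h
    · exact (entry_mem (show N.φ t 0 0 ^ 2 = N.φ t 0 0 by
        have h0 := inv_one N hω h11 hτ t 0; rw [mul_zero] at h0; exact h0.symm)).resolve_left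
        fun e => by rw [e] at h; simp at h
    · intro b _ hb
      rw [(hz b hb).1, zero_mul]
    · simp
  have hrow : ∀ m, ∑ n, c (Φ t m n) = ∑ i, ω (-(i * m)) * (d i * N.φ t i 0 / d 0) := by
    intro m
    simp only [hcast, hψ]
    rw [Finset.sum_comm]
    refine Finset.sum_congr rfl fun i _ => ?_
    rw [Finset.sum_comm, Finset.sum_eq_single 0]
    · have : ∀ n, ω (-(i * m)) * ω (0 * n) * (d i * N.φ t i 0 / d 0) =
          ω (-(i * m)) * (d i * N.φ t i 0 / d 0) := fun n => by
        rw [zero_mul, AddChar.map_zero_eq_one, mul_one]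
      simp only [this, Finset.sum_const, Finset.card_univ, ZMod.card, nsmul_eq_mul]
      rw [show ((11 : ℕ) : k) = 1 by exact_mod_cast h11, one_mul]
    · intro j _ hj
      rw [← Finset.sum_mul, ← Finset.mul_sum, sc', if_neg hj, mul_zero, zero_mul]
    · simp
  have hcol : ∀ n, ∑ m, c (Φ t m n) = ∑ j, ω (j * n) * (d 0 * N.φ t 0 j / d j) := by
    intro n
    simp only [hcast, hψ]
    rw [Finset.sum_comm, Finset.sum_eq_single 0]
    · rw [Finset.sum_comm]
      refine Finset.sum_congr rfl fun j _ => ?_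
      have : ∀ m, ω (-(0 * m)) * ω (j * n) * (d 0 * N.φ t 0 j / d j) =
          ω (j * n) * (d 0 * N.φ t 0 j / d j) := fun m => by
        rw [zero_mul, neg_zero, AddChar.map_zero_eq_one, one_mul]
      simp only [this, Finset.sum_const, Finset.card_univ, ZMod.card, nsmul_eq_mul]
      rw [show ((11 : ℕ) : k) = 1 by exact_mod_cast h11, one_mul]
    · intro i _ hi
      rw [Finset.sum_comm]
      refine Finset.sum_eq_zero fun j _ => ?_
      have e : ∀ m, -(i * m) = (-i) * m := fun m => by ring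
      rw [← Finset.sum_mul, ← Finset.sum_mul]
      simp only [e, sc', neg_eq_zero, if_neg hi, zero_mul]
    · simp
  have uniq : ∀ f : ZMod 11 → k, (∀ a, ∑ i, ω (a * i) * f i = 1) → ∀ i, i ≠ 0 → f i = 0 := by
    intro f hf i hi
    have h := coeff_zero hω h11 (h := fun i => f i - if i = 0 then 1 else 0) (fun a => by
      simp [mul_sub, Finset.sum_sub_distrib, hf]) i
    simpa [hi] using h
  have one_iff : ∀ g : ZMod 11 → ZMod 2, (∑ n, g n = 1) ↔ ∑ n, c (g n) = 1 := fun g => by
    rw [← map_sum, ← c1, c.injective.eq_iff]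
  constructor
  · intro hR
    have hz : ∀ i, i ≠ 0 → N.φ t i 0 = 0 := fun i hi => by
      have := uniq (fun i => d i * N.φ t i 0 / d 0) (fun a => by
        have := (one_iff _).1 (hR (-a))
        rw [hrow] at this
        rw [← this]
        exact Finset.sum_congr rfl fun i _ => by rw [show -(i * -a) = a * i by ring]) i hi
      simpa [hd0] using this
    rcases dichotomy N hω h11 hτ hut hpr with hnz | hall0
    · exact absurd (hz 1 (by decide)) (hnz 1 (by decide)).2
    intro n
    rw [one_iff, hcol, Finset.sum_eq_single 0]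
    · simp [h00 hall0, hd0]
    · intro j _ hj; rw [(hall0 j hj).1]; simp
    · simp
  · intro hC
    have hz : ∀ i, i ≠ 0 → N.φ t 0 i = 0 := fun i hi => by
      have := uniq (fun i => d 0 * N.φ t 0 i / d i) (fun a => by
        have := (one_iff _).1 (hC a)
        rw [hcol] at this
        rw [← this]
        exact Finset.sum_congr rfl fun i _ => by rw [mul_comm i a]) i hi
      simpa [hd0] using this
    rcases dichotomy N hω h11 hτ hut hpr with hnz | hall0
    · exact absurd (hz 1 (by decide)) (hnz 1 (by decide)).1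
    intro m
    rw [one_iff, hrow, Finset.sum_eq_single 0]
    · simp [h00 hall0, hd0]
    · intro j _ hj; rw [(hall0 j hj).2]; simp
    · simp

end Cfsg.Agent.M12Order.Mod2
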