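import Cfsg.Agent.Lib.M12Order.TenScan

/-!
# Simple groups of order 95040: degrees divisible by 55 and by 33
-/

set_option autoImplicit false

namespace Cfsg.Agent.M12Order

/-- A multiple of five and a multiple of three among the degrees over eleven. -/
def goalDeg (M : List (ℤ × ℤ × ℤ)) : Bool :=
  decide ((M.map Prod.fst).sum < 48) ||
    (M.any (fun p => p.1 % 5 == 0) && M.any (fun p => p.1 % 3 == 0))

theorem scan_deg_pos : srch moments cut goalDeg 600 kinds (450, 5, 130, 15, -114, 1) [] = true := by
  decide +kernel

theorem scan_deg_neg : srch moments cut goalDeg 600 kinds (450, 5, 130, 15, 14, 9) [] = true := by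
  decide +kernel

end Cfsg.Agent.M12Order
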