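import Cfsg.Agent.Lib.M12Order.Ten
import Cfsg.Agent.Lib.M12Order.EdgesScan

/-!
# Simple groups of order 95040: degrees divisible by 55 and by 33
-/

set_option autoImplicit false
set_option linter.style.haveILetI false
set_option linter.unusedSectionVars false

namespace Cfsg.Agent.M12Order

open Subgroup
open Cfsg.Agent.Characters Cfsg.Agent.Blocks Cfsg.Agent.PrimeBlock
open Cfsg.Agent.SmallSimple
open scoped ComplexConjugate

universe u

noncomputable local instance {G : Type u} [Group G] [Finite G] : Fintype (Cfsg.IrrCharacter G) :=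
  Fintype.ofFinite _

variable {G : Type u} [Group G] [Finite G] [IsSimpleGroup G] (hcard : Nat.card G = 95040)

include hcard

/-- Degrees divisible by 55 and by 33. -/
theorem exists_deg_edges (F : Frame G) :
    (∃ χ : Cfsg.IrrCharacter G, 11 * 5 ∣ deg χ) ∧ ∃ χ : Cfsg.IrrCharacter G, 11 * 3 ∣ deg χ := by
  classical
  haveI := Fintype.ofFinite G
  have hG := not_comm hcard
  obtain ⟨u, hu, hk, hN, t, ht, hut⟩ := exists_five_ten hcard F
  have hct := ten_inv hcard F hu hk hN ht hut
  have hui := five_int hcard hu hk hN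
  have hti := iv_spec hG ht
  have hu1 : u ≠ 1 := fun h => by rw [h, orderOf_one] at hu; norm_num at hu
  have ht1 : t ≠ 1 := fun h => by rw [h, orderOf_one] at ht; norm_num at ht
  -- values on the block
  obtain ⟨a, b, c, ⟨e45, ha, e120, hb, eθ, eθ'⟩, ca, cb, cc, rfl, hbd⟩ := five_vals hcard F hu
  rw [hk] at hbd
  push_cast at hbd
  have has : a * a ≤ 144 := by nlinarith [sq_nonneg b, sq_nonneg (1 - a + b)]
  have hbs : b * b ≤ 144 := by nlinarith [sq_nonneg a, sq_nonneg (1 - a + b)]
  obtain ⟨rfl, rfl⟩ : a = -1 ∧ b = -1 := by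
    rcases scan_n 2 (by simp) a (mem_small has) b (mem_small hbs) ca cb cc (by norm_num)
      (by push_cast; linarith) with ⟨-, h⟩ | h | h
    · exact h
    · omega
    · omega
  obtain ⟨-, t45, t54, t120, t144, tθ, tθ'⟩ := F.inv_five hcard ht (by rw [hct]; norm_num)
  set α := iv t F.c144
  -- the moments
  have n2 := F.sum_self (iv u) hui
  rw [F.sum_B, iv_triv, iv_eq e45, iv_eq ha, iv_eq e120, iv_eq hb, iv_eq eθ, iv_eq eθ', hk] at n2
  have v2 := F.sum_self (iv t) hti
  rw [F.sum_B, iv_triv, t45, t54, t120, tθ, tθ', hct] at v2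
  have hα2 : α * α = 16 := by rcases t144 with e | e <;> rw [e] <;> norm_num
  have mn := F.sum_deg hu1 (iv u) hui
  rw [iv_triv, iv_eq e45, iv_eq ha, iv_eq e120, iv_eq hb, iv_eq eθ, iv_eq eθ'] at mn
  have mv := F.sum_deg ht1 (iv t) hti
  rw [iv_triv, t45, t54, t120, tθ, tθ'] at mv
  have hne : ¬ IsConj u t := fun h => by
    obtain ⟨g, hg⟩ := isConj_iff.1 h
    have := MulEquiv.orderOf_eq (MulAut.conj g) u
    rw [show MulAut.conj g u = t from hg, hu, ht] at this
    norm_num at this
  have nv := F.sum_pair hne (iv u) (iv t) hui hti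
  rw [F.sum_B, iv_triv, iv_triv, iv_eq e45, iv_eq ha, iv_eq e120, iv_eq hb, iv_eq eθ, iv_eq eθ',
    t45, t54, t120, tθ, tθ'] at nv
  have m2 := F.sum_m_sq hcard
  obtain ⟨M5, hM5⟩ := BlockCharsA.DefectZeroVanish.exists_modular (p := 5) (by norm_num)
  let q : Cfsg.IrrCharacter G → ℤ × ℤ × ℤ := fun χ => ((Frame.m χ : ℤ), iv u χ, iv t χ)
  set L := F.R.toList.map q with hL
  have hmem : ∀ z ∈ L, z ∈ kinds := by
    intro z hz
    obtain ⟨χ, hχ, rfl⟩ := List.mem_map.1 hz
    rw [Finset.mem_toList] at hχ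
    have hdeg := Frame.deg_eq hχ
    set m := Frame.m χ with hm
    have hpos : 0 < deg χ := charDegree_pos χ
    have hmsq : (m : ℤ) * m ≤ 450 := m2 ▸ Finset.single_le_sum
      (f := fun ψ => (Frame.m ψ : ℤ) * (Frame.m ψ : ℤ)) (fun ψ _ => mul_self_nonneg _) hχ
    have hm22 : m < 22 := by by_contra hc; nlinarith
    have hdvd : m ∣ 8640 := by
      have := deg_dvd hcard χ
      rw [hdeg, show 95040 = 11 * 8640 by norm_num] at this
      exact Nat.dvd_of_mul_dvd_mul_left (by norm_num) this
    have hms := mem_ms m (Finset.mem_range.2 hm22) (by omega) hdvd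
    have hn5 : iv u χ * iv u χ ≤ 5 := by
      have := Finset.single_le_sum (f := fun ψ => iv u ψ * iv u ψ) (fun ψ _ => mul_self_nonneg _) hχ
      push_cast at n2
      linarith
    have hv130 : iv t χ * iv t χ ≤ 130 := by
      have := Finset.single_le_sum (f := fun ψ => iv t ψ * iv t ψ) (fun ψ _ => mul_self_nonneg _) hχ
      push_cast at v2
      linarith
    have hcg : (5 : ℤ) ∣ iv u χ - (deg χ : ℤ) :=
      cong_int hM5 χ (Commute.one_right u) (k := 1) (by rw [pow_one, ← hu, pow_orderOf_eq_one])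
        (by simp) (by rw [mul_one]; exact hui χ) (by rw [← deg_cast]; simp)
    rw [hdeg] at hcg
    push_cast at hcg
    have hn := nOf_spec m hms (iv u χ) (mem_small (by linarith)) hn5 (by omega)
    refine List.mem_flatMap.2 ⟨m, hms, List.mem_map.2 ⟨iv t χ,
      List.mem_filter.2 ⟨mem_small (by linarith), ?_⟩, by rw [← hn]⟩⟩
    have h4 := iv_four hG ht χ
    rw [hdeg] at h4
    push_cast at h4
    have hdv := deg_dvd_cls hcard χ (hti χ)
    rw [show cls t = 396 by have := cen_mul_cls hcard t; rw [hct] at this; omega, hdeg] at hdv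
    push_cast at hdv
    simp only [kindOK, Bool.and_eq_true, Bool.or_eq_true, decide_eq_true_eq]
    refine ⟨⟨⟨hv130, by omega⟩, ?_⟩, ?_⟩
    · apply Int.emod_eq_zero_of_dvd
      rw [show (396 : ℤ) * iv t χ = 11 * (36 * iv t χ) by ring] at hdv
      exact Int.dvd_of_mul_dvd_mul_left (by norm_num) hdv
    · by_cases h5 : 5 ∣ m
      · refine Or.inr (Int.emod_eq_zero_of_dvd ?_)
        have h0 : (χ : G → ℂ) (u * t) = ((0 : ℤ) : ℂ) := by
          rw [five_zero hcard χ (hdeg ▸ h5.mul_left 11) (by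
            rw [hut.orderOf_mul_eq_mul_orderOf_of_coprime (by rw [hu, ht]; norm_num), hu]
            exact dvd_mul_right 5 _)]
          simp
        have := cong_int hM5 χ hut (k := 1) (by rw [pow_one, ← hu, pow_orderOf_eq_one])
          (by rw [ht]; norm_num) h0 (hti χ)
        simpa using this
      · exact Or.inl (by omega)
  have hsums : ∀ (f : ℤ × ℤ × ℤ → ℤ), (L.map f).sum = ∑ χ ∈ F.R, f (q χ) := fun f => by
    rw [hL, List.map_map, Finset.sum_map_toList]; rfl
  have hmom : (L.map moments).sum =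
      (450, 5, 130, 15, -50 - 16 * α, 5 - α) := by
    rw [hL, List.map_map, Finset.sum_map_toList]
    simp only [Prod.ext_iff, Prod.fst_sum, Prod.snd_sum, moments, q, Function.comp_apply]
    push_cast at n2 v2
    exact ⟨m2, by linarith, by linarith, by linarith, by linarith, by linarith⟩
  obtain ⟨M, hM, hgood⟩ : ∃ M : List (ℤ × ℤ × ℤ), M.Perm L ∧ goalDeg M = true := by
    rcases t144 with e | e <;> rw [e] at hmom <;> norm_num at hmom
    · exact srch_spec (U := fun _ => True) cut_spec scan_deg_pos hmem (fun _ _ => trivial) hmom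
    · exact srch_spec (U := fun _ => True) cut_spec scan_deg_neg hmem (fun _ _ => trivial) hmom
  -- counting involutions
  obtain ⟨z, hz, hz192⟩ := exists_192 hcard F
  have htz : ¬ IsConj t z := fun hconj => by
    have hcl : cls t = cls z := by
      rw [← cls_eq_card, ← cls_eq_card]
      exact Nat.card_congr (Equiv.subtypeEquivRight fun h =>
        ⟨fun h' => hconj.symm.trans h', fun h' => hconj.trans h'⟩)
    have h1 := cen_mul_cls hcard t
    have h2 := cen_mul_cls hcard z
    rw [hct, hcl] at h1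
    rw [hz192] at h2
    omega
  have hcount := le_card_sq_one (L := [t, z]) (by simp [ht, hz]) (List.pairwise_pair.2 htz)
  have q1 := cen_mul_cls hcard t
  have q2 := cen_mul_cls hcard z
  rw [hct] at q1; rw [hz192] at q2
  simp only [List.map_cons, List.map_nil, List.sum_cons, List.sum_nil] at hcount
  obtain ⟨hfs, -⟩ := fs_bound F
  have hinv : (892 : ℤ) ≤ (Nat.card {s : G // s * s = 1} : ℤ) := by
    exact_mod_cast (show 892 ≤ Nat.card {s : G // s * s = 1} by omega)
  have hMsum : (M.map Prod.fst).sum = ∑ χ ∈ F.R, (Frame.m χ : ℤ) := by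
    rw [(hM.map Prod.fst).sum_eq, hsums]
  simp only [goalDeg, Bool.or_eq_true, Bool.and_eq_true, decide_eq_true_eq, List.any_eq_true,
    beq_iff_eq] at hgood
  rcases hgood with h | ⟨⟨p, hp, hp5⟩, ⟨p', hp', hp3⟩⟩
  · omega
  have key : ∀ p ∈ M, ∀ k : ℕ, p.1 % (k : ℤ) = 0 →
      ∃ χ : Cfsg.IrrCharacter G, 11 * k ∣ deg χ := by
    intro p hp k hk
    obtain ⟨χ, hχ, rfl⟩ := List.mem_map.1 (hM.subset hp)
    rw [Finset.mem_toList] at hχ
    refine ⟨χ, ?_⟩
    rw [Frame.deg_eq hχ]
    exact Nat.mul_dvd_mul_left 11 (Int.natCast_dvd_natCast.1 (Int.dvd_of_emod_eq_zero hk))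
  exact ⟨key p hp 5 (by exact_mod_cast hp5), key p' hp' 3 (by exact_mod_cast hp3)⟩

end Cfsg.Agent.M12Order
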