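import Mathlib

/-!
# Degree eleven representations in characteristic two: diagonalisation and pruning
-/

set_option autoImplicit false
set_option linter.style.haveILetI false
set_option linter.unusedSectionVars false

namespace Cfsg.Agent.M12Order.Mod2

open Matrix

/-- The orbit representative under multiplication by four. -/
def rep (j : ZMod 11) : ZMod 11 := [0, 1, 2, 1, 1, 1, 2, 2, 2, 1, 2].getD j.val 0

/-- The position in the orbit. -/
def ex (j : ZMod 11) : ℕ := [0, 0, 0, 4, 1, 2, 4, 3, 1, 3, 2].getD j.val 0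

theorem orbit_facts : ∀ j : ZMod 11, rep j * 4 ^ ex j = j ∧ rep (4 * j) = rep j ∧
    ex j < 5 ∧ (j ≠ 0 → ex (4 * j) = (ex j + 1) % 5) ∧ (rep j = 0 ∨ rep j = 1 ∨ rep j = 2) := by
  decide +kernel

theorem four_fix : ∀ c : ZMod 11, c = 4 * c → c = 0 := by decide

variable {G : Type*} [Group G] {k : Type*} [Field k]

/-- The permutation matrix of multiplication by four. -/
def fourM (k : Type*) [Field k] : Matrix (ZMod 11) (ZMod 11) k :=
  Matrix.of fun i j => if i = 4 * j then 1 else 0

theorem fourM_mul (A : Matrix (ZMod 11) (ZMod 11) k) (i j : ZMod 11) :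
    (fourM k * A) i j = A (3 * i) j := by
  rw [Matrix.mul_apply, Finset.sum_eq_single (3 * i)]
  · rw [fourM, Matrix.of_apply, if_pos, one_mul]
    rw [← mul_assoc, show (4 : ZMod 11) * 3 = 1 by decide, one_mul]
  · intro b _ hb
    rw [fourM, Matrix.of_apply, if_neg, zero_mul]
    intro h
    apply hb
    rw [h, ← mul_assoc, show (3 : ZMod 11) * 4 = 1 by decide, one_mul]
  · simp

theorem mul_fourM (A : Matrix (ZMod 11) (ZMod 11) k) (i j : ZMod 11) :
    (A * fourM k) i j = A i (4 * j) := by
  rw [Matrix.mul_apply, Finset.sum_eq_single (4 * j)]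
  · rw [fourM, Matrix.of_apply, if_pos rfl, mul_one]
  · intro b _ hb
    rw [fourM, Matrix.of_apply, if_neg hb, mul_zero]
  · simp

theorem fourM_pow_mul (A : Matrix (ZMod 11) (ZMod 11) k) :
    ∀ (n : ℕ) (i j : ZMod 11), (fourM k ^ n * A) i j = A (3 ^ n * i) j
  | 0, i, j => by simp
  | n + 1, i, j => by
    rw [pow_succ', Matrix.mul_assoc, fourM_mul, fourM_pow_mul A n, pow_succ, mul_assoc]

/-- A homomorphism in normal form with prescribed traces. -/
structure Normal (k : Type*) [Field k] (ω : AddChar (ZMod 11) k) (x u : G) (τ : G → k) where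
  φ : G →* Matrix (ZMod 11) (ZMod 11) k
  hx : φ x = Matrix.diagonal fun j => ω j
  hu : φ u = fourM k
  htr : ∀ g, (φ g).trace = τ g

variable {ω : AddChar (ZMod 11) k}

theorem sum_char (hω : ω 1 ≠ 1) (j : ZMod 11) : ∑ a, ω (a * j) = if j = 0 then (11 : k) else 0 := by
  split_ifs with h
  · subst h
    simp
  · set S := ∑ a, ω (a * j) with hS
    have hshift : ω j * S = S := by
      rw [hS, Finset.mul_sum]
      refine Fintype.sum_equiv (Equiv.addLeft (1 : ZMod 11)) _ _ fun a => ?_
      rw [Equiv.coe_addLeft, add_mul, one_mul, AddChar.map_add_eq_mul]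
    have hj : ω j ≠ 1 := by
      intro e
      apply hω
      haveI : Fact (Nat.Prime 11) := ⟨by norm_num⟩
      have h1 : ((j⁻¹).val : ZMod 11) * j = 1 := by rw [ZMod.natCast_zmod_val, inv_mul_cancel₀ h]
      rw [← h1, ← nsmul_eq_mul, AddChar.map_nsmul_eq_pow, e, one_pow]
    by_contra hS0
    exact hj (mul_left_eq_self₀.1 hshift |>.resolve_right hS0)

/-- Diagonalisation of `x`, with `u` a permutation. -/
theorem exists_normal (ρ : G →* Matrix (ZMod 11) (ZMod 11) k) {x u : G} (hx : x ^ 11 = 1)
    (hu : u ^ 5 = 1) (hconj : u * x * u⁻¹ = x ^ 3) (h11 : (11 : k) = 1) (hω : ω 1 ≠ 1)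
    (htrx : ∀ i : ℕ, ¬ 11 ∣ i → (ρ (x ^ i)).trace = 0) (htru : (ρ u).trace = 1) :
    Nonempty (Normal k ω x u fun g => (ρ g).trace) := by
  classical
  haveI : Fact (Nat.Prime 11) := ⟨by norm_num⟩
  set X := ρ x with hX
  set U := ρ u with hU
  have hX11 : X ^ 11 = 1 := by rw [hX, ← map_pow, hx, map_one]
  let E : ZMod 11 → Matrix (ZMod 11) (ZMod 11) k := fun j => ∑ a : ZMod 11, ω (-(a * j)) • X ^ a.val
  have hE : ∀ j, X * E j = ω j • E j := by
    intro j
    simp only [E, Finset.mul_sum, Finset.smul_sum, Matrix.mul_smul]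
    refine Fintype.sum_equiv (Equiv.addLeft (1 : ZMod 11)) _ _ fun a => ?_
    rw [Equiv.coe_addLeft, smul_smul, ← AddChar.map_add_eq_mul,
      show j + -((1 + a) * j) = -(a * j) by ring]
    congr 1
    rw [← pow_succ', ZMod.val_add, ← pow_eq_pow_mod _ hX11, ZMod.val_one, add_comm]
  have htE : ∀ j, (E j).trace = 1 := by
    intro j
    simp only [E, Matrix.trace_sum, Matrix.trace_smul, smul_eq_mul]
    rw [Finset.sum_eq_single 0]
    · simp only [zero_mul, neg_zero, AddChar.map_zero_eq_one, one_mul, ZMod.val_zero, pow_zero,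
        Matrix.trace_one, ZMod.card]
      exact_mod_cast h11
    · intro a _ ha
      rw [hX, ← map_pow, htrx _ fun hd => ha ?_, mul_zero]
      rw [← ZMod.natCast_zmod_val a, (ZMod.natCast_eq_zero_iff _ _).2 hd]
    · simp
  have hv : ∀ j, ∃ v : ZMod 11 → k, v ≠ 0 ∧ X *ᵥ v = ω j • v := by
    intro j
    have hne : E j ≠ 0 := fun e => by
      have := htE j; rw [e, Matrix.trace_zero] at this; exact zero_ne_one this
    obtain ⟨a, b, hab⟩ : ∃ a b, E j a b ≠ 0 := by
      by_contra h; push Not at h; exact hne (Matrix.ext h)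
    refine ⟨fun i => E j i b, fun e => hab (congrFun e a), funext fun i => ?_⟩
    have := congrFun (congrFun (hE j) i) b
    simpa [Matrix.mul_apply, Matrix.mulVec, dotProduct] using this
  choose v hv0 hvX using hv
  have hXU : X * U = U * X ^ 4 := by
    rw [hX, hU, ← map_mul, ← map_pow, ← map_mul]
    congr 1
    have h : u * x ^ 4 * u⁻¹ = x := by
      rw [← conj_pow, hconj, ← pow_mul, show 3 * 4 = 11 + 1 by norm_num, pow_succ, hx, one_mul]
    conv_lhs => rw [← h]
    group
  have hU5 : U ^ 5 = 1 := by rw [hU, ← map_pow, hu, map_one]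
  have hpow : ∀ (n : ℕ) (j : ZMod 11) (w : ZMod 11 → k), X *ᵥ w = ω j • w →
      X *ᵥ ((U ^ n) *ᵥ w) = ω (j * 4 ^ n) • ((U ^ n) *ᵥ w) := by
    intro n
    induction n with
    | zero => intro j w hw; simpa using hw
    | succ n ih =>
      intro j w hw
      have h4 : ∀ m : ℕ, (X ^ m) *ᵥ ((U ^ n) *ᵥ w) = ω (j * 4 ^ n) ^ m • ((U ^ n) *ᵥ w) := by
        intro m
        induction m with
        | zero => simp
        | succ m ihm =>
          rw [pow_succ', ← Matrix.mulVec_mulVec, ihm, Matrix.mulVec_smul, ih j w hw, smul_smul, ← pow_succ]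
      rw [pow_succ', ← Matrix.mulVec_mulVec, Matrix.mulVec_mulVec _ X U, hXU, ← Matrix.mulVec_mulVec,
        h4 4, Matrix.mulVec_smul, ← AddChar.map_nsmul_eq_pow, nsmul_eq_mul]
      congr 2
      rw [pow_succ]; push_cast; ring
  let w : ZMod 11 → ZMod 11 → k := fun j => (U ^ ex j) *ᵥ v (rep j)
  have hwX : ∀ j, X *ᵥ w j = ω j • w j := by
    intro j
    rw [hpow (ex j) (rep j) _ (hvX _), (orbit_facts j).1]
  have hinj : Function.Injective fun j => ω j := by
    intro i j hij
    simp only at hij
    by_contra hne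
    have h0 : i - j ≠ 0 := sub_ne_zero.2 hne
    have h1 : ω (i - j) = 1 := by
      have hb : ω (i - j) * ω j = 1 * ω j := by
        rw [← AddChar.map_add_eq_mul, sub_add_cancel, one_mul, hij]
      exact mul_right_cancel₀ (by
        intro e
        have : ω j * ω (-j) = 1 := by rw [← AddChar.map_add_eq_mul, add_neg_cancel, AddChar.map_zero_eq_one]
        rw [e, zero_mul] at this
        exact zero_ne_one this) hb
    apply hω
    have h2 : (((i - j)⁻¹).val : ZMod 11) * (i - j) = 1 := by
      rw [ZMod.natCast_zmod_val, inv_mul_cancel₀ h0]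
    rw [← h2, ← nsmul_eq_mul, AddChar.map_nsmul_eq_pow, h1, one_pow]
  have hw0 : ∀ j, w j ≠ 0 := by
    intro j e
    refine hv0 (rep j) ?_
    have h := congrArg ((U ^ (5 - ex j)) *ᵥ ·) e
    simp only [w, Matrix.mulVec_mulVec, ← pow_add, Matrix.mulVec_zero] at h
    rwa [show 5 - ex j + ex j = 5 by have := (orbit_facts j).2.2.1; omega, hU5, Matrix.one_mulVec] at h
  have hli : LinearIndependent k w := by
    refine Module.End.eigenvectors_linearIndependent' (Matrix.toLin' X) (fun j => ω j) hinj w fun j => ?_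
    refine ⟨Module.End.mem_eigenspace_iff.2 ?_, hw0 j⟩
    rw [Matrix.toLin'_apply, hwX j]
  let P : Matrix (ZMod 11) (ZMod 11) k := Matrix.of fun i j => w j i
  have hP : IsUnit P := Matrix.linearIndependent_cols_iff_isUnit.1 (by exact hli)
  have hPd : IsUnit P.det := (Matrix.isUnit_iff_isUnit_det P).1 hP
  let φ : G →* Matrix (ZMod 11) (ZMod 11) k :=
    { toFun := fun g => P⁻¹ * ρ g * P
      map_one' := by rw [map_one, Matrix.mul_one, Matrix.nonsing_inv_mul _ hPd]
      map_mul' := fun a b => by
        rw [map_mul, show P⁻¹ * ρ a * P * (P⁻¹ * ρ b * P) = P⁻¹ * ρ a * (P * P⁻¹) * ρ b * P by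
          simp only [Matrix.mul_assoc], Matrix.mul_nonsing_inv _ hPd, Matrix.mul_one]
        simp only [Matrix.mul_assoc] }
  have hcol : ∀ (A : Matrix (ZMod 11) (ZMod 11) k) (i j : ZMod 11), (A * P) i j = (A *ᵥ w j) i :=
    fun A i j => by simp [P, Matrix.mul_apply, Matrix.mulVec, dotProduct]
  have hφx : φ x = Matrix.diagonal fun j => ω j := by
    show P⁻¹ * X * P = _
    have h : X * P = P * Matrix.diagonal fun j => ω j := by
      ext i j
      rw [hcol, hwX, Matrix.mul_diagonal]
      simp [P, mul_comm]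
    rw [Matrix.mul_assoc, h, Matrix.nonsing_inv_mul_cancel_left _ _ hPd]
  have htr : ∀ g, (φ g).trace = (ρ g).trace := fun g => by
    show (P⁻¹ * ρ g * P).trace = _
    rw [Matrix.trace_mul_cycle, Matrix.mul_nonsing_inv _ hPd, Matrix.one_mul]
  refine ⟨⟨φ, hφx, ?_, htr⟩⟩
  -- the permutation
  have hcols : ∀ j, j ≠ 0 → ∀ i, (φ u) i j = fourM k i j := by
    intro j hj i
    show (P⁻¹ * U * P) i j = _
    have hUw : U *ᵥ w j = w (4 * j) := by
      simp only [w, Matrix.mulVec_mulVec, ← pow_succ']
      rw [(orbit_facts j).2.1, (orbit_facts j).2.2.2.1 hj, pow_eq_pow_mod (ex j + 1) hU5]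
    have h4 : (U * P) = P * (P⁻¹ * U * P) := by
      rw [← Matrix.mul_assoc, ← Matrix.mul_assoc, Matrix.mul_nonsing_inv _ hPd, Matrix.one_mul]
    have hcolj : ∀ l, (P⁻¹ * U * P) l j = (P⁻¹ *ᵥ w (4 * j)) l := fun l => by
      rw [Matrix.mul_assoc, Matrix.mul_apply, Matrix.mulVec, dotProduct]
      refine Finset.sum_congr rfl fun q _ => ?_
      rw [hcol, hUw]
    rw [hcolj]
    have he : (P⁻¹ *ᵥ w (4 * j)) i = (P⁻¹ * P) i (4 * j) := by rw [hcol]
    rw [he, Matrix.nonsing_inv_mul _ hPd, fourM, Matrix.of_apply, Matrix.one_apply]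
  have hXU' : φ x * φ u = φ u * (φ x) ^ 4 := by
    rw [← map_pow, ← map_mul, ← map_mul]
    congr 1
    have h : u * x ^ 4 * u⁻¹ = x := by
      rw [← conj_pow, hconj, ← pow_mul, show 3 * 4 = 11 + 1 by norm_num, pow_succ, hx, one_mul]
    conv_lhs => rw [← h]
    group
  have hoff : ∀ i, i ≠ 0 → (φ u) i 0 = 0 := by
    intro i hi
    have h := congrFun (congrFun hXU' i) 0
    rw [hφx, Matrix.diagonal_pow, Matrix.diagonal_mul, Matrix.mul_diagonal] at h
    simp only [Pi.pow_apply, AddChar.map_zero_eq_one, one_pow, mul_one] at h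
    by_contra hne
    have : ω i = ω 0 := by
      rw [AddChar.map_zero_eq_one]
      exact mul_right_cancel₀ hne (h.trans (one_mul _).symm)
    exact hi (hinj this)
  ext i j
  by_cases hj : j = 0
  · subst hj
    rw [fourM, Matrix.of_apply, mul_zero]
    by_cases hi : i = 0
    · subst hi
      rw [if_pos rfl]
      have h := htr u
      rw [htru, Matrix.trace, Finset.sum_eq_single (0 : ZMod 11)] at h
      · simpa using h
      · intro b _ hb
        rw [Matrix.diag_apply, hcols b hb, fourM, Matrix.of_apply, if_neg]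
        exact fun e => hb (four_fix b e)
      · simp
    · rw [if_neg hi, hoff i hi]
  · exact hcols j hj i

variable [Finite G] {x u t : G} {τ : G → k}

/-- There is a normal form in which block triangular patterns are block diagonal. -/
theorem exists_pruned (hgen : Subgroup.closure ({x, u, t} : Set G) = ⊤)
    (h : Nonempty (Normal k ω x u τ)) :
    ∃ N : Normal k ω x u τ, ∀ T : ZMod 11 → Prop, (∀ j, T (4 * j) ↔ T j) →
      (∀ i j, T i → ¬ T j → N.φ t i j = 0) → ∀ i j, ¬ T i → T j → N.φ t i j = 0 := by
  classical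
  let cnt : Normal k ω x u τ → ℕ := fun N =>
    (Finset.univ.filter fun p : ZMod 11 × ZMod 11 => N.φ t p.1 p.2 ≠ 0).card
  have hex : ∃ n, ∃ N : Normal k ω x u τ, cnt N = n := h.elim fun N => ⟨_, N, rfl⟩
  obtain ⟨N, hN⟩ := Nat.find_spec hex
  refine ⟨N, fun T hT h0 i j hi hj => ?_⟩
  by_contra hne
  -- every element respects the pattern
  have hdiag : ∀ (d : ZMod 11 → k) (a b : ZMod 11), T a → ¬ T b → Matrix.diagonal d a b = 0 :=
    fun d a b ha hb => Matrix.diagonal_apply_ne _ fun e => hb (e ▸ ha)
  let M : Submonoid G :=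
    { carrier := {g | ∀ a b, T a → ¬ T b → N.φ g a b = 0}
      one_mem' := fun a b ha hb => by
        rw [map_one]
        exact Matrix.one_apply_ne fun e => hb (e ▸ ha)
      mul_mem' := fun {g g'} hg hg' a b ha hb => by
        rw [map_mul, Matrix.mul_apply]
        refine Finset.sum_eq_zero fun c _ => ?_
        by_cases hc : T c
        · rw [hg' c b hc hb, mul_zero]
        · rw [hg a c ha hc, zero_mul] }
  let M' : Subgroup G :=
    { M with
      inv_mem' := fun {g} hg => by
        have h1 : g⁻¹ = g ^ (orderOf g - 1) := by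
          refine inv_eq_of_mul_eq_one_right ?_
          rw [← pow_succ', Nat.sub_add_cancel (orderOf_pos g), pow_orderOf_eq_one]
        rw [h1]
        exact M.pow_mem hg _ }
  have hall : ∀ g, g ∈ M' := fun g => by
    have hle : Subgroup.closure ({x, u, t} : Set G) ≤ M' := by
      rw [Subgroup.closure_le]
      intro g hg
      simp only [Set.mem_insert_iff, Set.mem_singleton_iff] at hg
      rcases hg with rfl | rfl | rfl
      · intro a b ha hb; rw [N.hx]; exact hdiag _ a b ha hb
      · intro a b ha hb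
        rw [N.hu, fourM, Matrix.of_apply, if_neg]
        exact fun e => hb ((hT b).1 (by rw [← e]; exact ha))
      · exact h0
    exact hle (hgen ▸ Subgroup.mem_top g)
  let B : G → Matrix (ZMod 11) (ZMod 11) k := fun g =>
    Matrix.of fun a b => if (T a ↔ T b) then N.φ g a b else 0
  let ψ : G →* Matrix (ZMod 11) (ZMod 11) k :=
    { toFun := B
      map_one' := by
        ext a b
        simp only [B, Matrix.of_apply, map_one]
        split_ifs with hab
        · rfl
        · rw [Matrix.one_apply_ne fun e => hab (by rw [e])]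
      map_mul' := fun g g' => by
        ext a b
        simp only [B, Matrix.of_apply, map_mul, Matrix.mul_apply]
        split_ifs with hab
        · refine Finset.sum_congr rfl fun c _ => ?_
          by_cases hac : T a ↔ T c
          · rw [if_pos hac, if_pos (hac.symm.trans hab)]
          · rw [if_neg hac, zero_mul]
            by_cases ha : T a
            · rw [hall g a c ha (fun hc => hac (iff_of_true ha hc)), zero_mul]
            · have hc : T c := by by_contra hc; exact hac (iff_of_false ha hc)
              rw [hall g' c b hc (fun hb => ha (hab.2 hb)), mul_zero]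
        · refine (Finset.sum_eq_zero fun c _ => ?_).symm
          by_cases hac : T a ↔ T c
          · rw [if_neg fun hcb => hab (hac.trans hcb), mul_zero]
          · rw [if_neg hac, zero_mul] }
  let N' : Normal k ω x u τ :=
    { φ := ψ
      hx := by
        show B x = _
        ext a b
        simp only [B, Matrix.of_apply, N.hx]
        split_ifs with hab
        · rfl
        · rw [Matrix.diagonal_apply_ne _ fun e => hab (by rw [e])]
      hu := by
        show B u = _
        ext a b
        simp only [B, Matrix.of_apply, N.hu, fourM]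
        by_cases hab : T a ↔ T b
        · rw [if_pos hab]
        · rw [if_neg hab, if_neg]
          intro e
          exact hab (by rw [e]; exact hT b)
      htr := fun g => by
        rw [← N.htr g]
        refine Finset.sum_congr rfl fun a _ => ?_
        show B g a a = N.φ g a a
        simp [B] }
  have hlt : cnt N' < cnt N := by
    refine Finset.card_lt_card ⟨fun p hp => ?_, fun hsub => ?_⟩
    · simp only [Finset.mem_filter, Finset.mem_univ, true_and] at hp ⊢
      intro e
      exact hp (by show B t p.1 p.2 = 0; simp [B, e])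
    · have := hsub (Finset.mem_filter.2 ⟨Finset.mem_univ (i, j), hne⟩)
      simp only [Finset.mem_filter, Finset.mem_univ, true_and] at this
      exact this (by
        show B t i j = 0
        simp only [B, Matrix.of_apply]
        rw [if_neg fun e => hi (e.2 hj)])
  have := Nat.find_min' hex ⟨N', rfl⟩
  omega

end Cfsg.Agent.M12Order.Mod2
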