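import Mathlib

/-!
# Exhaustive search over multisets with a prescribed sum
-/

set_option autoImplicit false

namespace Cfsg.Agent.M12Order

variable {κ σ : Type*} [AddCommGroup σ] [DecidableEq σ]

/-- `srch f prune good fuel K s acc` tests that every multiset over `K` whose image under `f` has
sum `s` extends `acc` to a good list. -/
def srch (f : κ → σ) (prune : σ → Bool) (good : List κ → Bool) :
    ℕ → List κ → σ → List κ → Bool
  | 0, _, _, _ => false
  | n + 1, K, s, acc =>
    prune s || match K with
      | [] => decide (s ≠ 0) || good acc
      | c :: cs => srch f prune good n cs s acc && srch f prune good n (c :: cs) (s - f c) (c :: acc)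

theorem srch_sound {f : κ → σ} {prune : σ → Bool} {good : List κ → Bool} {U : κ → Prop}
    (hprune : ∀ (s : σ) (L : List κ), prune s = true → (∀ z ∈ L, U z) → (L.map f).sum ≠ s) :
    ∀ (n : ℕ) (K : List κ) (s : σ) (acc : List κ), srch f prune good n K s acc = true →
      ∀ L : List κ, (∀ z ∈ L, z ∈ K) → (∀ z ∈ L, U z) → (L.map f).sum = s →
        ∃ M : List κ, M.Perm (L ++ acc) ∧ good M = true := by
  classical
  intro n
  induction n with
  | zero => intro K s acc h; simp [srch] at h
  | succ n ih =>
    intro K s acc h L hK hU hs
    match K, h with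
    | [], h =>
      simp only [srch, Bool.or_eq_true] at h
      rcases h with h | h
      · exact absurd hs (hprune s L h hU)
      obtain rfl : L = [] := List.eq_nil_iff_forall_not_mem.2 fun z hz => by simpa using hK z hz
      simp only [List.map_nil, List.sum_nil] at hs
      simp only [decide_eq_true_eq] at h
      rcases h with h | h
      · exact absurd hs.symm h
      · exact ⟨acc, List.Perm.refl _, h⟩
    | c :: cs, h =>
      simp only [srch, Bool.or_eq_true] at h
      rcases h with h | h
      · exact absurd hs (hprune s L h hU)
      rw [Bool.and_eq_true] at h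
      by_cases hc : c ∈ L
      · have hp : L.Perm (c :: L.erase c) := List.perm_cons_erase hc
        have hsum : ((L.erase c).map f).sum = s - f c := by
          rw [← hs, ((hp.map f).sum_eq), List.map_cons, List.sum_cons]
          abel
        obtain ⟨M, hM, hg⟩ := ih (c :: cs) (s - f c) (c :: acc) h.2 (L.erase c)
          (fun z hz => hK z (List.mem_of_mem_erase hz))
          (fun z hz => hU z (List.mem_of_mem_erase hz)) hsum
        refine ⟨M, hM.trans (List.perm_middle.trans ?_), hg⟩
        exact (hp.symm).append_right acc
      · exact ih cs s acc h.1 L (fun z hz => (List.mem_cons.1 (hK z hz)).resolve_left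
          (fun e => hc (e ▸ hz))) hU hs

/-- The same, started from the empty list. -/
theorem srch_spec {f : κ → σ} {prune : σ → Bool} {good : List κ → Bool} {U : κ → Prop}
    (hprune : ∀ (s : σ) (L : List κ), prune s = true → (∀ z ∈ L, U z) → (L.map f).sum ≠ s)
    {n : ℕ} {K : List κ} {s : σ} (h : srch f prune good n K s [] = true) {L : List κ}
    (hK : ∀ z ∈ L, z ∈ K) (hU : ∀ z ∈ L, U z) (hs : (L.map f).sum = s) :
    ∃ M : List κ, M.Perm L ∧ good M = true := by
  obtain ⟨M, hM, hg⟩ := srch_sound hprune n K s [] h L hK hU hs
  exact ⟨M, by simpa using hM, hg⟩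

end Cfsg.Agent.M12Order
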