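import Cfsg.Agent.Lib.M12Order.Basic
import Cfsg.Agent.Lib.M12Order.Search

/-!
# Simple groups of order 95040: the Sylow 11-subgroup is its own centralizer
-/

set_option autoImplicit false
set_option linter.style.haveILetI false
set_option linter.unusedSectionVars false

namespace Cfsg.Agent.M12Order

open Subgroup
open Cfsg.Agent.Characters Cfsg.Agent.Blocks Cfsg.Agent.PrimeBlock
open Cfsg.Agent.SmallSimple

universe u

/-- The small values. -/
def vals : List ℤ := (List.range 177).map fun i : ℕ => (i : ℤ) - 88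

theorem mem_vals {v : ℤ} {C : ℕ} (h : v * v ≤ (C : ℤ)) (hC : C ≤ 7920) : v ∈ vals := by
  have hC' : (C : ℤ) ≤ 7920 := by exact_mod_cast hC
  have h1 : v ≤ 88 := by by_contra hc; nlinarith
  have h2 : -88 ≤ v := by by_contra hc; nlinarith
  exact List.mem_map.2 ⟨(v + 88).toNat, List.mem_range.2 (by omega), by omega⟩

/-- The degrees in `[lo, 309)`, with both signs. -/
def signedDivs (lo : ℕ) : List ℤ :=
  (divs.filter fun d => decide (lo ≤ d ∧ d < 309)).flatMap fun d : ℕ => [((d : ℕ) : ℤ), -((d : ℕ) : ℤ)]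

theorem mem_signedDivs {lo d : ℕ} (hd : d ∣ 95040) (h1 : lo ≤ d) (h2 : d < 309) {s : ℤ}
    (hs : s = 1 ∨ s = -1) : s * (d : ℤ) ∈ signedDivs lo := by
  refine List.mem_flatMap.2 ⟨d, List.mem_filter.2 ⟨mem_divs hd, by simp [h1, h2]⟩, ?_⟩
  rcases hs with rfl | rfl <;> simp

/-- Signed degree and signed value of a member of the block, at a centralizer of order `C`. -/
def memOK (C : ℕ) (p : ℤ × ℤ) : Bool :=
  decide (p.1 % 11 = 1) && decide (p.2 % 11 = 1) && decide ((p.1 - p.2) % 4 = 0) &&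
    decide (p.2.natAbs < p.1.natAbs) && decide (((95040 / C : ℕ) : ℤ) * p.2 % p.1 = 0) &&
    decide (p.2 * p.2 ≤ (C : ℤ))

def cands (C : ℕ) : List (ℤ × ℤ) :=
  ((signedDivs 11).filter fun z => decide (z % 11 = 1)).flatMap fun z =>
    (vals.map fun v => (z, v)).filter (memOK C)

/-- The exceptional character fits. -/
def excOK (C e : ℕ) (M : List (ℤ × ℤ)) : Bool :=
  let F := 1 + (M.map Prod.fst).sum
  let W := 1 + (M.map Prod.snd).sum
  decide (F ∈ signedDivs 11) && decide ((F - W) % 4 = 0) && decide (W.natAbs < F.natAbs) &&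
    decide ((F - e) % 11 = 0) && decide (((95040 / C : ℕ) : ℤ) * W % F = 0) &&
    decide (1 + (M.map fun p => p.2 * p.2).sum + ((10 / e : ℕ) : ℤ) * (W * W) ≤ (C : ℤ))

theorem scan_eleven : ∀ C ∈ divs.filter (fun C => decide (22 ∣ C ∧ C ≤ 7920)), ∀ e ∈ [2, 5, 10],
    srch (fun _ : ℤ × ℤ => (1 : ℤ)) (fun s => decide (s < 0)) (fun M => !excOK C e M) 30 (cands C)
      ((e : ℤ) - 1) [] = true := by
  decide +kernel

variable {G : Type u} [Group G] [Finite G] [IsSimpleGroup G] (hcard : Nat.card G = 95040)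

include hcard

theorem cen_le (g : G) (hg : g ≠ 1) : cen g ≤ 7920 := by
  have hne : centralizer ({g} : Set G) ≠ ⊤ := fun h => by
    refine hg (Subgroup.mem_bot.1 ((Basic.center_eq_bot (not_comm hcard)) ▸ ?_))
    exact Subgroup.mem_center_iff.2 fun a =>
      mem_centralizer_singleton_iff.1 (h ▸ Subgroup.mem_top a)
  have h1 := twelve_le_index hcard _ hne
  have h2 := cen_mul_cls hcard g
  have h3 : cen g * 12 ≤ cen g * cls g := Nat.mul_le_mul_left _ h1
  omega

theorem sylow_of_order_eleven {x : G} (hx : orderOf x = 11) :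
    ∃ P : Sylow 11 G, (P : Subgroup G) = zpowers x := by
  obtain ⟨P, hP⟩ := (IsPGroup.of_card (p := 11) (n := 1)
    (by rw [Nat.card_zpowers, hx, pow_one]) : IsPGroup 11 (zpowers x)).exists_le_sylow
  exact ⟨P, (eq_of_le_of_card_ge hP (by
    rw [Nat.card_zpowers, hx, card_sylow_eleven hcard P])).symm⟩

/-- No involution commutes with an element of order eleven. -/
theorem no_two_eleven {x t : G} (hx : orderOf x = 11) (ht : orderOf t = 2) : ¬ Commute x t := by
  classical
  intro hxt
  have hG := not_comm hcard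
  obtain ⟨P, hPe⟩ := sylow_of_order_eleven hcard hx
  have hPc := card_sylow_eleven hcard P
  obtain ⟨D, htX, hts⟩ := exists_pblock' hG (by norm_num) P hPc
  have hxP : x ∈ (P : Subgroup G) := hPe ▸ mem_zpowers x
  have hx1 : x ≠ 1 := fun h => by rw [h, orderOf_one] at hx; norm_num at hx
  have ht1 : t ≠ 1 := fun h => by rw [h, orderOf_one] at ht; norm_num at ht
  have htC : t ∈ centralizer ((P : Subgroup G) : Set G) := by
    rw [hPe, zpowers_eq_closure, centralizer_closure, mem_centralizer_singleton_iff]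
    exact hxt.eq.symm
  have h2C : 2 ∣ Nat.card (centralizer ((P : Subgroup G) : Set G)) := by
    have := orderOf_dvd_natCard (⟨t, htC⟩ : centralizer ((P : Subgroup G) : Set G))
    rwa [Subgroup.orderOf_mk, ht] at this
  have ht11 : ¬ 11 ∣ orderOf t := by rw [ht]; norm_num
  set e := D.e with he
  have he1 : e ≠ 1 := fun h1 => Basic.not_normalizer_le_centralizer hG (by rw [hcard]; norm_num) P
    (relIndex_eq_one.1 (D.he.trans h1))
  have hed : e ∣ 10 := D.e_dvd
  have he3 : e = 2 ∨ e = 5 ∨ e = 10 := by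
    have : ∀ k ∈ Finset.range 11, k ∣ 10 → k ≠ 1 → k = 2 ∨ k = 5 ∨ k = 10 := by decide
    exact this e (Finset.mem_range.2 (by have := Nat.le_of_dvd (by norm_num) hed; omega)) hed he1
  set C := cen t with hCdef
  have hC7 : C ≤ 7920 := cen_le hcard t ht1
  have h22 : 22 ∣ C := by
    have h1 : t ∈ centralizer ({t} : Set G) := mem_centralizer_singleton_iff.2 rfl
    have h2 : x ∈ centralizer ({t} : Set G) := mem_centralizer_singleton_iff.2 hxt.eq
    have a1 := orderOf_dvd_natCard (⟨t, h1⟩ : centralizer ({t} : Set G))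
    have a2 := orderOf_dvd_natCard (⟨x, h2⟩ : centralizer ({t} : Set G))
    rw [Subgroup.orderOf_mk] at a1 a2
    rw [ht] at a1; rw [hx] at a2
    exact Nat.Coprime.mul_dvd_of_dvd_of_dvd (by norm_num) a1 a2
  have hh : (cls t : ℤ) = ((95040 / C : ℕ) : ℤ) := by
    rw [← cen_mul_cls hcard t, Nat.mul_div_cancel_left _ (Nat.card_pos : 0 < C)]
  have hbig : ∀ χ ∈ Cfsg.principalBlock D.M G, χ ≠ trivIrr G → 11 ≤ deg χ := fun χ hχ hne => by
    by_contra hlt
    have := D.card_centralizer hG hχ hne (by omega)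
    rw [this] at h2C
    omega
  let v : Cfsg.IrrCharacter G → ℤ := iv t
  let m : Cfsg.IrrCharacter G → ℤ × ℤ := fun χ => (D.sgn χ * (deg χ : ℤ), D.sgn χ * v χ)
  set X' := D.X.erase (trivIrr G) with hX'
  set L := X'.toList.map m with hL
  have hsq : ∀ χ, v χ * v χ ≤ (C : ℤ) := fun χ => by
    simpa using iv_sq_le hG ht ({χ} : Finset (Cfsg.IrrCharacter G))
  have hLmem : ∀ p ∈ L, p ∈ cands C := by
    intro p hp
    obtain ⟨χ, hχ, rfl⟩ := List.mem_map.1 hp
    rw [Finset.mem_toList, hX', Finset.mem_erase] at hχ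
    obtain ⟨hne, hχ⟩ := hχ
    have hs := D.sgn_eq χ hχ
    have hss : D.sgn χ * D.sgn χ = 1 := by rcases hs with e | e <;> rw [e] <;> norm_num
    have hcong : (11 : ℤ) ∣ D.sgn χ - v χ :=
      cong_int D.hM χ hxt (k := 1) (by rw [pow_one, D.x_pow hxP]) ht11
        (D.val_X χ hχ x hxP hx1 t htC ht11) (iv_spec hG ht χ)
    have hd := Int.modEq_iff_dvd.1 (D.deg_X χ hχ)
    have hz : (D.sgn χ * (deg χ : ℤ)) % 11 = 1 := by
      push_cast at hd
      rcases hs with e | e <;> rw [e] at hd ⊢ <;> omega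
    have hv2 : (D.sgn χ * v χ) * (D.sgn χ * v χ) ≤ (C : ℤ) := by
      rw [mul_mul_mul_comm, hss, one_mul]; exact hsq χ
    refine List.mem_flatMap.2 ⟨_, List.mem_filter.2 ⟨mem_signedDivs (deg_dvd hcard χ)
      (hbig χ ((D.mem_block χ).2 (Or.inl hχ)) hne) (deg_lt hcard hne) hs, by simpa using hz⟩,
      List.mem_filter.2 ⟨List.mem_map.2 ⟨_, mem_vals hv2 hC7, rfl⟩, ?_⟩⟩
    have hlt := iv_lt hG ht hne
    have h4 := iv_four hG ht χ
    have hdv := deg_dvd_cls hcard χ (iv_spec hG ht χ)
    rw [hh] at hdv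
    change (deg χ : ℤ) ∣ ((95040 / C : ℕ) : ℤ) * v χ at hdv
    change |v χ| < (deg χ : ℤ) at hlt
    change (4 : ℤ) ∣ (deg χ : ℤ) - v χ at h4
    have hlt' := abs_lt.1 hlt
    simp only [memOK, m, Bool.and_eq_true, decide_eq_true_eq]
    refine ⟨⟨⟨⟨⟨hz, ?_⟩, ?_⟩, ?_⟩, ?_⟩, hv2⟩
    · rcases hs with e | e <;> rw [e] at hcong ⊢ <;> omega
    · rcases hs with e | e <;> rw [e] <;> omega
    · rw [Int.natAbs_mul, Int.natAbs_mul]
      rcases hs with e | e <;> rw [e] <;> simp only [Int.natAbs_one, Int.natAbs_neg, one_mul] <;> omega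
    · apply Int.emod_eq_zero_of_dvd
      rw [mul_left_comm]
      exact mul_dvd_mul_left _ hdv
  have hlen : ((L.map fun _ => (1 : ℤ)).sum) = ((e : ℤ) - 1) := by
    rw [List.map_const', List.sum_replicate, hL, List.length_map, Finset.length_toList, hX',
      Finset.card_erase_of_mem htX, D.card_X, ← he, nsmul_eq_mul, mul_one,
      Nat.cast_sub (by omega : 1 ≤ e), Nat.cast_one]
  have hscan := scan_eleven C (List.mem_filter.2 ⟨mem_divs (cen_dvd hcard t), by simp [h22, hC7]⟩) e
    (by simpa using he3)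
  obtain ⟨M, hM, hbad⟩ := srch_spec (U := fun _ => True) (fun s L' hs _ heq => by
    rw [List.map_const', List.sum_replicate] at heq
    simp only [decide_eq_true_eq] at hs
    simp at heq
    omega) hscan hLmem (fun _ _ => trivial) hlen
  have hgood : excOK C e M = false := by simpa using hbad
  -- the exceptional character
  obtain ⟨θ, hθ⟩ := D.Y_nonempty
  have hθ1 : θ ≠ trivIrr G := fun h => Finset.disjoint_left.1 D.disj htX (h ▸ hθ)
  have hsumz : (M.map Prod.fst).sum = ∑ χ ∈ X', D.sgn χ * (deg χ : ℤ) := by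
    rw [(hM.map Prod.fst).sum_eq, hL, List.map_map, Finset.sum_map_toList]; rfl
  have hsumv : (M.map Prod.snd).sum = ∑ χ ∈ X', D.sgn χ * v χ := by
    rw [(hM.map Prod.snd).sum_eq, hL, List.map_map, Finset.sum_map_toList]; rfl
  have hsumq : (M.map fun p => p.2 * p.2).sum = ∑ χ ∈ X', v χ * v χ := by
    rw [(hM.map fun p => p.2 * p.2).sum_eq, hL, List.map_map, Finset.sum_map_toList]
    refine Finset.sum_congr rfl fun χ hχ => ?_
    show D.sgn χ * v χ * (D.sgn χ * v χ) = v χ * v χ
    rcases D.sgn_eq χ (Finset.mem_erase.1 hχ).2 with e | e <;> rw [e] <;> ring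
  have hF : D.ε * (deg θ : ℤ) = 1 + (M.map Prod.fst).sum := by
    rw [hsumz, D.rel_one hθ, ← Finset.add_sum_erase _ _ htX, hts, deg_trivIrr]; simp [hX']
  have hW : D.ε * v θ = 1 + (M.map Prod.snd).sum := by
    have h := D.rel θ hθ t ht11
    rw [← Finset.add_sum_erase _ _ htX, hts, iv_spec hG ht θ,
      Finset.sum_congr rfl (g := fun χ => ((D.sgn χ * v χ : ℤ) : ℂ)) fun χ _ => by
        rw [iv_spec hG ht χ]; push_cast; rfl] at h
    simp only [trivIrr_coe, Int.cast_one, mul_one] at h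
    rw [hsumv]
    exact_mod_cast h
  have hnorm : 1 + (∑ χ ∈ X', v χ * v χ) + (D.Y.card : ℤ) * (v θ * v θ) ≤ (C : ℤ) := by
    have h := iv_sq_le hG ht (D.X ∪ D.Y)
    rw [Finset.sum_union D.disj, ← Finset.add_sum_erase _ _ htX, iv_triv,
      Finset.sum_congr (s₁ := D.Y) rfl (g := fun _ => v θ * v θ) fun ψ hψ => by
        have h' : iv t ψ = v θ := iv_eq (by rw [D.same ψ hψ θ hθ t ht11]; exact iv_spec hG ht θ)
        rw [h'],
      Finset.sum_const, nsmul_eq_mul] at h
    simpa [hX'] using h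
  have hεs := D.ε_eq
  have hεε : D.ε * D.ε = 1 := by rcases hεs with e | e <;> rw [e] <;> norm_num
  revert hgood
  simp only [excOK, ← hF, ← hW, hsumq, Bool.and_eq_false_iff, decide_eq_false_iff_not]
  have hlt := iv_lt hG ht hθ1
  have h4 := iv_four hG ht θ
  have hdY := Int.modEq_iff_dvd.1 (D.deg_Y θ hθ)
  have hdv := deg_dvd_cls hcard θ (iv_spec hG ht θ)
  rw [hh] at hdv
  change (deg θ : ℤ) ∣ ((95040 / C : ℕ) : ℤ) * v θ at hdv
  change |v θ| < (deg θ : ℤ) at hlt
  change (4 : ℤ) ∣ (deg θ : ℤ) - v θ at h4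
  have hlt' := abs_lt.1 hlt
  rintro (((((h | h) | h) | h) | h) | h)
  · exact h (mem_signedDivs (deg_dvd hcard θ) (hbig θ ((D.mem_block θ).2 (Or.inr hθ)) hθ1)
      (deg_lt hcard hθ1) hεs)
  · apply h; rcases hεs with e | e <;> rw [e] <;> omega
  · apply h
    rw [Int.natAbs_mul, Int.natAbs_mul]
    rcases hεs with e | e <;> rw [e] <;> simp only [Int.natAbs_one, Int.natAbs_neg, one_mul] <;> omega
  · apply h
    push_cast at hdY
    rcases hεs with e' | e' <;> rw [e'] at hdY ⊢ <;> omega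
  · apply h
    apply Int.emod_eq_zero_of_dvd
    rw [mul_left_comm]
    exact mul_dvd_mul_left _ hdv
  · apply h
    rw [mul_mul_mul_comm, hεε, one_mul, ← D.card_Y]
    exact hnorm

/-- The centralizer of an element of order eleven has order eleven. -/
theorem cen_eleven {x : G} (hx : orderOf x = 11) :
    cen x = 11 ∧ ∀ P : Sylow 11 G, (P : Subgroup G) = zpowers x →
      Nat.card (normalizer ((P : Subgroup G) : Set G)) = 55 := by
  classical
  have hG := not_comm hcard
  obtain ⟨P₀, hP₀⟩ := sylow_of_order_eleven hcard hx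
  have key : ∀ P : Sylow 11 G, (P : Subgroup G) = zpowers x →
      cen x = 11 ∧ Nat.card (normalizer ((P : Subgroup G) : Set G)) = 55 := by
    intro P hP
    have hPc := card_sylow_eleven hcard P
    obtain ⟨D, -, -⟩ := exists_pblock' hG (by norm_num) P hPc
    have hcx : centralizer ((P : Subgroup G) : Set G) = centralizer ({x} : Set G) := by
      rw [hP, zpowers_eq_closure, centralizer_closure]
    obtain ⟨k, hk⟩ : 11 ∣ cen x := by
      have := card_dvd_of_le (zpowers_le.2 (mem_centralizer_singleton_iff.2 rfl :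
        x ∈ centralizer ({x} : Set G)))
      rwa [Nat.card_zpowers, hx] at this
    have hk2 : ¬ 2 ∣ k := fun h2 => by
      obtain ⟨⟨t, htm⟩, hto⟩ := exists_prime_orderOf_dvd_card' (G := centralizer ({x} : Set G)) 2
        (show 2 ∣ cen x by rw [hk]; exact h2.mul_left 11)
      rw [Subgroup.orderOf_mk] at hto
      exact no_two_eleven hcard hx hto (mem_centralizer_singleton_iff.1 htm).symm
    have hN : Nat.card (normalizer ((P : Subgroup G) : Set G)) = 11 * k * D.e := by
      have := relIndex_mul_relIndex ⊥ (centralizer ((P : Subgroup G) : Set G))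
        (normalizer ((P : Subgroup G) : Set G)) bot_le (centralizer_le_normalizer _)
      rw [relIndex_bot_left, relIndex_bot_left, D.he, hcx] at this
      rw [← this]
      exact congrArg (· * D.e) hk
    obtain ⟨hnd, hnm, hn1, -⟩ := Basic.sylow_count (p := 11) hG (by rw [hcard]; norm_num) (a := 1)
      (m := 8640) (by rw [hcard]; norm_num) (by norm_num)
    have htot : 11 * k * D.e * Nat.card (Sylow 11 G) = 95040 := by
      rw [← hN, Basic.card_normalizer_mul P, hcard]
    have hed : D.e ∣ 10 := D.e_dvd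
    have he1 : D.e ≠ 1 := fun h1 => Basic.not_normalizer_le_centralizer hG (by rw [hcard]; norm_num) P
      (relIndex_eq_one.1 (D.he.trans h1))
    have he4 : ¬ 4 ∣ k * D.e := fun h4 => by
      have hc : Nat.Coprime 4 k := (Nat.prime_two.coprime_iff_not_dvd.2 hk2).pow_left 2
      have : 4 ∣ 10 := (hc.dvd_of_dvd_mul_left h4).trans hed
      norm_num at this
    have hn : Nat.card (Sylow 11 G) = 1728 := by
      have key' := dvd_cases (P := fun n => n ∣ 8640 → n % 11 = 1 → 1 < n →
        ¬ 4 ∣ 8640 / n → n = 1728 ∨ 8640 / n = 27) (by decide +kernel) (hnd.trans (by norm_num))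
      have hq : 8640 / Nat.card (Sylow 11 G) = k * D.e := by
        rw [show 8640 = k * D.e * Nat.card (Sylow 11 G) by nlinarith]
        exact Nat.mul_div_cancel _ (by omega)
      refine (key' hnd hnm hn1 fun h => he4 (hq ▸ h)).resolve_right fun h27 => he1 ?_
      exact Nat.eq_one_of_dvd_coprimes (show Nat.Coprime 10 27 by norm_num) hed
        ((hq.symm.trans h27) ▸ Dvd.intro_left k rfl)
    rw [hn] at htot
    have hke : k * D.e = 5 := by nlinarith
    have hk1 : k = 1 := by
      rcases (Nat.dvd_prime (by norm_num : Nat.Prime 5)).1 (Dvd.intro _ hke) with h | h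
      · exact h
      · rw [h] at hke; omega
    refine ⟨by rw [hk, hk1], ?_⟩
    rw [hN, mul_assoc, hke]
    norm_num
  exact ⟨(key P₀ hP₀).1, fun P hP => (key P hP).2⟩

end Cfsg.Agent.M12Order
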