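import Cfsg.Agent.Lib.M12Order.Two

/-!
# Simple groups of order 95040: not a centralizer of order twenty
-/

set_option autoImplicit false
set_option linter.style.haveILetI false
set_option linter.unusedSectionVars false

namespace Cfsg.Agent.M12Order

open Subgroup
open Cfsg.Agent.Characters Cfsg.Agent.Blocks Cfsg.Agent.PrimeBlock
open Cfsg.Agent.SmallSimple
open scoped ComplexConjugate

universe u

noncomputable local instance {G : Type u} [Group G] [Finite G] : Fintype (Cfsg.IrrCharacter G) :=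
  Fintype.ofFinite _

variable {G : Type u} [Group G] [Finite G] [IsSimpleGroup G] (hcard : Nat.card G = 95040)

include hcard

/-- An involution centralizing the element has centralizer of order `240` over the normalizer. -/
theorem four_inv {u t : G} (F : Frame G) (hu : orderOf u = 5) (hk : cen u = 20)
    (hN : Nat.card (normalizer (zpowers u : Set G)) = 40) (ht : orderOf t = 2) (hut : Commute u t)
    (hCt : centralizer ({u} : Set G) ≤ centralizer ({t} : Set G)) :
    cen t = 240 ∧ normalizer (zpowers u : Set G) ≤ centralizer ({t} : Set G) := by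
  classical
  obtain ⟨-, hct⟩ := cen_inv_five hcard F hu ht hut
  set H := centralizer ({t} : Set G) with hH
  set N := normalizer (zpowers u : Set G) with hNdef
  set C := centralizer ({u} : Set G) with hC
  have huH : u ∈ H := mem_centralizer_singleton_iff.2 hut.eq
  have hUH : zpowers u ≤ H := zpowers_le.2 huH
  have hCN : C ≤ N := by
    refine le_trans ?_ (centralizer_le_normalizer _)
    rw [zpowers_eq_closure, centralizer_closure]
  obtain ⟨m, hm, hm5⟩ := conj_count_mod hu (not_twentyfive hcard) H huH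
  have h1 : C ≤ N ⊓ H := le_inf hCN hCt
  obtain ⟨c, hc⟩ : 20 ∣ Nat.card (N ⊓ H : Subgroup G) := hk ▸ card_dvd_of_le h1
  have hc2 : c = 1 ∨ c = 2 := by
    have h2 := card_dvd_of_le (inf_le_left : N ⊓ H ≤ N)
    rw [hc, hN] at h2
    exact (Nat.dvd_prime Nat.prime_two).1 (Nat.dvd_of_mul_dvd_mul_left (by norm_num) h2)
  rw [hc] at hm
  change cen t = m * (20 * c) at hm
  rcases hct with h120 | h240
  swap
  · refine ⟨h240, ?_⟩
    rw [h240] at hm
    rcases hc2 with rfl | rfl
    · omega
    · rw [← eq_of_le_of_card_ge (inf_le_left : N ⊓ H ≤ N) (by rw [hc, hN])]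
      exact inf_le_right
  exfalso
  rw [h120] at hm
  obtain rfl : c = 1 := by
    rcases hc2 with rfl | rfl
    · rfl
    · omega
  have hNH : N ⊓ H = C :=
    (eq_of_le_of_card_ge h1 (by rw [hc, show Nat.card C = 20 from hk])).symm
  have hHc : Nat.card H = 5 ^ 1 * 24 := by rw [show Nat.card H = cen t from rfl, h120]; norm_num
  have hP5 : ∀ P : Sylow 5 H, Nat.card (P : Subgroup H) = 5 := fun P => by
    rw [Basic.card_sylow_eq_pow (a := 1) (m := 24) hHc (by norm_num) P, pow_one]
  obtain ⟨P, hP⟩ : ∃ P : Sylow 5 H, (P : Subgroup H) = (zpowers u).subgroupOf H := by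
    obtain ⟨P, hP⟩ := (IsPGroup.of_card (p := 5) (n := 1) (by
      rw [Nat.card_congr (subgroupOfEquivOfLe hUH).toEquiv, Nat.card_zpowers, hu, pow_one]) :
      IsPGroup 5 ((zpowers u).subgroupOf H)).exists_le_sylow
    exact ⟨P, (eq_of_le_of_card_ge hP (by
      rw [hP5 P, Nat.card_congr (subgroupOfEquivOfLe hUH).toEquiv, Nat.card_zpowers, hu])).symm⟩
  have hburn : normalizer ((P : Subgroup H) : Set H) ≤ centralizer ((P : Subgroup H) : Set H) := by
    intro a ha
    have haN : (a : G) ∈ N := by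
      rw [hP] at ha
      rw [hNdef, mem_normalizer_iff]
      rw [mem_normalizer_iff] at ha
      intro y
      refine ⟨fun hy => (ha ⟨y, hUH hy⟩).1 hy, fun hy => ?_⟩
      have hyH : y ∈ H := by
        have := H.mul_mem (H.mul_mem (H.inv_mem a.2) (hUH hy)) a.2
        simpa [mul_assoc] using this
      exact (ha ⟨y, hyH⟩).2 hy
    have hac : (a : G) ∈ C := hNH ▸ mem_inf.2 ⟨haN, a.2⟩
    refine mem_centralizer_iff.2 fun y hy => Subtype.ext ?_
    rw [SetLike.mem_coe, hP, mem_subgroupOf] at hy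
    obtain ⟨j, hj⟩ := mem_zpowers_iff.1 hy
    show (y : G) * a = a * y
    rw [← hj]
    exact ((show Commute u a from (mem_centralizer_singleton_iff.1 hac).symm).zpow_left j).eq
  set f := MonoidHom.transferSylow P hburn
  have hker : Nat.card f.ker = 24 := by
    have := (MonoidHom.ker_transferSylow_isComplement' P hburn).card_mul_card
    rw [hP5 P, hHc] at this
    change Nat.card f.ker * 5 = _ at this
    omega
  obtain ⟨T⟩ : Nonempty (Sylow 3 f.ker) := inferInstance
  have hT : Nat.card (T : Subgroup f.ker) = 3 := by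
    rw [Basic.card_sylow_eq_pow (a := 1) (m := 8) (by rw [hker]; norm_num) (by norm_num) T, pow_one]
  have htop := Sylow.normalizer_sup_eq_top T
  set NT := normalizer (((T : Subgroup f.ker).map f.ker.subtype : Subgroup H) : Set H) with hNT
  have h5 : 5 ∣ Nat.card NT := by
    by_contra hn
    have hle : NT ≤ f.ker := fun a ha => by
      have hc : Nat.Coprime (Nat.card NT) 5 := ((Nat.Prime.coprime_iff_not_dvd (by norm_num)).2 hn).symm
      have h1 : (f a) ^ Nat.card NT = 1 := by
        rw [← map_pow, ← map_one f]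
        congr 1
        exact congrArg Subtype.val (pow_card_eq_one' (x := (⟨a, ha⟩ : NT)))
      have h2 : (f a) ^ 5 = 1 := by
        have := pow_card_eq_one' (x := f a)
        rwa [hP5 P] at this
      have := pow_gcd_eq_one.2 ⟨h1, h2⟩
      rwa [hc.gcd_eq_one, pow_one] at this
    rw [sup_eq_right.2 hle] at htop
    have := congrArg (fun S : Subgroup H => Nat.card S) htop
    simp only [Nat.card_congr (topEquiv : (⊤ : Subgroup H) ≃* H).toEquiv, hker, hHc] at this
    omega
  obtain ⟨⟨v, hv⟩, hvo⟩ := exists_prime_orderOf_dvd_card' (G := NT) 5 h5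
  rw [Subgroup.orderOf_mk] at hvo
  have hvo' : orderOf (v : G) = 5 := by rw [orderOf_submonoid (v : H)]; exact hvo
  set TG : Subgroup G := ((T : Subgroup f.ker).map f.ker.subtype).map H.subtype
  have hTc : Nat.card TG = 3 := by
    rw [card_map_of_injective H.subtype_injective, card_map_of_injective f.ker.subtype_injective, hT]
  have hvn : (v : G) ∈ normalizer (TG : Set G) :=
    le_normalizer_map H.subtype (mem_map_of_mem H.subtype hv)
  have hfix := card_fixed_mod hvo' TG hvn
  have hd := card_dvd_of_le (inf_le_left : TG ⊓ centralizer ({(v : G)} : Set G) ≤ TG)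
  have hd' := card_dvd_of_le (inf_le_right :
    TG ⊓ centralizer ({(v : G)} : Set G) ≤ centralizer ({(v : G)} : Set G))
  rw [hTc] at hfix hd
  rcases (Nat.dvd_prime Nat.prime_three).1 hd with e | e
  · rw [e] at hfix; norm_num at hfix
  rw [e] at hd'
  have hvC : centralizer ({(v : G)} : Set G) ≤ normalizer (zpowers (v : G) : Set G) := by
    refine le_trans ?_ (centralizer_le_normalizer _)
    rw [zpowers_eq_closure, centralizer_closure]
  have h3 := hd'.trans (card_dvd_of_le hvC)
  rw [card_normalizer_five hcard hu hvo', hN] at h3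
  norm_num at h3

/-- The weighted bound on one character. -/
theorem four_pointwise {u t : G} (F : Frame G) (hu : orderOf u = 5) (ht : orderOf t = 2)
    (hut : Commute u t) : ∀ χ ∈ F.R, (12 : ℝ) * (Frame.m χ : ℝ) ≤ (Frame.m χ : ℝ) ^ 2 +
      18 * (‖(χ : G → ℂ) u‖ ^ 2 + ‖(χ : G → ℂ) (u ^ 2)‖ ^ 2) +
        2 * ((iv t χ : ℤ) : ℝ) ^ 2 := by
  classical
  have hG := not_comm hcard
  haveI := Fintype.ofFinite G
  obtain ⟨M5, hM5⟩ := BlockCharsA.DefectZeroVanish.exists_modular (p := 5) (by norm_num)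
  let S : Cfsg.IrrCharacter G → ℝ := fun χ =>
    ‖(χ : G → ℂ) u‖ ^ 2 + ‖(χ : G → ℂ) (u ^ 2)‖ ^ 2
  intro χ hχ
  have hS0 : 0 ≤ S χ := by positivity
  have hdeg := Frame.deg_eq hχ
  set m := Frame.m χ with hm
  by_cases h5 : 5 ∣ deg χ
  · have h5m : 5 ∣ m := by
      rw [hdeg] at h5
      exact (Nat.Coprime.dvd_of_dvd_mul_left (by norm_num) h5)
    have hvt : (5 : ℤ) ∣ iv t χ := by
      have h0 : (χ : G → ℂ) (u * t) = ((0 : ℤ) : ℂ) := by
        rw [five_zero hcard χ h5 (by
          rw [hut.orderOf_mul_eq_mul_orderOf_of_coprime (by rw [hu, ht]; norm_num), hu]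
          exact dvd_mul_right 5 _)]
        simp
      have := cong_int hM5 χ hut (k := 1) (by rw [pow_one, ← hu, pow_orderOf_eq_one])
        (by rw [ht]; norm_num) h0 (iv_spec hG ht χ)
      simpa using this
    have h4 := iv_four hG ht χ
    rw [hdeg] at h4
    have key : (12 : ℤ) * m ≤ (m : ℤ) ^ 2 + 2 * iv t χ ^ 2 := by
      rcases Nat.lt_or_ge m 12 with hlt | hge
      · have hpos : 0 < deg χ := charDegree_pos χ
        have : m = 5 ∨ m = 10 := by omega
        obtain ⟨j, hj⟩ := hvt
        rcases this with e | e <;> rw [e] at h4 ⊢ <;> rw [hj] at h4 ⊢ <;> push_cast at h4 ⊢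
        · have : j ≠ 0 := fun h => by rw [h] at h4; norm_num at h4
          have : 1 ≤ j ^ 2 := Int.add_one_le_iff.2 (lt_of_le_of_ne (sq_nonneg j) (pow_ne_zero 2 this).symm)
          nlinarith
        · have : j ≠ 0 := fun h => by rw [h] at h4; norm_num at h4
          have : 1 ≤ j ^ 2 := Int.add_one_le_iff.2 (lt_of_le_of_ne (sq_nonneg j) (pow_ne_zero 2 this).symm)
          nlinarith
      · have : (12 : ℤ) ≤ m := by exact_mod_cast hge
        nlinarith [sq_nonneg (iv t χ)]
    have key' : (12 : ℝ) * m ≤ (m : ℝ) ^ 2 + 2 * ((iv t χ : ℤ) : ℝ) ^ 2 := by exact_mod_cast key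
    linarith
  · -- the product of the two conjugate norms is a positive integer
    have h7c : Nat.Coprime 7 (Nat.card G) := by rw [hcard]; norm_num
    set χ7 : Cfsg.IrrCharacter G :=
      ⟨fun g => (χ : G → ℂ) (g ^ 7), OddChar.PowTwist.isIrr_comp_pow χ.2 h7c⟩ with hχ7
    let ψ : G → ℂ := fun g =>
      ((χ : G → ℂ) g * conj ((χ : G → ℂ) g)) * ((χ7 : G → ℂ) g * conj ((χ7 : G → ℂ) g))
    have hψ : Cfsg.IsCharacter G ψ :=
      isCharacter_mul (isCharacter_mul (irr_isCharacter χ) (irr_isCharacter (FrobeniusSchur.conjIrr χ)))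
        (isCharacter_mul (irr_isCharacter χ7) (irr_isCharacter (FrobeniusSchur.conjIrr χ7)))
    have hu5 : u ^ 5 = 1 := hu ▸ pow_orderOf_eq_one u
    have hpow : ∀ i : ℕ, u ^ i = u ^ (i % 5) := fun i => pow_eq_pow_mod i hu5
    have hcj : ∀ i j : ℕ, (i + j) % 5 = 0 → conj ((χ : G → ℂ) (u ^ i)) = (χ : G → ℂ) (u ^ j) := by
      intro i j hij
      have hinvp : u ^ j = (u ^ i)⁻¹ := by
        rw [eq_inv_iff_mul_eq_one, ← pow_add, hpow, add_comm, hij, pow_zero]
      rw [hinvp, char_inv (irr_isCharacter χ)]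
    let f : ℕ → ℂ := fun i => (χ : G → ℂ) (u ^ i) * conj ((χ : G → ℂ) (u ^ i))
    have hf : ∀ i j : ℕ, i % 5 = j % 5 → f i = f j := fun i j h => by
      simp only [f, hpow i, hpow j, h]
    have hf' : ∀ i j : ℕ, (i + j) % 5 = 0 → f i = f j := fun i j h => by
      simp only [f]
      rw [← hcj i j h, Complex.conj_conj, mul_comm]
    have hψu : ∀ m, ψ (u ^ m) = f m * f (7 * m) := fun m => by
      simp only [ψ, f, χ7]
      rw [← pow_mul, mul_comm m 7]
    obtain ⟨k, hkv⟩ := exists_int_of_pow_fixed hψ (g := u) fun j hj => by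
      have hj5 : ¬ 5 ∣ j := fun hd => by
        have := Nat.Coprime.coprime_dvd_left hd hj
        rw [hcard] at this; norm_num at this
      have h1 : ψ u = f 1 * f 2 := by
        rw [show ψ u = ψ (u ^ 1) by rw [pow_one], hψu, hf (7 * 1) 2 (by norm_num)]
      rw [hψu, h1]
      rcases (show j % 5 = 1 ∨ j % 5 = 2 ∨ j % 5 = 3 ∨ j % 5 = 4 by omega) with e | e | e | e
      · rw [hf j 1 (by omega), hf (7 * j) 2 (by omega)]
      · rw [hf j 2 (by omega), hf (7 * j) 4 (by omega), ← hf' 1 4 (by norm_num), mul_comm]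
      · rw [hf j 3 (by omega), hf (7 * j) 1 (by omega), ← hf' 2 3 (by norm_num), mul_comm]
      · rw [hf j 4 (by omega), hf (7 * j) 3 (by omega), ← hf' 1 4 (by norm_num),
          ← hf' 2 3 (by norm_num)]
    have hne : ∀ v : G, v ^ 5 = 1 → (χ : G → ℂ) v ≠ 0 := fun v hv h0 => by
      have hcg := char_cong_of_commute hM5 χ (Commute.one_right v) (k := 1)
        (by rw [pow_one]; exact hv) (not_dvd_one (G := G))
      rw [mul_one, h0, ← deg_cast] at hcg
      exact h5 ((ideal_natCast_iff hM5 _).1 (cong_zero_iff.1 (cong_symm hM5 hcg)))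
    have hk' : (k : ℂ) = (((‖(χ : G → ℂ) u‖ ^ 2 * ‖(χ : G → ℂ) (u ^ 2)‖ ^ 2 : ℝ)) : ℂ) := by
      rw [← hkv]
      simp only [ψ, χ7, Complex.mul_conj']
      rw [show u ^ 7 = u ^ 2 by rw [hpow 7]]
      push_cast; ring
    have hprod : (1 : ℝ) ≤ ‖(χ : G → ℂ) u‖ ^ 2 * ‖(χ : G → ℂ) (u ^ 2)‖ ^ 2 := by
      have hk2 : (k : ℝ) = ‖(χ : G → ℂ) u‖ ^ 2 * ‖(χ : G → ℂ) (u ^ 2)‖ ^ 2 := by
        exact_mod_cast hk'
      have a1 := norm_pos_iff.2 (hne u hu5)
      have a2 := norm_pos_iff.2 (hne (u ^ 2) (by rw [← pow_mul, mul_comm, pow_mul, hu5, one_pow]))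
      have hkpos : (0 : ℝ) < (k : ℝ) := by rw [hk2]; positivity
      rw [← hk2]
      exact_mod_cast (show (0 : ℤ) < k by exact_mod_cast hkpos)
    have hS2 : 2 ≤ S χ := by
      simp only [S]
      nlinarith [sq_nonneg (‖(χ : G → ℂ) u‖ ^ 2 - ‖(χ : G → ℂ) (u ^ 2)‖ ^ 2),
        sq_nonneg ‖(χ : G → ℂ) u‖, sq_nonneg ‖(χ : G → ℂ) (u ^ 2)‖]
    nlinarith [sq_nonneg ((m : ℝ) - 6), sq_nonneg ((iv t χ : ℤ) : ℝ)]


/-- Not a four-group. -/
theorem four_klein {u : G} (hu : orderOf u = 5) (F : Frame G) (hk : cen u = 20)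
    {K : Subgroup G} (hKc : Nat.card K = 4)
    (hKC : K ≤ centralizer ({u} : Set G))
    (hinv : ∀ t ∈ K, orderOf t = 2 →
      cen t = 240 ∧ normalizer (zpowers u : Set G) ≤ centralizer ({t} : Set G))
    (hexp : ∀ a ∈ K, a * a = 1)
    (hn : ∀ v : G, orderOf v = 5 → cen v = 20 →
      (F.c54 : G → ℂ) v = ((-1 : ℤ) : ℂ) ∧ (F.c144 : G → ℂ) v = ((-1 : ℤ) : ℂ)) : False := by
  classical
  have hG := not_comm hcard
  set C := centralizer ({u} : Set G) with hC
  set N := normalizer (zpowers u : Set G) with hNdef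
  have huC : u ∈ C := mem_centralizer_singleton_iff.2 rfl
  have hKu : ∀ a ∈ K, Commute u a := fun a ha => (mem_centralizer_singleton_iff.1 (hKC ha)).symm
  have hnc : ∀ t ∈ K, ∀ t' ∈ K, orderOf t = 2 → orderOf t' = 2 → IsConj t t' → t = t' := by
    intro t ht t' ht' ho ho' hconj
    obtain ⟨g, hg⟩ := isConj_iff.1 hconj
    obtain ⟨-, hNt⟩ := hinv t ht ho
    obtain ⟨hc', hN'⟩ := hinv t' ht' ho'
    set H := centralizer ({t'} : Set G) with hH
    have huH : u ∈ H := hN' (le_normalizer (mem_zpowers u))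
    have hvH : g * u * g⁻¹ ∈ H := by
      have h1 : Commute u t := hKu t ht
      refine mem_centralizer_singleton_iff.2 ?_
      rw [← hg]
      calc g * u * g⁻¹ * (g * t * g⁻¹) = g * (u * t) * g⁻¹ := by group
        _ = g * (t * u) * g⁻¹ := by rw [h1.eq]
        _ = g * t * g⁻¹ * (g * u * g⁻¹) := by group
    have hP5 : ∀ P : Sylow 5 H, Nat.card (P : Subgroup H) = 5 := fun P => by
      rw [Basic.card_sylow_eq_pow (a := 1) (m := 48)
        (show Nat.card H = 5 ^ 1 * 48 by rw [show Nat.card H = cen t' from rfl, hc']; norm_num)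
        (by norm_num) P, pow_one]
    have hvo : orderOf (⟨g * u * g⁻¹, hvH⟩ : H) = 5 := by
      rw [Subgroup.orderOf_mk, ← hu]; exact MulEquiv.orderOf_eq (MulAut.conj g) u
    obtain ⟨Q, hQ⟩ := (IsPGroup.of_card (p := 5) (n := 1) (by
      rw [Nat.card_zpowers, hvo, pow_one]) :
      IsPGroup 5 (zpowers (⟨g * u * g⁻¹, hvH⟩ : H))).exists_le_sylow
    obtain ⟨P, hP⟩ := (IsPGroup.of_card (p := 5) (n := 1) (by
      rw [Nat.card_zpowers, Subgroup.orderOf_mk, hu, pow_one]) :
      IsPGroup 5 (zpowers (⟨u, huH⟩ : H))).exists_le_sylow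
    have hPe := eq_of_le_of_card_ge hP (by rw [hP5 P, Nat.card_zpowers, Subgroup.orderOf_mk, hu])
    obtain ⟨h, hh⟩ := MulAction.exists_smul_eq H Q P
    have hmem : h * ⟨g * u * g⁻¹, hvH⟩ * h⁻¹ ∈ (P : Subgroup H) := by
      rw [← hh, Sylow.smul_def]
      exact ⟨_, hQ (mem_zpowers _), rfl⟩
    rw [← hPe] at hmem
    obtain ⟨i, hi⟩ := mem_zpowers_iff.1 hmem
    have hi' : u ^ i = (h : G) * (g * u * g⁻¹) * (h : G)⁻¹ := by
      simpa using congrArg Subtype.val hi
    have hhg : (h : G) * g ∈ N := by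
      have himg : (zpowers u).map (MulAut.conj ((h : G) * g)).toMonoidHom ≤ zpowers u := by
        rw [MonoidHom.map_zpowers, zpowers_le]
        show (h : G) * g * u * ((h : G) * g)⁻¹ ∈ zpowers u
        rw [show (h : G) * g * u * ((h : G) * g)⁻¹ = (h : G) * (g * u * g⁻¹) * (h : G)⁻¹ by group,
          ← hi']
        exact zpow_mem (mem_zpowers u) i
      have := eq_of_le_of_card_ge himg (by rw [card_map_of_injective (MulAut.conj _).injective])
      rw [hNdef, mem_normalizer_iff]
      intro y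
      constructor
      · intro hy; rw [← this]; exact ⟨y, hy, rfl⟩
      · intro hy
        rw [← this] at hy
        obtain ⟨z, hz, hzy⟩ := hy
        rwa [show z = y from (MulAut.conj _).injective hzy] at hz
    have hc1 : Commute ((h : G) * g) t := mem_centralizer_singleton_iff.1 (hNt hhg)
    have hc2 : Commute (h : G) t' := mem_centralizer_singleton_iff.1 h.2
    have e1 : (h : G) * g * t * ((h : G) * g)⁻¹ = t := by rw [hc1.eq, mul_inv_cancel_right]
    have e2 : (h : G) * t' * (h : G)⁻¹ = t' := by rw [hc2.eq, mul_inv_cancel_right]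
    rw [← e1, ← e2, ← hg]
    group
  haveI := Fintype.ofFinite K
  obtain ⟨x₁, x₂, x₃, h12, h13, h23, h3⟩ := Finset.card_eq_three.1
    (show (Finset.univ.erase (1 : K)).card = 3 by
      rw [Finset.card_erase_of_mem (Finset.mem_univ _), Finset.card_univ, ← Nat.card_eq_fintype_card, hKc])
  have ho : ∀ x ∈ ({x₁, x₂, x₃} : Finset K), orderOf (x : G) = 2 := fun x hx => by
    rw [← h3] at hx
    refine orderOf_eq_prime (by rw [sq]; exact hexp _ x.2) fun e => (Finset.mem_erase.1 hx).1 ?_
    exact Subtype.ext e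
  have o1 := ho x₁ (by simp)
  have o2 := ho x₂ (by simp)
  have o3 := ho x₃ (by simp)
  obtain ⟨z, hz, hz192⟩ := exists_192 hcard F
  have hzne : ∀ t : G, cen t = 240 → ¬ IsConj t z := fun t ht hconj => by
    obtain ⟨g, hg⟩ := isConj_iff.1 hconj
    have : cls t = cls z := by
      rw [← cls_eq_card, ← cls_eq_card]
      exact Nat.card_congr (Equiv.subtypeEquivRight fun h =>
        ⟨fun h' => hconj.symm.trans h', fun h' => hconj.trans h'⟩)
    have h1 := cen_mul_cls hcard t
    have h2 := cen_mul_cls hcard z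
    rw [ht, this] at h1
    rw [hz192] at h2
    omega
  have c1 := (hinv _ x₁.2 o1).1
  have c2 := (hinv _ x₂.2 o2).1
  have c3 := (hinv _ x₃.2 o3).1
  have hcount := le_card_sq_one (L := [(x₁ : G), x₂, x₃, z]) (by simp [o1, o2, o3, hz]) (by
    simp only [List.pairwise_cons, List.mem_cons, List.not_mem_nil, or_false, forall_eq_or_imp,
      forall_eq, List.Pairwise.nil, and_true, false_imp_iff, forall_const]
    exact ⟨⟨fun h => h12 (Subtype.ext (hnc _ x₁.2 _ x₂.2 o1 o2 h)),
      fun h => h13 (Subtype.ext (hnc _ x₁.2 _ x₃.2 o1 o3 h)), hzne _ c1⟩,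
      ⟨fun h => h23 (Subtype.ext (hnc _ x₂.2 _ x₃.2 o2 o3 h)), hzne _ c2⟩, hzne _ c3⟩)
  simp only [List.map_cons, List.map_nil, List.sum_cons, List.sum_nil] at hcount
  have q1 := cen_mul_cls hcard (x₁ : G)
  have q2 := cen_mul_cls hcard (x₂ : G)
  have q3 := cen_mul_cls hcard (x₃ : G)
  have q4 := cen_mul_cls hcard z
  rw [c1] at q1; rw [c2] at q2; rw [c3] at q3; rw [hz192] at q4
  have hfs := (fs_bound F).1
  have hsum : (120 : ℤ) ≤ ∑ χ ∈ F.R, (Frame.m χ : ℤ) := by
    have : (1684 : ℤ) ≤ (Nat.card {s : G // s * s = 1} : ℤ) := by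
      have : 1684 ≤ Nat.card {s : G // s * s = 1} := by omega
      exact_mod_cast this
    omega
  -- against the norms at `u`, `u ^ 2` and an involution
  set t : G := (x₁ : G)
  have hut : Commute u t := hKu _ x₁.2
  obtain ⟨h5t, -⟩ := cen_inv_five hcard F hu o1 hut
  obtain ⟨-, t45, t54, t120, t144, tθ, tθ'⟩ := F.inv_five hcard o1 h5t
  have hvsum := F.sum_self (iv t) (iv_spec hG o1)
  rw [F.sum_B, iv_triv, t45, t54, t120, tθ, tθ', c1] at hvsum
  have hu2o : orderOf (u ^ 2) = 5 := by
    rw [Nat.Coprime.orderOf_pow (by rw [hu]; norm_num), hu]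
  have hu2c : cen (u ^ 2) = 20 := by
    have : centralizer ({u ^ 2} : Set G) = centralizer ({u} : Set G) := by
      ext y
      simp only [mem_centralizer_singleton_iff]
      constructor
      · intro h
        have h3 : (u ^ 2) ^ 3 = u := by
          rw [← pow_mul, pow_succ, ← hu, pow_orderOf_eq_one, one_mul]
        rw [← h3]
        exact ((show Commute y (u ^ 2) from h).pow_right 3).eq
      · intro h
        exact ((show Commute y u from h).pow_right 2).eq
    rw [cen, this]; exact hk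
  have hnorm : ∀ v : G, orderOf v = 5 → cen v = 20 →
      ∑ χ ∈ F.R, ‖(χ : G → ℂ) v‖ ^ 2 = (15 : ℝ) := by
    intro v hv hvk
    obtain ⟨e54, e144⟩ := hn v hv hvk
    have hv11 : ¬ 11 ∣ orderOf v := by rw [hv]; norm_num
    have e45 : (F.c45 : G → ℂ) v = ((0 : ℤ) : ℂ) := by
      rw [five_zero hcard _ (by rw [F.d45]; norm_num) (by rw [hv])]; simp
    have e120 : (F.c120 : G → ℂ) v = ((0 : ℤ) : ℂ) := by
      rw [five_zero hcard _ (by rw [F.d120]; norm_num) (by rw [hv])]; simp
    have eθ : (F.θ : G → ℂ) v = ((1 : ℤ) : ℂ) := by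
      rw [← F.rel v hv11, e45, e120, e54, e144]; norm_num
    have eθ' : (F.θ' : G → ℂ) v = ((1 : ℤ) : ℂ) := (F.same v hv11).trans eθ
    rw [F.norm_R v (iv v) (F.B_int hv11), F.sum_B, iv_triv, iv_eq e45, iv_eq e54, iv_eq e120,
      iv_eq e144, iv_eq eθ, iv_eq eθ', hvk]
    norm_num
  have n1 := hnorm u hu hk
  have n2 := hnorm (u ^ 2) hu2o hu2c
  let S : Cfsg.IrrCharacter G → ℝ := fun χ =>
    ‖(χ : G → ℂ) u‖ ^ 2 + ‖(χ : G → ℂ) (u ^ 2)‖ ^ 2
  have hS : ∑ χ ∈ F.R, S χ = 30 := by
    simp only [S, Finset.sum_add_distrib, n1, n2]; norm_num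
  have hpt : ∀ χ ∈ F.R, (12 : ℝ) * (Frame.m χ : ℝ) ≤
      (Frame.m χ : ℝ) ^ 2 + 18 * S χ + 2 * ((iv t χ : ℤ) : ℝ) ^ 2 :=
    four_pointwise hcard F hu o1 hut
  have htot := Finset.sum_le_sum hpt
  simp only [Finset.sum_add_distrib, ← Finset.mul_sum, hS] at htot
  have hm2 : ∑ χ ∈ F.R, (Frame.m χ : ℝ) ^ 2 = 450 := by
    have := F.sum_m_sq hcard
    simp only [← sq] at this
    exact_mod_cast this
  have hv2 : ∑ χ ∈ F.R, ((iv t χ : ℤ) : ℝ) ^ 2 = 130 := by
    have : ∑ χ ∈ F.R, iv t χ ^ 2 = 130 := by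
      simp only [← sq] at hvsum
      rcases t144 with e | e <;> rw [e] at hvsum <;> norm_num at hvsum <;> linarith
    exact_mod_cast this
  have hs' : (120 : ℝ) ≤ ∑ χ ∈ F.R, (Frame.m χ : ℝ) := by exact_mod_cast hsum
  rw [hm2, hv2] at htot
  linarith


/-- Not cyclic. -/
theorem four_cyclic {u : G} (hu : orderOf u = 5) (hk : cen u = 20)
    (hN : Nat.card (normalizer (zpowers u : Set G)) = 40)
    {K : Subgroup G} (hKc : Nat.card K = 4)
    (hKC : K ≤ centralizer ({u} : Set G)) (hKcomm : ∀ a ∈ K, ∀ b ∈ K, Commute a b)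
    (hCK : ∀ a ∈ K, centralizer ({u} : Set G) ≤ centralizer ({a} : Set G))
    (hinv : ∀ t ∈ K, orderOf t = 2 →
      cen t = 240 ∧ normalizer (zpowers u : Set G) ≤ centralizer ({t} : Set G))
    (hexp : ∃ a ∈ K, a * a ≠ 1) : False := by
  classical
  have hG := not_comm hcard
  set C := centralizer ({u} : Set G) with hC
  set N := normalizer (zpowers u : Set G) with hNdef
  have huC : u ∈ C := mem_centralizer_singleton_iff.2 rfl
  have hKu : ∀ a ∈ K, Commute u a := fun a ha => (mem_centralizer_singleton_iff.1 (hKC ha)).symm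
  obtain ⟨q, hqK, hq2⟩ := hexp
  set t := q * q with ht
  have htK : t ∈ K := mul_mem hqK hqK
  have hq4 : q ^ 4 = 1 := by
    have := pow_card_eq_one' (x := (⟨q, hqK⟩ : K))
    rw [hKc] at this
    exact congrArg Subtype.val this
  have hqo : orderOf q = 4 :=
    orderOf_eq_prime_pow (p := 2) (n := 1) (by rw [pow_one, sq]; exact hq2) hq4
  have hto : orderOf t = 2 := by
    rw [ht, ← sq, orderOf_pow_of_dvd (by norm_num) (by rw [hqo]; norm_num), hqo]
  have hKz : zpowers q = K := eq_of_le_of_card_ge (zpowers_le.2 hqK)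
    (by rw [Nat.card_zpowers, hqo, hKc])
  have htu : ∀ a ∈ K, orderOf a = 2 → a = t := by
    intro a ha hao
    obtain ⟨i, hi⟩ := mem_powers_iff_mem_zpowers.2 (hKz.symm ▸ ha : a ∈ zpowers q)
    replace hi : q ^ i = a := hi
    rw [← hi, pow_eq_pow_mod i hq4] at hao ⊢
    have := Nat.mod_lt i (show 4 > 0 by norm_num)
    interval_cases (i % 4)
    · simp at hao
    · rw [pow_one, hqo] at hao; norm_num at hao
    · rw [ht, sq]
    · rw [orderOf_pow' _ (by norm_num), hqo] at hao; norm_num at hao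
  obtain ⟨hc, hNH⟩ := hinv t htK hto
  set H := centralizer ({t} : Set G) with hH
  have huH : u ∈ H := hNH (le_normalizer (mem_zpowers u))
  have hUH : zpowers u ≤ H := zpowers_le.2 huH
  have hHc : Nat.card H = 240 := hc
  have hP5 : ∀ P : Sylow 5 H, Nat.card (P : Subgroup H) = 5 := fun P => by
    rw [Basic.card_sylow_eq_pow (a := 1) (m := 48)
      (show Nat.card H = 5 ^ 1 * 48 by rw [hHc]; norm_num) (by norm_num) P, pow_one]
  obtain ⟨P, hP⟩ : ∃ P : Sylow 5 H, (P : Subgroup H) = (zpowers u).subgroupOf H := by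
    obtain ⟨P, hP⟩ := (IsPGroup.of_card (p := 5) (n := 1) (by
      rw [Nat.card_congr (subgroupOfEquivOfLe hUH).toEquiv, Nat.card_zpowers, hu, pow_one]) :
      IsPGroup 5 ((zpowers u).subgroupOf H)).exists_le_sylow
    exact ⟨P, (eq_of_le_of_card_ge hP (by
      rw [hP5 P, Nat.card_congr (subgroupOfEquivOfLe hUH).toEquiv, Nat.card_zpowers, hu])).symm⟩
  have hPN : normalizer ((P : Subgroup H) : Set H) = N.subgroupOf H := by
    rw [hP]
    ext a
    rw [hNdef, mem_subgroupOf, mem_normalizer_iff, mem_normalizer_iff]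
    constructor
    · intro h b
      refine ⟨fun hb => (h ⟨b, hUH hb⟩).1 hb, fun hb => ?_⟩
      have hbH : b ∈ H := by
        have := H.mul_mem (H.mul_mem (H.inv_mem a.2) (hUH hb)) a.2
        simpa [mul_assoc] using this
      exact (h ⟨b, hbH⟩).2 hb
    · intro h b
      exact h b
  have h6 : Nat.card (Sylow 5 H) = 6 := by
    have := Basic.card_normalizer_mul P
    rw [hPN, Nat.card_congr (subgroupOfEquivOfLe hNH).toEquiv, hN, hHc] at this
    omega
  let uH : H := ⟨u, huH⟩
  have huo : orderOf uH = 5 := by rw [Subgroup.orderOf_mk, hu]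
  have hKH : K ≤ H := fun a ha => mem_centralizer_singleton_iff.2 (hKcomm a ha t htK).eq
  set f := MulAction.toPermHom H (Sylow 5 H)
  have hker : ∀ a : H, a ∈ f.ker ↔ ∀ Q : Sylow 5 H, a • Q = Q := fun a => by
    rw [MonoidHom.mem_ker, Equiv.ext_iff]; rfl
  have hKker : f.ker = K.subgroupOf H := by
    ext a
    rw [mem_subgroupOf, hker]
    constructor
    · intro ha
      obtain ⟨hcm, h5a⟩ := Six.kernel_commute hP5 h6 huo ha
      have haC : (a : G) ∈ C := mem_centralizer_singleton_iff.2 (congrArg Subtype.val hcm.eq)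
      rw [← orderOf_submonoid] at h5a
      have hd : orderOf (a : G) ∣ 2 ^ 2 := by
        have := orderOf_dvd_natCard (⟨(a : G), haC⟩ : C)
        rw [Subgroup.orderOf_mk, show Nat.card C = 4 * 5 from hk] at this
        exact (((Nat.Prime.coprime_iff_not_dvd (by norm_num)).2 h5a).symm).dvd_of_dvd_mul_right this
      by_contra hne
      have haa : IsPGroup 2 (zpowers (a : G)) := by
        obtain ⟨i, -, hie⟩ := (Nat.dvd_prime_pow Nat.prime_two).1 hd
        exact IsPGroup.of_card (n := i) (by rw [Nat.card_zpowers, hie])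
      have hnorm : zpowers (a : G) ≤ normalizer (K : Set G) := zpowers_le.2
        (centralizer_le_normalizer _ (mem_centralizer_iff.2 fun b hb =>
          (mem_centralizer_singleton_iff.1 (hCK b hb haC)).symm))
      obtain ⟨i, hi⟩ := (haa.to_sup_of_normal_right'
        (IsPGroup.of_card (p := 2) (n := 2) (by rw [hKc]; norm_num)) hnorm).exists_card_eq
      have hsub : zpowers (a : G) ⊔ K ≤ C := sup_le (zpowers_le.2 haC) hKC
      have hd2 := card_dvd_of_le hsub
      rw [hi, show Nat.card C = 2 ^ 2 * 5 from hk] at hd2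
      have hd' : 2 ^ i ∣ 2 ^ 2 :=
        (Nat.Coprime.pow_left i (by norm_num : Nat.Coprime 2 5)).dvd_of_dvd_mul_right hd2
      have := eq_of_le_of_card_ge (le_sup_right : K ≤ zpowers (a : G) ⊔ K) (by
        rw [hi, hKc]; exact Nat.le_of_dvd (by norm_num) hd')
      exact hne (this ▸ mem_sup_left (mem_zpowers _))
    · intro ha
      refine Six.fixes_all hP5 h6 huo (Subtype.ext (hKu _ ha).eq.symm) fun h5 => ?_
      rw [← orderOf_submonoid] at h5
      have h4 := orderOf_dvd_natCard (⟨(a : G), ha⟩ : K)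
      rw [Subgroup.orderOf_mk, hKc] at h4
      exact absurd (h5.trans h4) (by norm_num)
  -- the quotient has order sixty, with noncyclic Sylow 2-subgroups
  let R := f.range
  let π : H →* R := f.rangeRestrict
  have hπk : π.ker = f.ker := f.ker_rangeRestrict
  have hRc : Nat.card R = 60 := by
    have h1 := Subgroup.card_mul_index f.ker
    rw [Subgroup.index_ker, hKker, Nat.card_congr (subgroupOfEquivOfLe hKH).toEquiv, hKc, hHc] at h1
    change Nat.card f.range = 60
    omega
  -- a Sylow 2-subgroup of `H`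
  obtain ⟨T, hKT⟩ := (IsPGroup.of_card (p := 2) (n := 2) (by
    rw [Nat.card_congr (subgroupOfEquivOfLe hKH).toEquiv, hKc]; norm_num) :
    IsPGroup 2 (K.subgroupOf H)).exists_le_sylow
  have hTc : Nat.card (T : Subgroup H) = 16 := by
    rw [Basic.card_sylow_eq_pow (a := 4) (m := 15) (show Nat.card H = 2 ^ 4 * 15 by rw [hHc]; norm_num)
      (by norm_num) T]; norm_num
  have hsq : ∀ s ∈ (T : Subgroup H), π (s * s) = 1 := by
    by_contra hcon
    push Not at hcon
    obtain ⟨s, hsT, hs⟩ := hcon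
    have h4 : orderOf (π s) ∣ 2 ^ 4 := by
      refine (orderOf_map_dvd π s).trans ?_
      have := orderOf_dvd_natCard (⟨s, hsT⟩ : (T : Subgroup H))
      rwa [Subgroup.orderOf_mk, hTc] at this
    obtain ⟨i, -, hie⟩ := (Nat.dvd_prime_pow Nat.prime_two).1 h4
    have hi2 : i = 2 := by
      have hd : 2 ^ i ∣ 2 ^ 2 := (Nat.Coprime.pow_left i (by norm_num : Nat.Coprime 2 15)).dvd_of_dvd_mul_right
        (show 2 ^ i ∣ 2 ^ 2 * 15 by
          rw [← hie]; exact (orderOf_dvd_natCard (π s)).trans (by rw [hRc]; norm_num))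
      have hle := (Nat.pow_dvd_pow_iff_le_right (by norm_num : 1 < 2)).1 hd
      by_contra hne
      refine hs ?_
      rw [map_mul, ← sq, ← orderOf_dvd_iff_pow_eq_one, hie]
      exact (Nat.pow_dvd_pow 2 (show i ≤ 1 by omega))
    subst hi2
    obtain ⟨S2, hS2⟩ := (IsPGroup.of_card (p := 2) (n := 2) (by rw [Nat.card_zpowers, hie]) :
      IsPGroup 2 (zpowers (π s))).exists_le_sylow
    have hS2e : zpowers (π s) = (S2 : Subgroup R) := eq_of_le_of_card_ge hS2 (by
      rw [Nat.card_zpowers, hie, Basic.card_sylow_eq_pow (a := 2) (m := 15)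
        (show Nat.card R = 2 ^ 2 * 15 by rw [hRc]; norm_num) (by norm_num) S2])
    have hcyc : IsCyclic (S2 : Subgroup R) := by
      rw [← hS2e]; exact (zpowers (π s)).isCyclic_iff_exists_zpowers_eq_top.2 ⟨π s, rfl⟩
    have hmin : (Nat.card R).minFac = 2 := by rw [hRc]; norm_num
    haveI : S2.FiniteIndex := inferInstance
    have hnc := IsCyclic.isComplement' hmin hcyc
    set M := (MonoidHom.transferSylow S2 (IsCyclic.normalizer_le_centralizer hmin hcyc)).ker with hM
    have hMc : Nat.card M = 15 := by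
      have := hnc.card_mul_card
      rw [← hS2e, Nat.card_zpowers, hie, hRc] at this
      omega
    have hMn : M.Normal := (MonoidHom.transferSylow S2 (IsCyclic.normalizer_le_centralizer hmin hcyc)).normal_ker
    have hπu : orderOf (π uH) = 5 := by
      have hd := orderOf_map_dvd π uH
      rw [huo] at hd
      refine ((Nat.dvd_prime (by norm_num)).1 hd).resolve_left fun h1 => ?_
      have : uH ∈ f.ker := hπk ▸ MonoidHom.mem_ker.2 (orderOf_eq_one_iff.1 h1)
      rw [hKker, mem_subgroupOf] at this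
      have h4 := orderOf_dvd_natCard (⟨u, this⟩ : K)
      rw [Subgroup.orderOf_mk, hKc, hu] at h4
      norm_num at h4
    have hmem5 : ∀ y : R, orderOf y = 5 → y ∈ M := fun y hy => by
      have h1 := orderOf_map_dvd
        (MonoidHom.transferSylow S2 (IsCyclic.normalizer_le_centralizer hmin hcyc)) y
      have h2 := orderOf_dvd_natCard
        (MonoidHom.transferSylow S2 (IsCyclic.normalizer_le_centralizer hmin hcyc) y)
      rw [hy] at h1
      rw [Basic.card_sylow_eq_pow (a := 2) (m := 15)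
          (show Nat.card R = 2 ^ 2 * 15 by rw [hRc]; norm_num) (by norm_num) S2] at h2
      exact MonoidHom.mem_ker.2 (orderOf_eq_one_iff.1 (Nat.eq_one_of_dvd_coprimes (by norm_num) h1 h2))
    have hMone : Nat.card (Sylow 5 M) = 1 := by
      obtain ⟨Q⟩ : Nonempty (Sylow 5 M) := inferInstance
      have h1 := card_sylow_modEq_one 5 M
      have h2 := Basic.card_normalizer_mul Q
      have h3 := Basic.sylow_dvd_normalizer Q
      rw [Basic.card_sylow_eq_pow (a := 1) (m := 3) (by rw [hMc]; norm_num) (by norm_num) Q] at h3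
      obtain ⟨c, hc⟩ := h3
      rw [hc, hMc] at h2
      have h1' : Nat.card (Sylow 5 M) % 5 = 1 := h1
      have h4 : Nat.card (Sylow 5 M) ∣ 3 := ⟨c, by nlinarith⟩
      rcases (Nat.dvd_prime Nat.prime_three).1 h4 with e | e
      · exact e
      · rw [e] at h1'; norm_num at h1'
    haveI : Subsingleton (Sylow 5 M) := Finite.card_le_one_iff_subsingleton.1 hMone.le
    have hz : ∀ y : R, orderOf y = 5 → y ∈ zpowers (π uH) := by
      intro y hy
      obtain ⟨Q, hQ⟩ := (IsPGroup.of_card (p := 5) (n := 1) (by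
        rw [Nat.card_zpowers, Subgroup.orderOf_mk, hπu, pow_one]) :
        IsPGroup 5 (zpowers (⟨π uH, hmem5 _ hπu⟩ : M))).exists_le_sylow
      obtain ⟨Q', hQ'⟩ := (IsPGroup.of_card (p := 5) (n := 1) (by
        rw [Nat.card_zpowers, Subgroup.orderOf_mk, hy, pow_one]) :
        IsPGroup 5 (zpowers (⟨y, hmem5 _ hy⟩ : M))).exists_le_sylow
      have hQe := eq_of_le_of_card_ge hQ (by
        rw [Basic.card_sylow_eq_pow (a := 1) (m := 3) (by rw [hMc]; norm_num) (by norm_num) Q,
          Nat.card_zpowers, Subgroup.orderOf_mk, hπu, pow_one])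
      rw [Subsingleton.elim Q' Q, ← hQe] at hQ'
      obtain ⟨i, hi⟩ := mem_zpowers_iff.1 (hQ' (mem_zpowers _))
      exact mem_zpowers_iff.2 ⟨i, by simpa using congrArg Subtype.val hi⟩
    -- so `H` normalizes the Sylow 5-subgroup
    have hHN : H ≤ N := by
      intro h hh
      have hy : h * u * h⁻¹ ∈ H := mul_mem (mul_mem hh huH) (inv_mem hh)
      have hyo : orderOf (π ⟨h * u * h⁻¹, hy⟩) = 5 := by
        refine Eq.trans ?_ hπu
        rw [show (⟨h * u * h⁻¹, hy⟩ : H) = MulAut.conj (⟨h, hh⟩ : H) uH from rfl]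
        rw [show π (MulAut.conj (⟨h, hh⟩ : H) uH) = MulAut.conj (π ⟨h, hh⟩) (π uH) by simp]
        exact MulEquiv.orderOf_eq _ _
      obtain ⟨i, hi⟩ := mem_zpowers_iff.1 (hz _ hyo)
      rw [← map_zpow, MonoidHom.eq_iff] at hi
      rw [hπk, hKker, mem_subgroupOf] at hi
      set y := h * u * h⁻¹ with hydef
      have hk0 : y⁻¹ * u ^ i ∈ K ∨ (u ^ i)⁻¹ * y ∈ K := Or.inl hi
      have hyC : y ∈ C := by
        have hui : u ^ i ∈ C := zpow_mem huC i
        rcases hk0 with hk0 | hk0
        · rw [show y = u ^ i * (y⁻¹ * u ^ i)⁻¹ by group]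
          exact mul_mem hui (inv_mem (hKC hk0))
        · rw [show y = u ^ i * ((u ^ i)⁻¹ * y) by group]
          exact mul_mem hui (hKC hk0)
      have hy5 : orderOf y = 5 := by rw [hydef, ← hu]; exact MulEquiv.orderOf_eq (MulAut.conj h) u
      have hyU : y ∈ zpowers u := by
        by_contra hne
        have hyN : zpowers y ≤ normalizer (zpowers u : Set G) := zpowers_le.2
          ((centralizer_le_normalizer _) (by rw [zpowers_eq_closure, centralizer_closure]; exact hyC))
        obtain ⟨W, hW⟩ := ((IsPGroup.of_card (p := 5) (n := 1)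
          (by rw [Nat.card_zpowers, hy5, pow_one]) : IsPGroup 5 (zpowers y)).to_sup_of_normal_right'
            (IsPGroup.of_card (p := 5) (n := 1) (by rw [Nat.card_zpowers, hu, pow_one])) hyN).exists_le_sylow
        have := eq_of_le_of_card_ge (le_sup_right.trans hW : zpowers u ≤ (W : Subgroup G))
          (by rw [card_sylow_five hcard W, Nat.card_zpowers, hu])
        exact hne (this ▸ hW (mem_sup_left (mem_zpowers _)))
      have himg : (zpowers u).map (MulAut.conj h).toMonoidHom ≤ zpowers u := by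
        rw [MonoidHom.map_zpowers, zpowers_le]; exact hyU
      have := eq_of_le_of_card_ge himg (by rw [card_map_of_injective (MulAut.conj h).injective])
      rw [hNdef, mem_normalizer_iff]
      intro z
      constructor
      · intro hz; rw [← this]; exact ⟨z, hz, rfl⟩
      · intro hz
        rw [← this] at hz
        obtain ⟨w, hw, hwz⟩ := hz
        rwa [show w = z from (MulAut.conj h).injective hwz] at hw
    have := card_dvd_of_le hHN
    rw [hHc, hN] at this
    norm_num at this
  -- a 2-subgroup of order thirty-two centralizing `t`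
  set TG : Subgroup G := (T : Subgroup H).map H.subtype with hTG
  have hTGc : Nat.card TG = 2 ^ 4 := by
    rw [hTG, card_map_of_injective H.subtype_injective, hTc]; norm_num
  obtain ⟨T', hT', hle⟩ := Sylow.exists_subgroup_card_pow_succ (p := 2) (n := 4)
    (by rw [hcard]; norm_num) hTGc
  have hnorm : ∀ n ∈ T', ∀ y ∈ TG, n * y * n⁻¹ ∈ TG := by
    intro n hn y hy
    have hidx : (TG.subgroupOf T').index = 2 := by
      have := Subgroup.card_mul_index (TG.subgroupOf T')
      rw [Nat.card_congr (subgroupOfEquivOfLe hle).toEquiv, hTGc, hT'] at this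
      omega
    haveI := Subgroup.normal_of_index_eq_two hidx
    exact (inferInstance : (TG.subgroupOf T').Normal).conj_mem ⟨y, hle hy⟩ hy ⟨n, hn⟩
  have hTH : T' ≤ H := by
    intro n hn
    have hqT : q ∈ TG := ⟨⟨q, hKH hqK⟩, hKT (mem_subgroupOf.2 hqK), rfl⟩
    obtain ⟨s, hs, hse⟩ := hnorm n hn q hqT
    have hsK : ((s * s : H) : G) ∈ K := by
      have := hsq s hs
      rw [← MonoidHom.mem_ker, hπk, hKker, mem_subgroupOf] at this
      exact this
    have hval : ((s * s : H) : G) = n * t * n⁻¹ := by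
      have hse' : (s : G) = n * q * n⁻¹ := hse
      rw [Subgroup.coe_mul, hse', ht]; group
    rw [hval] at hsK
    have hord : orderOf (n * t * n⁻¹) = 2 := by
      rw [← hto]; exact MulEquiv.orderOf_eq (MulAut.conj n) t
    have := htu _ hsK hord
    exact mem_centralizer_singleton_iff.2 (mul_inv_eq_iff_eq_mul.1 this)
  have := card_dvd_of_le hTH
  rw [hT', hHc] at this
  norm_num at this



/-- Not a centralizer of order twenty. -/
theorem ne_four {u : G} (hu : orderOf u = 5) (F : Frame G) (hk : cen u = 20)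
    (hN : Nat.card (normalizer (zpowers u : Set G)) = 40)
    (hn : ∀ v : G, orderOf v = 5 → cen v = 20 →
      (F.c54 : G → ℂ) v = ((-1 : ℤ) : ℂ) ∧ (F.c144 : G → ℂ) v = ((-1 : ℤ) : ℂ)) : False := by
  classical
  have hG := not_comm hcard
  set C := centralizer ({u} : Set G) with hC
  set N := normalizer (zpowers u : Set G) with hNdef
  have huC : u ∈ C := mem_centralizer_singleton_iff.2 rfl
  -- the Sylow 2-subgroup of the centralizer
  obtain ⟨K₀⟩ : Nonempty (Sylow 2 C) := inferInstance
  set K : Subgroup G := (K₀ : Subgroup C).map C.subtype with hKdef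
  have hKc : Nat.card K = 4 := by
    rw [hKdef, card_map_of_injective C.subtype_injective,
      Basic.card_sylow_eq_pow (a := 2) (m := 5) (show Nat.card C = 2 ^ 2 * 5 from hk) (by norm_num) K₀]
    norm_num
  have hKC : K ≤ C := map_subtype_le _
  have hKcomm : ∀ a ∈ K, ∀ b ∈ K, Commute a b := fun a ha b hb => by
    haveI : IsMulCommutative K := IsPGroup.isMulCommutative_of_card_eq_prime_sq (p := 2)
      (by rw [hKc]; norm_num)
    exact congrArg Subtype.val (mul_comm' (⟨a, ha⟩ : K) ⟨b, hb⟩)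
  have hCK : ∀ a ∈ K, C ≤ centralizer ({a} : Set G) := fun a ha => by
    set D := C ⊓ centralizer ({a} : Set G) with hD
    have h5 : 5 ∣ Nat.card D := by
      have := orderOf_dvd_natCard (⟨u, mem_inf.2 ⟨huC, mem_centralizer_singleton_iff.2
        (mem_centralizer_singleton_iff.1 (hKC ha)).symm⟩⟩ : D)
      rwa [Subgroup.orderOf_mk, hu] at this
    have h4 : 4 ∣ Nat.card D := hKc ▸ card_dvd_of_le (le_inf hKC fun b hb =>
      mem_centralizer_singleton_iff.2 (hKcomm b hb a ha).eq)
    have := eq_of_le_of_card_ge (inf_le_left : D ≤ C) (by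
      rw [show Nat.card C = 20 from hk]
      exact Nat.le_of_dvd Nat.card_pos
        (Nat.Coprime.mul_dvd_of_dvd_of_dvd (by norm_num : Nat.Coprime 5 4) h5 h4))
    rw [← this]; exact inf_le_right
  have hKu : ∀ a ∈ K, Commute u a := fun a ha => (mem_centralizer_singleton_iff.1 (hKC ha)).symm
  have hinv : ∀ t ∈ K, orderOf t = 2 → cen t = 240 ∧ N ≤ centralizer ({t} : Set G) :=
    fun t htK ht => four_inv hcard F hu hk hN ht (hKu t htK) (hCK t htK)
  by_cases hexp : ∀ a ∈ K, a * a = 1
  · exact four_klein hcard hu F hk hKc hKC hinv hexp hn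
  · push Not at hexp
    exact four_cyclic hcard hu hk hN hKc hKC hKcomm hCK hinv hexp

/-- An element of order five with centralizer of order ten. -/
theorem exists_five_ten (F : Frame G) :
    ∃ u : G, orderOf u = 5 ∧ cen u = 10 ∧ Nat.card (normalizer (zpowers u : Set G)) = 40 ∧
      ∃ t : G, orderOf t = 2 ∧ Commute u t := by
  classical
  obtain ⟨u, t, hu, ht, hut⟩ := exists_five_two hcard
  obtain ⟨e, k, he, hk, hN, hmem⟩ := five_data hcard hu
  have h2 : 2 ∣ cen u := by
    have := orderOf_dvd_natCard (⟨t, mem_centralizer_singleton_iff.2 hut.eq.symm⟩ :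
      centralizer ({u} : Set G))
    rwa [Subgroup.orderOf_mk, ht] at this
  have h32 := not_thirty_two hcard F hu h2
  have h108 := ke_ne_108 hcard hu he hk hN
  have h18 := ke_ne_18 hcard hu he hk hN
  rw [hN, mul_assoc] at h32
  have hke : k * e = 8 ∨ k * e = 48 := by
    simp only [List.mem_cons, List.not_mem_nil, or_false] at hmem
    rcases hmem with h | h | h | h | h | h
    · exact Or.inl h
    · exact absurd h h18
    · exact Or.inr h
    · exact absurd h h108
    · exact absurd (by rw [h]; norm_num) h32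
    · exact absurd (by rw [h]; norm_num) h32
  have hk4 : k ∈ ([2, 4, 12, 24] : List ℕ) := by
    rcases he with rfl | rfl <;> rcases hke with h | h <;> simp <;> omega
  obtain ⟨a, b, c, ⟨-, ha, -, hb, -, -⟩, ca, cb, cc, rfl, hbd⟩ := five_vals hcard F hu
  have h3 : 3 ∣ k → a % 3 = 0 := fun h3k => by
    obtain ⟨⟨r, hrm⟩, hro⟩ := exists_prime_orderOf_dvd_card' (G := centralizer ({u} : Set G)) 3
      (show 3 ∣ cen u by rw [hk]; exact h3k.mul_left 5)
    rw [Subgroup.orderOf_mk] at hro
    exact Int.emod_eq_zero_of_dvd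
      (three_dvd_val hcard F hro (mem_centralizer_singleton_iff.1 hrm) (by rw [hu]; norm_num) ha)
  rw [hk] at hbd
  push_cast at hbd
  have hk24 : (k : ℤ) ≤ 24 := by
    have : k ≤ 24 := by rcases he with rfl | rfl <;> omega
    exact_mod_cast this
  have has : a * a ≤ 144 := by nlinarith [sq_nonneg b, sq_nonneg (1 - a + b)]
  have hbs : b * b ≤ 144 := by nlinarith [sq_nonneg a, sq_nonneg (1 - a + b)]
  rcases scan_n k hk4 a (mem_small has) b (mem_small hbs) ca cb cc h3 hbd with
    ⟨rfl, -, -⟩ | ⟨rfl, -, -⟩ | ⟨rfl, h⟩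
  · exact ⟨u, hu, by rw [hk], by rw [hN]; rcases he with rfl | rfl <;> omega, t, ht, hut⟩
  · exfalso
    refine ne_four hcard hu F (by rw [hk]) (by rw [hN]; rcases he with rfl | rfl <;> omega) ?_
    intro v hv hvk
    obtain ⟨a', b', c', ⟨-, ha', -, hb', -, -⟩, ca', cb', cc', rfl, hbd'⟩ := five_vals hcard F hv
    rw [hvk] at hbd'
    push_cast at hbd'
    have has : a' * a' ≤ 144 := by nlinarith [sq_nonneg b', sq_nonneg (1 - a' + b')]
    have hbs : b' * b' ≤ 144 := by nlinarith [sq_nonneg a', sq_nonneg (1 - a' + b')]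
    rcases scan_n 4 (by simp) a' (mem_small has) b' (mem_small hbs) ca' cb' cc' (by norm_num)
      (by push_cast; linarith) with h | ⟨-, rfl, rfl⟩ | h
    · omega
    · exact ⟨ha', hb'⟩
    · omega
  · exfalso
    exact ne_twenty_four hcard hu F (by rw [hk]) (by rw [hN]; rcases he with rfl | rfl <;> omega)
      ha hb h

end Cfsg.Agent.M12Order
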