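import Cfsg.Agent.Lib.M12Order.Block

/-!
# Simple groups of order 95040: sums over the characters
-/

set_option autoImplicit false
set_option linter.style.haveILetI false
set_option linter.unusedSectionVars false

namespace Cfsg.Agent.M12Order

open Subgroup
open Cfsg.Agent.Characters Cfsg.Agent.Blocks Cfsg.Agent.PrimeBlock
open scoped ComplexConjugate

universe u

variable {G : Type u} [Group G] [Finite G]

noncomputable local instance : Fintype (Cfsg.IrrCharacter G) := Fintype.ofFinite _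

namespace Frame

variable (F : Frame G)

/-- The members of the block. -/
noncomputable def B : Finset (Cfsg.IrrCharacter G) :=
  blockSet F.c45 F.c54 F.c120 F.c144 F.θ F.θ'

open scoped Classical in
/-- The other characters. -/
noncomputable def R : Finset (Cfsg.IrrCharacter G) := Finset.univ \ F.B

theorem mem_R {χ : Cfsg.IrrCharacter G} : χ ∈ F.R ↔ χ ∉ F.B := by simp [R]

theorem R_zero {χ : Cfsg.IrrCharacter G} (h : χ ∈ F.R) : (χ : G → ℂ) F.x = 0 :=
  (F.rest χ (F.mem_R.1 h)).1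

theorem R_dvd {χ : Cfsg.IrrCharacter G} (h : χ ∈ F.R) : 11 ∣ deg χ :=
  (F.rest χ (F.mem_R.1 h)).2

/-- The degree over eleven. -/
noncomputable def m (χ : Cfsg.IrrCharacter G) : ℕ := deg χ / 11

theorem deg_eq {F : Frame G} {χ : Cfsg.IrrCharacter G} (h : χ ∈ F.R) : deg χ = 11 * m χ :=
  (Nat.mul_div_cancel' (F.R_dvd h)).symm

theorem sum_B {M : Type*} [AddCommMonoid M] (f : Cfsg.IrrCharacter G → M) :
    ∑ χ ∈ F.B, f χ =
      f (trivIrr G) + f F.c45 + f F.c54 + f F.c120 + f F.c144 + f F.θ + f F.θ' := by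
  classical
  have hd : ∀ {a b : Cfsg.IrrCharacter G} {i j : ℕ}, deg a = i → deg b = j → i ≠ j → a ≠ b :=
    fun {a b i j} ha hb hij h => hij (by rw [← ha, ← hb, h])
  have h1 : deg (trivIrr G) = 1 := deg_trivIrr
  rw [B, blockSet, Finset.sum_insert, Finset.sum_insert, Finset.sum_insert, Finset.sum_insert,
    Finset.sum_insert, Finset.sum_pair F.ne.symm]
  · simp only [add_assoc]
  all_goals simp only [Finset.mem_insert, Finset.mem_singleton, not_or]
  · exact ⟨hd F.d144 F.d16 (by norm_num), hd F.d144 F.d16' (by norm_num)⟩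
  · exact ⟨hd F.d120 F.d144 (by norm_num), hd F.d120 F.d16 (by norm_num),
      hd F.d120 F.d16' (by norm_num)⟩
  · exact ⟨hd F.d54 F.d120 (by norm_num), hd F.d54 F.d144 (by norm_num),
      hd F.d54 F.d16 (by norm_num), hd F.d54 F.d16' (by norm_num)⟩
  · exact ⟨hd F.d45 F.d54 (by norm_num), hd F.d45 F.d120 (by norm_num),
      hd F.d45 F.d144 (by norm_num), hd F.d45 F.d16 (by norm_num), hd F.d45 F.d16' (by norm_num)⟩
  · exact ⟨hd h1 F.d45 (by norm_num), hd h1 F.d54 (by norm_num), hd h1 F.d120 (by norm_num),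
      hd h1 F.d144 (by norm_num), hd h1 F.d16 (by norm_num), hd h1 F.d16' (by norm_num)⟩

theorem sum_all {M : Type*} [AddCommMonoid M] (f : Cfsg.IrrCharacter G → M) :
    ∑ χ, f χ = ∑ χ ∈ F.B, f χ + ∑ χ ∈ F.R, f χ := by
  classical
  rw [R, add_comm, Finset.sum_sdiff (Finset.subset_univ F.B)]

/-- Second orthogonality, split over the block. -/
theorem orth (g h : G) [Decidable (IsConj g h)] :
    ∑ χ ∈ F.B, (χ : G → ℂ) g * conj ((χ : G → ℂ) h) +
        ∑ χ ∈ F.R, (χ : G → ℂ) g * conj ((χ : G → ℂ) h) =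
      if IsConj g h then (cen h : ℂ) else 0 := by
  rw [← F.sum_all, second_orthogonality]
  congr

/-- An integral column: the rest, paired with itself. -/
theorem norm_R (g : G) (a : Cfsg.IrrCharacter G → ℤ)
    (ha : ∀ χ ∈ F.B, (χ : G → ℂ) g = (a χ : ℂ)) :
    ∑ χ ∈ F.R, ‖(χ : G → ℂ) g‖ ^ 2 = (((cen g : ℤ) - ∑ χ ∈ F.B, a χ * a χ : ℤ) : ℝ) := by
  classical
  have h := F.orth g g
  rw [if_pos (IsConj.refl g), Finset.sum_congr rfl (g := fun χ => ((a χ * a χ : ℤ) : ℂ)) fun χ hχ => by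
    rw [ha χ hχ, map_intCast, Int.cast_mul]] at h
  simp only [Complex.mul_conj'] at h
  apply Complex.ofReal_injective
  push_cast at h ⊢
  linear_combination h

theorem norm_R_nonneg (g : G) (a : Cfsg.IrrCharacter G → ℤ)
    (ha : ∀ χ ∈ F.B, (χ : G → ℂ) g = (a χ : ℂ)) : ∑ χ ∈ F.B, a χ * a χ ≤ (cen g : ℤ) := by
  have h := F.norm_R g a ha
  have h0 : (0 : ℝ) ≤ ∑ χ ∈ F.R, ‖(χ : G → ℂ) g‖ ^ 2 := Finset.sum_nonneg fun _ _ => sq_nonneg _
  rw [h] at h0
  have : (0 : ℤ) ≤ (cen g : ℤ) - ∑ χ ∈ F.B, a χ * a χ := by exact_mod_cast h0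
  omega

/-- The Cauchy inequality for two columns. -/
theorem cauchy {g h : G} (hne : ¬ IsConj g h) (a b : Cfsg.IrrCharacter G → ℤ)
    (ha : ∀ χ ∈ F.B, (χ : G → ℂ) g = (a χ : ℂ)) (hb : ∀ χ ∈ F.B, (χ : G → ℂ) h = (b χ : ℂ)) :
    (∑ χ ∈ F.B, a χ * b χ) * (∑ χ ∈ F.B, a χ * b χ) ≤
      ((cen g : ℤ) - ∑ χ ∈ F.B, a χ * a χ) * ((cen h : ℤ) - ∑ χ ∈ F.B, b χ * b χ) := by
  classical
  have ho := F.orth g h
  rw [if_neg hne, Finset.sum_congr rfl (g := fun χ => ((a χ * b χ : ℤ) : ℂ)) fun χ hχ => by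
    rw [ha χ hχ, hb χ hχ, map_intCast, Int.cast_mul], ← Int.cast_sum] at ho
  set S := ∑ χ ∈ F.B, a χ * b χ
  have h1 : ‖∑ χ ∈ F.R, (χ : G → ℂ) g * conj ((χ : G → ℂ) h)‖ = |(S : ℝ)| := by
    rw [show ∑ χ ∈ F.R, (χ : G → ℂ) g * conj ((χ : G → ℂ) h) = -(S : ℂ) by linear_combination ho,
      norm_neg, Complex.norm_intCast]
  have h2 : |(S : ℝ)| ≤ ∑ χ ∈ F.R, ‖(χ : G → ℂ) g‖ * ‖(χ : G → ℂ) h‖ := by
    rw [← h1]
    refine le_trans (_root_.norm_sum_le _ _) (Finset.sum_le_sum fun χ _ => ?_)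
    rw [norm_mul, Complex.norm_conj]
  have h3 := Finset.sum_mul_sq_le_sq_mul_sq F.R (fun χ => ‖(χ : G → ℂ) g‖) fun χ => ‖(χ : G → ℂ) h‖
  rw [F.norm_R g a ha, F.norm_R h b hb] at h3
  have h4 : (S : ℝ) * S ≤ (∑ χ ∈ F.R, ‖(χ : G → ℂ) g‖ * ‖(χ : G → ℂ) h‖) ^ 2 := by
    rw [← sq, ← sq_abs (S : ℝ)]
    exact pow_le_pow_left₀ (abs_nonneg _) h2 2
  exact_mod_cast h4.trans h3

/-- An integral column against the degrees. -/
theorem sum_deg {g : G} (hg : g ≠ 1) (a : Cfsg.IrrCharacter G → ℤ)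
    (ha : ∀ χ : Cfsg.IrrCharacter G, (χ : G → ℂ) g = (a χ : ℂ)) :
    a (trivIrr G) + 45 * a F.c45 + 54 * a F.c54 + 120 * a F.c120 + 144 * a F.c144 + 16 * a F.θ +
      16 * a F.θ' + 11 * ∑ χ ∈ F.R, (m χ : ℤ) * a χ = 0 := by
  classical
  have ho := F.orth g 1
  rw [if_neg fun h => hg (isConj_one_left.1 h), F.sum_B] at ho
  simp only [← deg_cast, map_natCast, ha, deg_trivIrr, F.d45, F.d54, F.d120, F.d144, F.d16, F.d16'] at ho
  rw [Finset.sum_congr rfl (g := fun χ => 11 * (((m χ : ℤ) * a χ : ℤ) : ℂ)) fun χ hχ => by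
    rw [deg_eq hχ]; push_cast; ring, ← Finset.mul_sum, ← Int.cast_sum] at ho
  apply Int.cast_injective (α := ℂ)
  push_cast at ho ⊢
  linear_combination ho

/-- Two integral columns. -/
theorem sum_pair {g h : G} (hne : ¬ IsConj g h) (a b : Cfsg.IrrCharacter G → ℤ)
    (ha : ∀ χ : Cfsg.IrrCharacter G, (χ : G → ℂ) g = (a χ : ℂ))
    (hb : ∀ χ : Cfsg.IrrCharacter G, (χ : G → ℂ) h = (b χ : ℂ)) :
    ∑ χ ∈ F.B, a χ * b χ + ∑ χ ∈ F.R, a χ * b χ = 0 := by
  classical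
  have ho := F.orth g h
  rw [if_neg hne] at ho
  simp only [ha, hb, map_intCast, ← Int.cast_mul, ← Int.cast_sum] at ho
  exact_mod_cast ho

/-- An integral column against itself. -/
theorem sum_self {g : G} (a : Cfsg.IrrCharacter G → ℤ)
    (ha : ∀ χ : Cfsg.IrrCharacter G, (χ : G → ℂ) g = (a χ : ℂ)) :
    ∑ χ ∈ F.B, a χ * a χ + ∑ χ ∈ F.R, a χ * a χ = (cen g : ℤ) := by
  classical
  have ho := F.orth g g
  rw [if_pos (IsConj.refl g)] at ho
  simp only [ha, map_intCast, ← Int.cast_mul, ← Int.cast_sum] at ho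
  exact_mod_cast ho

section

variable [IsSimpleGroup G] (hcard : Nat.card G = 95040)

include hcard

theorem sum_m_sq : ∑ χ ∈ F.R, (m χ : ℤ) * (m χ : ℤ) = 450 := by
  classical
  have h := sum_degree_sq (G := G)
  simp only [← deg_cast] at h
  rw [F.sum_all, F.sum_B, deg_trivIrr, F.d45, F.d54, F.d120, F.d144, F.d16, F.d16',
    Finset.sum_congr rfl (g := fun χ => 121 * (((m χ : ℤ) * (m χ : ℤ) : ℤ) : ℂ)) fun χ hχ => by
      rw [deg_eq hχ]; push_cast; ring, ← Finset.mul_sum, ← Int.cast_sum, hcard] at h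
  apply Int.cast_injective (α := ℂ)
  push_cast at h ⊢
  linear_combination (1 / 121 : ℂ) * h

theorem theta_iv {t : G} (ht : orderOf t = 2) :
    iv t F.θ = 1 + iv t F.c45 - iv t F.c54 - iv t F.c120 + iv t F.c144 ∧ iv t F.θ' = iv t F.θ := by
  have hG := not_comm hcard
  have h11 : ¬ 11 ∣ orderOf t := by rw [ht]; norm_num
  constructor
  · have h := F.rel t h11
    simp only [iv_spec hG ht] at h
    exact_mod_cast h.symm
  · exact iv_eq ((F.same t h11).trans (iv_spec hG ht F.θ))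

/-- The values at an involution. -/
theorem inv_tab {t : G} (ht : orderOf t = 2) :
    (cen t = 192 ∧ iv t F.c45 = -3 ∧ iv t F.c54 = 6 ∧ iv t F.c120 = -8 ∧ iv t F.c144 = 0 ∧
      iv t F.θ = 0 ∧ iv t F.θ' = 0) ∨
    ((cen t = 120 ∨ cen t = 240) ∧ iv t F.c45 = 5 ∧ iv t F.c54 = 6 ∧ iv t F.c120 = 0 ∧
      (iv t F.c144 = 4 ∨ iv t F.c144 = -4) ∧ iv t F.θ = iv t F.c144 ∧ iv t F.θ' = iv t F.c144) := by
  have hG := not_comm hcard
  obtain ⟨hθ, hθ'⟩ := F.theta_iv hcard ht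
  have h := F.tab t ht
  simp only [table, List.mem_cons, List.not_mem_nil, or_false, Prod.mk.injEq, List.cons.injEq,
    and_true] at h
  rcases h with ⟨hc, a, b, c, d⟩ | ⟨hc, a, b, c, d⟩ | ⟨hc, a, b, c, d⟩ | ⟨hc, a, b, c, d⟩ |
    ⟨hc, a, b, c, d⟩ | ⟨hc, a, b, c, d⟩
  · exact Or.inr ⟨Or.inl hc, a, by omega, by omega, by omega, by omega, by omega⟩
  · exact Or.inr ⟨Or.inl hc, a, by omega, by omega, by omega, by omega, by omega⟩
  · exact Or.inr ⟨Or.inr hc, a, by omega, by omega, by omega, by omega, by omega⟩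
  · exact Or.inr ⟨Or.inr hc, a, by omega, by omega, by omega, by omega, by omega⟩
  · exact Or.inl ⟨hc, a, by omega, by omega, by omega, by omega, by omega⟩
  · exfalso
    have ht1 : t ≠ 1 := fun h => by rw [h, orderOf_one] at ht; norm_num at ht
    have h1 := F.sum_deg ht1 (iv t) (iv_spec hG ht)
    rw [iv_triv, a, show iv t F.c54 = 18 by omega, show iv t F.c120 = 0 by omega, d,
      show iv t F.θ = -8 by omega, show iv t F.θ' = -8 by omega] at h1
    have h2 := F.sum_self (iv t) (iv_spec hG ht)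
    rw [F.sum_B, iv_triv, a, show iv t F.c54 = 18 by omega, show iv t F.c120 = 0 by omega, d,
      show iv t F.θ = -8 by omega, show iv t F.θ' = -8 by omega, hc] at h2
    have h3 := Finset.sum_mul_sq_le_sq_mul_sq F.R (fun χ => (m χ : ℤ)) (iv t)
    have h4 := F.sum_m_sq hcard
    simp only [← sq] at h2 h4
    rw [h4, show ∑ χ ∈ F.R, (m χ : ℤ) * iv t χ = -318 by omega] at h3
    push_cast at h2
    linarith

theorem inv_five {t : G} (ht : orderOf t = 2) (h5 : 5 ∣ cen t) :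
    (cen t = 120 ∨ cen t = 240) ∧ iv t F.c45 = 5 ∧ iv t F.c54 = 6 ∧ iv t F.c120 = 0 ∧
      (iv t F.c144 = 4 ∨ iv t F.c144 = -4) ∧ iv t F.θ = iv t F.c144 ∧ iv t F.θ' = iv t F.c144 := by
  rcases F.inv_tab hcard ht with ⟨hc, -⟩ | h
  · rw [hc] at h5; norm_num at h5
  · exact h

end

end Frame

end Cfsg.Agent.M12Order
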