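import Cfsg.Agent.Lib.M12Order.Ten

/-!
# Simple groups of order 95040: three generators
-/

set_option autoImplicit false
set_option linter.style.haveILetI false
set_option linter.unusedSectionVars false

namespace Cfsg.Agent.M12Order

open Subgroup
open Cfsg.Agent.Characters Cfsg.Agent.Blocks Cfsg.Agent.PrimeBlock
open Cfsg.Agent.SmallSimple

universe u

/-- The generators and the character. -/
structure Triple (G : Type u) [Group G] [Finite G] where
  x : G
  u : G
  t : G
  χ : Cfsg.IrrCharacter G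
  hx : orderOf x = 11
  hu : orderOf u = 5
  ht : orderOf t = 2
  hut : Commute u t
  conj : u * x * u⁻¹ = x ^ 3
  gen : closure ({x, u, t} : Set G) = ⊤
  deg : deg χ = 11
  val_u : (χ : G → ℂ) u = 1
  odd_int : ∀ g : G, ¬ 2 ∣ orderOf g → ∃ k : ℤ, (χ : G → ℂ) g = (k : ℂ)

variable {G : Type u} [Group G] [Finite G] [IsSimpleGroup G] (hcard : Nat.card G = 95040)

include hcard

/-- The cofactor twelve is impossible. -/
theorem no_twelve {x u t : G} (hx : orderOf x = 11) (hu : orderOf u = 5) (ht : orderOf t = 2)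
    (hut : Commute u t) (hk : cen u = 10) (hN : Nat.card (normalizer (zpowers u : Set G)) = 40)
    {H : Subgroup G} (hxH : x ∈ H) (huH : u ∈ H) (htH : t ∈ H) (hH : Nat.card H = 660) : False := by
  classical
  set C := centralizer ({u} : Set G) with hC
  set N := normalizer (zpowers u : Set G) with hNdef
  have hCle : zpowers (u * t) = C := by
    refine eq_of_le_of_card_ge (zpowers_le.2 (mul_mem (mem_centralizer_singleton_iff.2 rfl)
      (mem_centralizer_singleton_iff.2 hut.eq.symm))) ?_
    rw [show Nat.card C = 10 from hk, Nat.card_zpowers,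
      hut.orderOf_mul_eq_mul_orderOf_of_coprime (by rw [hu, ht]; norm_num), hu, ht]
  have hCH : C ≤ H := hCle ▸ zpowers_le.2 (mul_mem huH htH)
  have hCN : C ≤ N := by
    refine le_trans ?_ (centralizer_le_normalizer _)
    rw [zpowers_eq_closure, centralizer_closure]
  obtain ⟨m, hm, hm5⟩ := conj_count_mod hu (not_twentyfive hcard) H huH
  have h1 : C ≤ N ⊓ H := le_inf hCN hCH
  obtain ⟨c, hc⟩ : 10 ∣ Nat.card (N ⊓ H : Subgroup G) := hk ▸ card_dvd_of_le h1
  have hc4 : c ∣ 4 := by
    have h2 := card_dvd_of_le (inf_le_left : N ⊓ H ≤ N)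
    rw [hc, hN] at h2
    exact Nat.dvd_of_mul_dvd_mul_left (by norm_num) h2
  rw [hc, hH] at hm
  have hc1 : c = 1 := by
    have key : ∀ c ∈ Finset.range 5, c ∣ 4 → ∀ m ∈ Finset.range 67, 660 = m * (10 * c) →
        m % 5 = 1 → c = 1 := by decide +kernel
    have hcpos : 1 ≤ c := Nat.pos_of_dvd_of_pos hc4 (by norm_num)
    exact key c (Finset.mem_range.2 (by have := Nat.le_of_dvd (by norm_num) hc4; omega)) hc4 m
      (Finset.mem_range.2 (by nlinarith)) hm hm5
  have hNH : N ⊓ H = C := (eq_of_le_of_card_ge h1 (by rw [hc, hc1, show Nat.card C = 10 from hk])).symm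
  have hUH : zpowers u ≤ H := zpowers_le.2 huH
  have hP5 : ∀ P : Sylow 5 H, Nat.card (P : Subgroup H) = 5 := fun P => by
    rw [Basic.card_sylow_eq_pow (a := 1) (m := 132) (show Nat.card H = 5 ^ 1 * 132 by rw [hH]; norm_num)
      (by norm_num) P, pow_one]
  obtain ⟨P, hP⟩ : ∃ P : Sylow 5 H, (P : Subgroup H) = (zpowers u).subgroupOf H := by
    obtain ⟨P, hP⟩ := (IsPGroup.of_card (p := 5) (n := 1) (by
      rw [Nat.card_congr (subgroupOfEquivOfLe hUH).toEquiv, Nat.card_zpowers, hu, pow_one]) :
      IsPGroup 5 ((zpowers u).subgroupOf H)).exists_le_sylow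
    exact ⟨P, (eq_of_le_of_card_ge hP (by
      rw [hP5 P, Nat.card_congr (subgroupOfEquivOfLe hUH).toEquiv, Nat.card_zpowers, hu])).symm⟩
  have hburn : normalizer ((P : Subgroup H) : Set H) ≤ centralizer ((P : Subgroup H) : Set H) := by
    intro a ha
    have haN : (a : G) ∈ N := by
      rw [hP] at ha
      rw [hNdef, mem_normalizer_iff]
      rw [mem_normalizer_iff] at ha
      intro y
      refine ⟨fun hy => (ha ⟨y, hUH hy⟩).1 hy, fun hy => ?_⟩
      have hyH : y ∈ H := by
        have := H.mul_mem (H.mul_mem (H.inv_mem a.2) (hUH hy)) a.2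
        simpa [mul_assoc] using this
      exact (ha ⟨y, hyH⟩).2 hy
    have hac : (a : G) ∈ C := hNH ▸ mem_inf.2 ⟨haN, a.2⟩
    refine mem_centralizer_iff.2 fun y hy => Subtype.ext ?_
    rw [SetLike.mem_coe, hP, mem_subgroupOf] at hy
    obtain ⟨j, hj⟩ := mem_zpowers_iff.1 hy
    show (y : G) * a = a * y
    rw [← hj]
    exact ((show Commute u a from (mem_centralizer_singleton_iff.1 hac).symm).zpow_left j).eq
  set f := MonoidHom.transferSylow P hburn with hf
  have hker : Nat.card f.ker = 132 := by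
    have := (MonoidHom.ker_transferSylow_isComplement' P hburn).card_mul_card
    rw [hP5 P, hH] at this
    change Nat.card f.ker * 5 = 660 at this
    omega
  have hcop : ∀ a : H, ¬ 5 ∣ orderOf a → a ∈ f.ker := fun a ha => by
    have h1 := orderOf_map_dvd f a
    have h2 := orderOf_dvd_natCard (f a)
    rw [hP5 P] at h2
    refine MonoidHom.mem_ker.2 (orderOf_eq_one_iff.1 (Nat.eq_one_of_dvd_coprimes ?_ h1 h2))
    exact ((Nat.Prime.coprime_iff_not_dvd (by norm_num)).2 ha).symm
  -- inside the complement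
  set K := f.ker with hK
  have hxK : (⟨x, hxH⟩ : H) ∈ K := hcop _ (by rw [Subgroup.orderOf_mk, hx]; norm_num)
  set xK : K := ⟨⟨x, hxH⟩, hxK⟩ with hxKdef
  have hxKo : orderOf xK = 11 := by rw [Subgroup.orderOf_mk, Subgroup.orderOf_mk, hx]
  have hQ11 : ∀ Q : Sylow 11 K, Nat.card (Q : Subgroup K) = 11 := fun Q => by
    rw [Basic.card_sylow_eq_pow (a := 1) (m := 12) (show Nat.card K = 11 ^ 1 * 12 by rw [hker]; norm_num)
      (by norm_num) Q, pow_one]
  obtain ⟨Q, hQ⟩ := (IsPGroup.of_card (p := 11) (n := 1) (by rw [Nat.card_zpowers, hxKo, pow_one]) :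
    IsPGroup 11 (zpowers xK)).exists_le_sylow
  have hQe : zpowers xK = (Q : Subgroup K) :=
    eq_of_le_of_card_ge hQ (by rw [hQ11 Q, Nat.card_zpowers, hxKo])
  obtain ⟨PG, hPG⟩ := sylow_of_order_eleven hcard hx
  have hN55 := (cen_eleven hcard hx).2 PG hPG
  have hburn2 : normalizer ((Q : Subgroup K) : Set K) ≤ centralizer ((Q : Subgroup K) : Set K) := by
    intro a ha
    rw [← hQe] at ha ⊢
    have haN : ((a : H) : G) ∈ normalizer ((PG : Subgroup G) : Set G) := by
      rw [hPG]
      have hmap : ∀ {n : K}, n ∈ normalizer (zpowers xK : Set K) →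
          ((n : H) : G) * x * ((n : H) : G)⁻¹ ∈ zpowers x := fun {n} hn => by
        obtain ⟨i, hi⟩ := mem_zpowers_iff.1 ((mem_normalizer_iff.1 hn xK).1 (mem_zpowers xK))
        exact ⟨i, by simpa [hxKdef] using congrArg (fun z : K => ((z : H) : G)) hi⟩
      have himg : (zpowers x).map (MulAut.conj ((a : H) : G)).toMonoidHom ≤ zpowers x := by
        rw [MonoidHom.map_zpowers, zpowers_le]; exact hmap ha
      have := eq_of_le_of_card_ge himg (by rw [card_map_of_injective (MulAut.conj _).injective])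
      rw [mem_normalizer_iff]
      intro z
      constructor
      · intro hz; rw [← this]; exact ⟨z, hz, rfl⟩
      · intro hz
        rw [← this] at hz
        obtain ⟨w, hw, hwz⟩ := hz
        rwa [show w = z from (MulAut.conj _).injective hwz] at hw
    have h1 := orderOf_dvd_natCard (⟨_, haN⟩ : normalizer ((PG : Subgroup G) : Set G))
    rw [Subgroup.orderOf_mk, hN55, orderOf_submonoid (a : H), orderOf_submonoid a] at h1
    have h2 := orderOf_dvd_natCard a
    rw [hker] at h2
    have h11 : orderOf a ∣ 11 := (Nat.dvd_gcd h1 h2).trans (by norm_num)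
    have hnorm : zpowers a ≤ normalizer (zpowers xK : Set K) := zpowers_le.2 ha
    have ha11 : IsPGroup 11 (zpowers a) := by
      obtain ⟨i, hi, hie⟩ := (Nat.dvd_prime_pow (show Nat.Prime 11 by norm_num)).1
        (show orderOf a ∣ 11 ^ 1 by simpa using h11)
      exact IsPGroup.of_card (n := i) (by rw [Nat.card_zpowers, hie])
    obtain ⟨R, hR⟩ := (ha11.to_sup_of_normal_right'
      (IsPGroup.of_card (p := 11) (n := 1) (by rw [Nat.card_zpowers, hxKo, pow_one])) hnorm).exists_le_sylow
    have hRe := eq_of_le_of_card_ge (le_sup_right.trans hR : zpowers xK ≤ (R : Subgroup K))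
      (by rw [hQ11 R, Nat.card_zpowers, hxKo])
    obtain ⟨j, hj⟩ := mem_zpowers_iff.1 (hRe ▸ hR (mem_sup_left (mem_zpowers a)) : a ∈ zpowers xK)
    refine mem_centralizer_iff.2 fun y hy => ?_
    obtain ⟨i, hi⟩ := mem_zpowers_iff.1 hy
    rw [← hi, ← hj, ← zpow_add, ← zpow_add, add_comm]
  set f2 := MonoidHom.transferSylow Q hburn2
  have hker2 : Nat.card f2.ker = 12 := by
    have := (MonoidHom.ker_transferSylow_isComplement' Q hburn2).card_mul_card
    rw [hQ11 Q, hker] at this
    change Nat.card f2.ker * 11 = 132 at this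
    omega
  obtain ⟨y, hy⟩ := exists_prime_orderOf_dvd_card' (G := f2.ker) 2 (by rw [hker2]; norm_num)
  obtain ⟨z, hz⟩ := exists_prime_orderOf_dvd_card' (G := f2.ker) 3 (by rw [hker2]; norm_num)
  haveI := Fintype.ofFinite f2.ker
  let cj : Fin 11 → f2.ker := fun i =>
    ⟨xK ^ (i : ℕ) * (z : K) * (xK ^ (i : ℕ))⁻¹, f2.normal_ker.conj_mem _ z.2 _⟩
  have hcjo : ∀ i, orderOf (cj i) = 3 := fun i => by
    rw [← hz, ← orderOf_submonoid (cj i), ← orderOf_submonoid z]
    exact MulEquiv.orderOf_eq (MulAut.conj (xK ^ (i : ℕ))) (z : K)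
  have hzno : ¬ Commute xK (z : K) := fun hc => by
    have hcG : Commute x (((z : K) : H) : G) := congrArg (fun w : K => ((w : H) : G)) hc.eq
    have h3 := orderOf_dvd_natCard (⟨_, mem_centralizer_singleton_iff.2 hcG.eq.symm⟩ :
      centralizer ({x} : Set G))
    rw [Subgroup.orderOf_mk, show Nat.card (centralizer ({x} : Set G)) = 11 from
      (cen_eleven hcard hx).1, orderOf_submonoid ((z : K) : H), orderOf_submonoid (z : K),
      orderOf_submonoid z, hz] at h3
    norm_num at h3
  have hcancel : ∀ n : ℕ, ¬ 11 ∣ n → xK ^ n * (z : K) * (xK ^ n)⁻¹ ≠ (z : K) := fun n hn e => by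
    obtain ⟨i, hi⟩ := exists_pow_eq_self_of_coprime (x := xK) (n := n)
      (by rw [hxKo]; exact ((Nat.Prime.coprime_iff_not_dvd (by norm_num)).2 hn).symm)
    refine hzno ?_
    rw [← hi]
    exact (show Commute (xK ^ n) (z : K) from mul_inv_eq_iff_eq_mul.1 e).pow_left i
  have hinj : Function.Injective cj := by
    intro i j hij
    have h := congrArg Subtype.val hij
    simp only [cj] at h
    by_contra hne
    have hne' : (i : ℕ) ≠ j := fun e => hne (Fin.ext e)
    rcases le_total (i : ℕ) j with hle | hle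
    · refine hcancel ((j : ℕ) - i) (by have := j.2; omega) ?_
      rw [show (j : ℕ) = i + (j - i) by omega, pow_add, mul_inv_rev] at h
      have h' := congrArg (fun w => (xK ^ (i : ℕ))⁻¹ * w * xK ^ (i : ℕ)) h
      simpa [mul_assoc] using h'.symm
    · refine hcancel ((i : ℕ) - j) (by have := i.2; omega) ?_
      rw [show (i : ℕ) = j + (i - j) by omega, pow_add, mul_inv_rev] at h
      have h' := congrArg (fun w => (xK ^ (j : ℕ))⁻¹ * w * xK ^ (j : ℕ)) h
      simpa [mul_assoc] using h'
  have h1z : (1 : f2.ker) ∉ Finset.univ.image cj := fun h => by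
    obtain ⟨i, -, hi⟩ := Finset.mem_image.1 h
    have := hcjo i
    rw [hi, orderOf_one] at this
    norm_num at this
  have hyz : y ∉ insert (1 : f2.ker) (Finset.univ.image cj) := fun h => by
    rcases Finset.mem_insert.1 h with e | e
    · rw [e, orderOf_one] at hy; norm_num at hy
    · obtain ⟨i, -, hi⟩ := Finset.mem_image.1 e
      have := hcjo i
      rw [hi, hy] at this
      norm_num at this
  have hle := Finset.card_le_univ (insert y (insert (1 : f2.ker) (Finset.univ.image cj)))
  rw [Finset.card_insert_of_notMem hyz, Finset.card_insert_of_notMem h1z,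
    Finset.card_image_of_injective _ hinj, Finset.card_univ, Fintype.card_fin,
    ← Nat.card_eq_fintype_card, hker2] at hle
  omega

/-- An element of order two cannot lie in a subgroup of index twelve with an element of order five. -/
theorem no_index_twelve {u t : G} (hu : orderOf u = 5) (ht : orderOf t = 2) (hut : Commute u t)
    (hN : Nat.card (normalizer (zpowers u : Set G)) = 40) {H : Subgroup G} (huH : u ∈ H)
    (htH : t ∈ H) (hH : H.index = 12) : False := by
  classical
  have hG := not_comm hcard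
  have hne : H ≠ ⊤ := fun h => by rw [h, index_top] at hH; norm_num at hH
  haveI := Fintype.ofFinite (G ⧸ H)
  have hcard12 : Fintype.card (G ⧸ H) = 12 := by
    rw [← Nat.card_eq_fintype_card, ← index_eq_card, hH]
  set σ := MulAction.toPermHom G (G ⧸ H)
  have hinj : Function.Injective σ := Basic.toPermHom_injective H hne
  set o : G ⧸ H := QuotientGroup.mk (1 : G) with ho
  have hmemo : ∀ g : G, g • o = o ↔ g ∈ H := fun g => by
    rw [ho, MulAction.Quotient.smul_mk, smul_eq_mul, mul_one, QuotientGroup.eq, mul_one, inv_mem_iff]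
  set U := zpowers u with hUdef
  -- the fixed cosets are those moved to by the normalizer
  set Fx := Finset.univ.filter fun q : G ⧸ H => u • q = q with hFx
  have hUH : U ≤ H := zpowers_le.2 huH
  set N := normalizer (U : Set G) with hNdef
  have hP5 : ∀ P : Sylow 5 H, Nat.card (P : Subgroup H) = 5 := fun P => by
    rw [Basic.card_sylow_eq_pow (a := 1) (m := 1584)
      (show Nat.card H = 5 ^ 1 * 1584 by
        have := card_mul_index H; rw [hH, hcard] at this; omega) (by norm_num) P, pow_one]
  have hfixN : ∀ q : G ⧸ H, u • q = q ↔ ∃ n ∈ N, q = n • o := by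
    intro q
    constructor
    · intro hq
      obtain ⟨g, rfl⟩ := QuotientGroup.mk_surjective q
      rw [MulAction.Quotient.smul_mk, smul_eq_mul, QuotientGroup.eq] at hq
      have hv : g⁻¹ * u * g ∈ H := by
        have := H.inv_mem hq; simpa [mul_assoc] using this
      have hvo : orderOf (⟨g⁻¹ * u * g, hv⟩ : H) = 5 := by
        rw [Subgroup.orderOf_mk, ← hu]
        simpa using MulEquiv.orderOf_eq (MulAut.conj g⁻¹) u
      obtain ⟨P, hP⟩ := (IsPGroup.of_card (p := 5) (n := 1) (by
        rw [Nat.card_zpowers, Subgroup.orderOf_mk, hu, pow_one]) :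
        IsPGroup 5 (zpowers (⟨u, huH⟩ : H))).exists_le_sylow
      obtain ⟨Q, hQ⟩ := (IsPGroup.of_card (p := 5) (n := 1) (by rw [Nat.card_zpowers, hvo, pow_one]) :
        IsPGroup 5 (zpowers (⟨g⁻¹ * u * g, hv⟩ : H))).exists_le_sylow
      have hPe := eq_of_le_of_card_ge hP (by rw [hP5 P, Nat.card_zpowers, Subgroup.orderOf_mk, hu])
      obtain ⟨h, hh⟩ := MulAction.exists_smul_eq H Q P
      have hmem : h * ⟨g⁻¹ * u * g, hv⟩ * h⁻¹ ∈ (P : Subgroup H) := by
        rw [← hh, Sylow.smul_def]
        exact ⟨_, hQ (mem_zpowers _), rfl⟩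
      rw [← hPe] at hmem
      obtain ⟨i, hi⟩ := mem_zpowers_iff.1 hmem
      have hi' : u ^ i = (h : G) * (g⁻¹ * u * g) * (h : G)⁻¹ := by
        simpa using congrArg Subtype.val hi
      have hn : (h : G) * g⁻¹ ∈ N := by
        have himg : U.map (MulAut.conj ((h : G) * g⁻¹)).toMonoidHom ≤ U := by
          rw [hUdef, MonoidHom.map_zpowers, zpowers_le]
          show (h : G) * g⁻¹ * u * ((h : G) * g⁻¹)⁻¹ ∈ zpowers u
          rw [show (h : G) * g⁻¹ * u * ((h : G) * g⁻¹)⁻¹ = (h : G) * (g⁻¹ * u * g) * (h : G)⁻¹ by group,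
            ← hi']
          exact zpow_mem (mem_zpowers u) i
        have := eq_of_le_of_card_ge himg (by rw [card_map_of_injective (MulAut.conj _).injective])
        rw [hNdef, mem_normalizer_iff]
        intro z
        constructor
        · intro hz; rw [← this]; exact ⟨z, hz, rfl⟩
        · intro hz
          rw [← this] at hz
          obtain ⟨w, hw, hwz⟩ := hz
          rwa [show w = z from (MulAut.conj _).injective hwz] at hw
      refine ⟨((h : G) * g⁻¹)⁻¹, inv_mem hn, ?_⟩
      rw [ho, MulAction.Quotient.smul_mk, smul_eq_mul, mul_one, mul_inv_rev, inv_inv, QuotientGroup.eq]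
      simp
    · rintro ⟨n, hn, rfl⟩
      have h1 : n⁻¹ * u * n ∈ H := hUH ((mem_normalizer_iff''.1 hn u).1 (mem_zpowers u))
      rw [← mul_smul, show u * n = n * (n⁻¹ * u * n) by group, mul_smul, (hmemo _).2 h1]
  -- two fixed cosets
  have hmod : Fx.card % 5 = 2 := by
    have hP : IsPGroup 5 U := IsPGroup.of_card (n := 1) (by rw [hUdef, Nat.card_zpowers, hu, pow_one])
    have h := hP.card_modEq_card_fixedPoints (G ⧸ H)
    rw [Nat.ModEq, ← index_eq_card, hH] at h
    have he : Nat.card (MulAction.fixedPoints U (G ⧸ H)) = Fx.card := by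
      rw [hFx, ← Fintype.card_subtype, ← Nat.card_eq_fintype_card]
      refine Nat.card_congr (Equiv.subtypeEquivRight fun q => ⟨fun hq => hq ⟨u, mem_zpowers u⟩, ?_⟩)
      intro hq a
      obtain ⟨i, hi⟩ := mem_powers_iff_mem_zpowers.2 a.2
      show (a : G) • q = q
      rw [← hi]
      exact smul_pow_fixed u q hq i
    rw [he] at h
    omega
  have hdvd : Fx.card ∣ 40 := by
    haveI := Fintype.ofFinite N
    have horb : Fx = Finset.univ.image fun n : N => (n : G) • o := by
      ext q
      simp only [hFx, Finset.mem_filter, Finset.mem_univ, true_and, Finset.mem_image]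
      rw [hfixN]
      exact ⟨fun ⟨n, hn, e⟩ => ⟨⟨n, hn⟩, e.symm⟩, fun ⟨n, e⟩ => ⟨n, n.2, e.symm⟩⟩
    have h := Nat.card_congr (MulAction.orbitEquivQuotientStabilizer N o)
    have he : Nat.card (MulAction.orbit N o) = Fx.card := by
      rw [horb, ← Nat.card_eq_finsetCard]
      exact Nat.card_congr (Equiv.setCongr (by
        ext q
        simp only [MulAction.mem_orbit_iff, Finset.coe_image, Finset.coe_univ, Set.image_univ, Set.mem_range]
        exact Iff.rfl))
    rw [← he, h, ← index_eq_card, ← hN]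
    exact index_dvd_card _
  have hFx2 : Fx.card = 2 := by
    have hle : Fx.card ≤ 12 := hcard12 ▸ Finset.card_le_univ _
    have key : ∀ k ∈ Finset.range 13, k % 5 = 2 → k ∣ 40 → k = 2 := by decide +kernel
    exact key _ (Finset.mem_range.2 (by omega)) hmod hdvd
  have hoF : o ∈ Fx := by simp [hFx, (hmemo u).2 huH]
  have hto : t • o = o := (hmemo t).2 htH
  have htF : ∀ q ∈ Fx, t • q ∈ Fx := fun q hq => by
    simp only [hFx, Finset.mem_filter, Finset.mem_univ, true_and] at hq ⊢
    rw [← mul_smul, hut.eq, mul_smul, hq]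
  have hFfix : ∀ q ∈ Fx, t • q = q := by
    intro q hq
    by_cases hqo : q = o
    · rw [hqo, hto]
    · have he : Fx = {o, q} := (Finset.eq_of_subset_of_card_le (by
        intro r hr; simp only [Finset.mem_insert, Finset.mem_singleton] at hr
        rcases hr with rfl | rfl
        · exact hoF
        · exact hq) (by rw [hFx2, Finset.card_pair (Ne.symm hqo)])).symm
      have := htF q hq
      rw [he, Finset.mem_insert, Finset.mem_singleton] at this
      exact this.resolve_left fun e => hqo (smul_left_cancel t (e.trans hto.symm))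
  have hu5 : u ^ 5 = 1 := hu ▸ pow_orderOf_eq_one u
  have ht2 : t * t = 1 := by rw [← sq, ← ht]; exact pow_orderOf_eq_one t
  -- an orbit of five
  have hcyc : ∀ q, q ∉ Fx → ∀ i : ℕ, u ^ i • q = q → 5 ∣ i := fun q hq i hi => by
    by_contra h5
    obtain ⟨j, hj⟩ := exists_pow_eq_self_of_coprime (x := u) (n := i)
      (by rw [hu]; exact ((Nat.Prime.coprime_iff_not_dvd (by norm_num)).2 h5).symm)
    refine hq (Finset.mem_filter.2 ⟨Finset.mem_univ _, ?_⟩)
    rw [← hj]
    exact smul_pow_fixed _ q hi j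
  set T := Finset.univ.filter fun q : G ⧸ H => t • q = q with hT
  have hTsub : Fx ⊆ T := fun q hq => Finset.mem_filter.2 ⟨Finset.mem_univ _, hFfix q hq⟩
  set M := Finset.univ.filter fun q : G ⧸ H => t • q ≠ q with hM
  have hMT : T.card + M.card = 12 := by
    rw [hT, hM, Finset.card_filter_add_card_filter_not, Finset.card_univ, hcard12]
  let orb : (G ⧸ H) → Finset (G ⧸ H) := fun q => Finset.univ.image fun i : Fin 5 => u ^ (i : ℕ) • q
  have horb5 : ∀ q, q ∉ Fx → (orb q).card = 5 := fun q hq => by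
    rw [Finset.card_image_of_injective _ ?_, Finset.card_univ, Fintype.card_fin]
    intro i j hij
    simp only at hij
    rcases le_total (i : ℕ) j with hle | hle
    · rw [show (j : ℕ) = i + (j - i) by omega, pow_add, mul_smul, smul_left_cancel_iff] at hij
      have := hcyc q hq _ hij.symm
      exact Fin.ext (by have := j.2; omega)
    · rw [show (i : ℕ) = j + (i - j) by omega, pow_add, mul_smul, smul_left_cancel_iff] at hij
      have := hcyc q hq _ hij
      exact Fin.ext (by have := i.2; omega)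
  have hTu : ∀ q ∈ T, orb q ⊆ T := fun q hq r hr => by
    obtain ⟨i, -, rfl⟩ := Finset.mem_image.1 hr
    simp only [hT, Finset.mem_filter, Finset.mem_univ, true_and] at hq ⊢
    rw [← mul_smul, (hut.symm.pow_right i).eq, mul_smul, hq]
  -- the fixed points of `t` are the two fixed by `u`
  have hT2 : T = Fx := by
    refine (Finset.Subset.antisymm hTsub fun q hq => ?_).symm
    by_contra hqF
    have h7 : Fx.card + (orb q).card ≤ T.card := by
      rw [← Finset.card_union_of_disjoint (Finset.disjoint_left.2 fun r hr hro => by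
        obtain ⟨i, -, rfl⟩ := Finset.mem_image.1 hro
        simp only [hFx, Finset.mem_filter, Finset.mem_univ, true_and] at hr hqF
        rw [← mul_smul, (Commute.self_pow u i).eq, mul_smul, smul_left_cancel_iff] at hr
        exact hqF hr)]
      exact Finset.card_le_card (Finset.union_subset hTsub (hTu q hq))
    rw [hFx2, horb5 q hqF] at h7
    -- `t` permutes a five element orbit of `u` as a power of `u`
    obtain ⟨r, hr⟩ : ∃ r, t • r ≠ r := by
      refine Classical.byContradiction fun hall => ?_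
      have : σ t = σ 1 := Equiv.ext fun r => by
        show t • r = (1 : G) • r
        rw [one_smul, Classical.byContradiction fun hne => hall ⟨r, hne⟩]
      rw [hinj this, orderOf_one] at ht
      norm_num at ht
    have hrF : r ∉ Fx := fun h => hr (hFfix r h)
    have hdis : Disjoint (orb r) T := Finset.disjoint_left.2 fun w hw hwT => by
      obtain ⟨i, -, rfl⟩ := Finset.mem_image.1 hw
      simp only [hT, Finset.mem_filter, Finset.mem_univ, true_and] at hwT
      rw [← mul_smul, (hut.symm.pow_right i).eq, mul_smul, smul_left_cancel_iff] at hwT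
      exact hr hwT
    have h12 := Finset.card_le_univ (orb r ∪ T)
    rw [Finset.card_union_of_disjoint hdis, horb5 r hrF, hcard12] at h12
    -- the orbit of five is invariant
    have hcover : orb r ∪ T = Finset.univ := Finset.eq_univ_of_card _ (by
      rw [Finset.card_union_of_disjoint hdis, horb5 r hrF, hcard12]; omega)
    have htr : t • r ∈ orb r := by
      have := hcover.ge (Finset.mem_univ (t • r))
      rcases Finset.mem_union.1 this with h | h
      · exact h
      · exfalso
        simp only [hT, Finset.mem_filter, Finset.mem_univ, true_and] at h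
        exact hr (smul_left_cancel t h)
    obtain ⟨i, -, hi⟩ := Finset.mem_image.1 htr
    have h2i : u ^ ((i : ℕ) + i) • r = r := by
      rw [pow_add, mul_smul, hi, ← mul_smul, (hut.pow_left i).eq, mul_smul, hi, ← mul_smul, ht2, one_smul]
    have h5i : 5 ∣ (i : ℕ) + i := hcyc r hrF _ h2i
    refine hr ?_
    rw [← hi, show (i : ℕ) = 0 by have := i.2; omega, pow_zero, one_smul]
  -- so `t` is an odd permutation
  have hsupp : (σ t).support = M := by
    ext q; simp [hM, σ]
  have hsign : Equiv.Perm.sign (σ t) = -1 := by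
    have hinv : σ t * σ t = 1 := by rw [← map_mul, ht2, map_one]
    have hne1 : σ t ≠ 1 := fun e => by
      have : σ t = σ 1 := by rw [e, map_one]
      rw [hinj this, orderOf_one] at ht; norm_num at ht
    have h := Equiv.Perm.sum_cycleType (σ t)
    have h2 : orderOf (σ t) = 2 := orderOf_eq_prime (by rw [sq]; exact hinv) hne1
    obtain ⟨n, hn⟩ := Equiv.Perm.cycleType_prime_order (σ := σ t) (by rw [h2]; exact Nat.prime_two)
    rw [hn, h2, Multiset.sum_replicate, smul_eq_mul, hsupp] at h
    rw [Equiv.Perm.sign_of_cycleType, hn, h2, Multiset.sum_replicate, Multiset.card_replicate, smul_eq_mul,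
      show n + 1 = 5 by rw [hT2, hFx2] at hMT; omega]
    decide
  let g : G →* ℤˣ := Equiv.Perm.sign.comp σ
  rcases g.normal_ker.eq_bot_or_eq_top with h | h
  · exact hG ⟨⟨fun a b => (MonoidHom.ker_eq_bot_iff g).1 h (by rw [map_mul, map_mul, mul_comm])⟩⟩
  · have := MonoidHom.mem_ker.1 (h ▸ mem_top t : t ∈ g.ker)
    simp only [g, MonoidHom.comp_apply, hsign] at this
    exact absurd this (by decide)

/-- Three generators with the character of degree eleven. -/
theorem exists_triple : Nonempty (Triple G) := by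
  classical
  obtain ⟨F⟩ := exists_frame hcard
  obtain ⟨u, t, χ, hu, ht, hut, hk, hN, -, hd, hχu, -, hodd⟩ := exists_deg_eleven hcard F
  obtain ⟨P, hP⟩ := sylow_of_order_eleven hcard F.hx
  have hN55 := (cen_eleven hcard F.hx).2 P hP
  obtain ⟨⟨v, hv⟩, hvo⟩ := exists_prime_orderOf_dvd_card'
    (G := normalizer ((P : Subgroup G) : Set G)) 5 (by rw [hN55]; norm_num)
  rw [Subgroup.orderOf_mk] at hvo
  obtain ⟨Q, hQ⟩ := sylow_of_order_five hcard hvo
  obtain ⟨R, hR⟩ := sylow_of_order_five hcard hu
  obtain ⟨h, hh⟩ := MulAction.exists_smul_eq G Q R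
  have hzU : (zpowers v).map (MulAut.conj h).toMonoidHom = zpowers u := by
    rw [← hR, ← hh, Sylow.coe_subgroup_smul, hQ]; rfl
  obtain ⟨w, hw, hwu⟩ := hzU.ge (mem_zpowers u)
  replace hwu : h * w * h⁻¹ = u := hwu
  rw [hP] at hv
  have hwn : w ∈ normalizer (zpowers F.x : Set G) := zpowers_le.2 hv hw
  set x := h * F.x * h⁻¹ with hxdef
  have hxo : orderOf x = 11 := by rw [hxdef, ← F.hx]; exact MulEquiv.orderOf_eq (MulAut.conj h) F.x
  obtain ⟨r, hr⟩ := mem_powers_iff_mem_zpowers.2 ((mem_normalizer_iff.1 hwn F.x).1 (mem_zpowers F.x))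
  replace hr : F.x ^ r = w * F.x * w⁻¹ := hr
  have hux : u * x * u⁻¹ = x ^ r := by
    rw [hxdef, conj_pow, hr, ← hwu]; group
  have hx11 : x ^ 11 = 1 := hxo ▸ pow_orderOf_eq_one x
  have hpow : ∀ i : ℕ, u ^ i * x * (u ^ i)⁻¹ = x ^ (r ^ i) := by
    intro i
    induction i with
    | zero => simp
    | succ i ih =>
      rw [pow_succ', pow_succ, mul_inv_rev,
        show u * u ^ i * x * ((u ^ i)⁻¹ * u⁻¹) = u * (u ^ i * x * (u ^ i)⁻¹) * u⁻¹ by group, ih,
        ← conj_pow, hux, ← pow_mul, mul_comm r]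
  have hr5 : r ^ 5 % 11 = 1 := by
    have h5 := hpow 5
    rw [show u ^ 5 = 1 from hu ▸ pow_orderOf_eq_one u] at h5
    simp only [one_mul, inv_one, mul_one] at h5
    have := pow_eq_pow_iff_modEq.1 (show x ^ (r ^ 5) = x ^ 1 by rw [← h5, pow_one])
    rw [hxo] at this
    exact this
  have hr1 : r % 11 ≠ 1 := fun h1 => by
    have hc : Commute u x := by
      rw [pow_eq_pow_mod r hx11, h1, pow_one] at hux
      exact mul_inv_eq_iff_eq_mul.1 hux
    have := orderOf_dvd_natCard (⟨u, mem_centralizer_singleton_iff.2 hc.eq⟩ :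
      centralizer ({x} : Set G))
    rw [Subgroup.orderOf_mk, hu, show Nat.card (centralizer ({x} : Set G)) = 11 from
      (cen_eleven hcard hxo).1] at this
    norm_num at this
  obtain ⟨i, hi, hi3⟩ : ∃ i ∈ Finset.range 5, ¬ 5 ∣ i ∧ r ^ i % 11 = 3 := by
    have key : ∀ s ∈ Finset.range 11, s ^ 5 % 11 = 1 → s ≠ 1 →
        ∃ i ∈ Finset.range 5, ¬ 5 ∣ i ∧ s ^ i % 11 = 3 := by decide +kernel
    obtain ⟨i, hi, h5, h3⟩ := key (r % 11) (Finset.mem_range.2 (Nat.mod_lt _ (by norm_num)))
      (by rw [← Nat.pow_mod]; exact hr5) hr1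
    exact ⟨i, hi, h5, by rw [Nat.pow_mod]; exact h3⟩
  obtain ⟨h5, h3⟩ := hi3
  set u' := u ^ i with hu'
  have hu'o : orderOf u' = 5 := by
    rw [hu', Nat.Coprime.orderOf_pow (by
      rw [hu]; exact (Nat.Prime.coprime_iff_not_dvd (by norm_num)).2 h5), hu]
  have hut' : Commute u' t := hut.pow_left i
  have hconj : u' * x * u'⁻¹ = x ^ 3 := by
    rw [hu', hpow i, pow_eq_pow_mod _ hx11, h3]
  have hzeq : zpowers u' = zpowers u := eq_of_le_of_card_ge
    (zpowers_le.2 (pow_mem (mem_zpowers u) i)) (by rw [Nat.card_zpowers, Nat.card_zpowers, hu, hu'o])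
  have hk' : cen u' = 10 := by
    rw [← hk, cen, cen, ← centralizer_closure, ← zpowers_eq_closure, hzeq, zpowers_eq_closure,
      centralizer_closure]
  have hN' : Nat.card (normalizer (zpowers u' : Set G)) = 40 := by rw [hzeq, hN]
  have hχu' : (χ : G → ℂ) u' = 1 := by
    obtain ⟨g, hg⟩ := isConj_iff.1 (isConj_pow hcard hu hk hN h5)
    obtain ⟨n, ρ, hρ, hchar⟩ := χ.2
    rw [← hχu, hu', ← hg, ← hchar, ρ.char_conj]
  refine ⟨⟨x, u', t, χ, hxo, hu'o, ht, hut', hconj, ?_, hd, hχu', hodd⟩⟩
  -- generation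
  set H := closure ({x, u', t} : Set G) with hHdef
  have hxH : x ∈ H := subset_closure (by simp)
  have huH : u' ∈ H := subset_closure (by simp)
  have htH : t ∈ H := subset_closure (by simp)
  obtain ⟨Px, hPx⟩ := sylow_of_order_eleven hcard hxo
  have hNx := (cen_eleven hcard hxo).2 Px hPx
  have hxu : zpowers x ≤ normalizer ((Px : Subgroup G) : Set G) := hPx ▸ le_normalizer
  have hun : u' ∈ normalizer ((Px : Subgroup G) : Set G) := by
    rw [hPx]
    have himg : (zpowers x).map (MulAut.conj u').toMonoidHom ≤ zpowers x := by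
      rw [MonoidHom.map_zpowers, zpowers_le]
      show u' * x * u'⁻¹ ∈ _
      rw [hconj]; exact pow_mem (mem_zpowers x) 3
    have := eq_of_le_of_card_ge himg (by rw [card_map_of_injective (MulAut.conj _).injective])
    rw [mem_normalizer_iff]
    intro z
    constructor
    · intro hz; rw [← this]; exact ⟨z, hz, rfl⟩
    · intro hz
      rw [← this] at hz
      obtain ⟨w', hw', hwz⟩ := hz
      rwa [show w' = z from (MulAut.conj _).injective hwz] at hw'
  set D := normalizer ((Px : Subgroup G) : Set G) ⊓ H with hD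
  have h55 : 55 ∣ Nat.card D := by
    have a := orderOf_dvd_natCard (⟨x, mem_inf.2 ⟨hxu (mem_zpowers x), hxH⟩⟩ : D)
    have b := orderOf_dvd_natCard (⟨u', mem_inf.2 ⟨hun, huH⟩⟩ : D)
    rw [Subgroup.orderOf_mk] at a b
    rw [hxo] at a; rw [hu'o] at b
    exact Nat.Coprime.mul_dvd_of_dvd_of_dvd (by norm_num : Nat.Coprime 11 5) a b
  have hDc : Nat.card D = 55 := Nat.dvd_antisymm (hNx ▸ card_dvd_of_le inf_le_left) h55
  have hxHle : zpowers x ≤ H := zpowers_le.2 hxH
  have hP11 : ∀ Q : Sylow 11 H, Nat.card (Q : Subgroup H) = 11 := fun Q => by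
    obtain ⟨c, hc⟩ : 11 ∣ Nat.card H := by
      have := card_dvd_of_le hxHle; rwa [Nat.card_zpowers, hxo] at this
    have hnd : ¬ 11 ∣ c := fun hd => by
      have h121 : 121 ∣ Nat.card H := by
        obtain ⟨e, rfl⟩ := hd; exact ⟨e, by rw [hc]; ring⟩
      have := h121.trans (card_subgroup_dvd_card H)
      rw [hcard] at this; norm_num at this
    rw [Basic.card_sylow_eq_pow (a := 1) (m := c) (by rw [hc, pow_one]) hnd Q, pow_one]
  obtain ⟨S, hS⟩ : ∃ S : Sylow 11 H, (S : Subgroup H) = (zpowers x).subgroupOf H := by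
    obtain ⟨S, hS⟩ := (IsPGroup.of_card (p := 11) (n := 1) (by
      rw [Nat.card_congr (subgroupOfEquivOfLe hxHle).toEquiv, Nat.card_zpowers, hxo, pow_one]) :
      IsPGroup 11 ((zpowers x).subgroupOf H)).exists_le_sylow
    exact ⟨S, (eq_of_le_of_card_ge hS (by
      rw [hP11 S, Nat.card_congr (subgroupOfEquivOfLe hxHle).toEquiv, Nat.card_zpowers, hxo])).symm⟩
  have hSN : normalizer ((S : Subgroup H) : Set H) = D.subgroupOf H := by
    rw [hS, hD, inf_subgroupOf_right, hPx]
    ext a
    rw [mem_subgroupOf, mem_normalizer_iff, mem_normalizer_iff]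
    constructor
    · intro hh' b
      refine ⟨fun hb => (hh' ⟨b, hxHle hb⟩).1 hb, fun hb => ?_⟩
      have hbH : b ∈ H := by
        have := H.mul_mem (H.mul_mem (H.inv_mem a.2) (hxHle hb)) a.2
        simpa [mul_assoc] using this
      exact (hh' ⟨b, hbH⟩).2 hb
    · intro hh' b
      exact hh' b
  have hHn := Basic.card_normalizer_mul S
  rw [hSN, Nat.card_congr (subgroupOfEquivOfLe (inf_le_right : D ≤ H)).toEquiv, hDc] at hHn
  have hn1 : Nat.card (Sylow 11 H) % 11 = 1 := card_sylow_modEq_one 11 H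
  have hdn : Nat.card (Sylow 11 H) ∣ 1728 := by
    have := card_subgroup_dvd_card H
    rw [← hHn, hcard, show 95040 = 55 * 1728 by norm_num] at this
    exact Nat.dvd_of_mul_dvd_mul_left (by norm_num) this
  have h2 : 2 ∣ Nat.card H := by
    have := orderOf_dvd_natCard (⟨t, htH⟩ : H)
    rwa [Subgroup.orderOf_mk, ht] at this
  have hcases : Nat.card (Sylow 11 H) = 1 ∨ Nat.card (Sylow 11 H) = 12 ∨
      Nat.card (Sylow 11 H) = 144 ∨ Nat.card (Sylow 11 H) = 1728 :=
    dvd_cases (P := fun n => n ∣ 1728 → n % 11 = 1 → n = 1 ∨ n = 12 ∨ n = 144 ∨ n = 1728)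
      (by decide +kernel) (hdn.trans (by norm_num)) hdn hn1
  rcases hcases with e | e | e | e <;> rw [e] at hHn
  · rw [← hHn] at h2; norm_num at h2
  · exact (no_twelve hcard hxo hu'o ht hut' hk' hN' hxH huH htH (by rw [← hHn])).elim
  · refine (no_index_twelve hcard hu'o ht hut' hN' huH htH ?_).elim
    have := card_mul_index H
    rw [← hHn, hcard] at this
    omega
  · exact eq_top_of_card_eq _ (by rw [← hHn, hcard])

end Cfsg.Agent.M12Order
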