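import Cfsg.Agent.Lib.M12Order.SliceScan
import Cfsg.Agent.Lib.M12Order.Descent

/-!
# The involutions commuting with multiplication by three
-/

set_option autoImplicit false
set_option linter.style.haveILetI false

namespace Cfsg.Agent.M12Order.Slice

open Matrix Mod2

/-- The matrix with a given code. -/
def ofCode (c : ℕ) : Matrix (ZMod 11) (ZMod 11) (ZMod 2) :=
  Matrix.of fun i j => bit (posL.getD (11 * i.val + j.val) 0) c

/-- The representative of a class. -/
def repPos (q : ℕ) : ZMod 11 × ZMod 11 :=
  (((repL.getD q 0 / 11 : ℕ) : ZMod 11), ((repL.getD q 0 % 11 : ℕ) : ZMod 11))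

theorem pos_facts : ∀ i j : ZMod 11, posL.getD (11 * i.val + j.val) 0 < 25 ∧
    ∃ r ∈ Finset.range 5, i = 3 ^ r * (repPos (posL.getD (11 * i.val + j.val) 0)).1 ∧
      j = 3 ^ r * (repPos (posL.getD (11 * i.val + j.val) 0)).2 := by
  decide +kernel

theorem threeM_mul {R : Type*} [CommRing R] (A : Matrix (ZMod 11) (ZMod 11) R) (i j : ZMod 11) :
    (threeM R * A) i j = A (4 * i) j := by
  rw [Matrix.mul_apply, Finset.sum_eq_single (4 * i)]
  · rw [threeM, Matrix.of_apply, if_pos (double_facts i).2.1.symm, one_mul]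
  · intro b _ hb
    rw [threeM, Matrix.of_apply, if_neg, zero_mul]
    intro h
    exact hb (by rw [h, (double_facts b).2.2.1])
  · simp

theorem mul_threeM {R : Type*} [CommRing R] (A : Matrix (ZMod 11) (ZMod 11) R) (i j : ZMod 11) :
    (A * threeM R) i j = A i (3 * j) := by
  rw [Matrix.mul_apply, Finset.sum_eq_single (3 * j)]
  · rw [threeM, Matrix.of_apply, if_pos rfl, mul_one]
  · intro b _ hb
    rw [threeM, Matrix.of_apply, if_neg hb, mul_zero]
  · simp

theorem shiftM_mul {R : Type*} [CommRing R] (A : Matrix (ZMod 11) (ZMod 11) R) (i j : ZMod 11) :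
    (shiftM R * A) i j = A (i - 1) j := by
  rw [Matrix.mul_apply, Finset.sum_eq_single (i - 1)]
  · rw [shiftM, Matrix.of_apply, if_pos (sub_add_cancel i 1).symm, one_mul]
  · intro b _ hb
    rw [shiftM, Matrix.of_apply, if_neg, zero_mul]
    intro h
    exact hb (by rw [h, add_sub_cancel_right])
  · simp

theorem shiftM_pow_mul {R : Type*} [CommRing R] (A : Matrix (ZMod 11) (ZMod 11) R) :
    ∀ (n : ℕ) (i j : ZMod 11), (shiftM R ^ n * A) i j = A (i - n) j
  | 0, i, j => by simp
  | n + 1, i, j => by
    rw [pow_succ', Matrix.mul_assoc, shiftM_mul, shiftM_pow_mul A n, Nat.cast_succ, sub_sub,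
      add_comm (1 : ZMod 11)]

theorem exists_bits : ∀ (m : ℕ) (f : ℕ → Bool), ∃ n < 2 ^ m, ∀ q < m, n.testBit q = f q
  | 0, _ => ⟨0, by norm_num, fun q hq => absurd hq (Nat.not_lt_zero q)⟩
  | m + 1, f => by
    obtain ⟨n, hn, hbits⟩ := exists_bits m fun q => f (q + 1)
    refine ⟨2 * n + if f 0 then 1 else 0, by rw [pow_succ]; split_ifs <;> omega, fun q hq => ?_⟩
    rcases q with - | q
    · rw [Nat.testBit_zero]
      cases f 0 <;> simp
    · rw [Nat.testBit_add_one, ← hbits q (by omega)]
      congr 1
      split_ifs <;> omega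

theorem chunkVals_spec {c b q : ℕ} (hq : q < 25) (hb : b < 2 ^ 20) :
    bit b ((chunkVals c).getD q 0) = bit q (c % 32 + 32 * b) := by
  have hcode : (c % 32 + 32 * b).testBit q = if q < 5 then (c % 32).testBit q else b.testBit (q - 5) := by
    rw [add_comm, show 32 * b = 2 ^ 5 * b by norm_num]
    exact Nat.testBit_two_pow_mul_add b (Nat.mod_lt c (by norm_num : 0 < 32)) q
  have hlen : ((List.range 5).map fun q => if c.testBit q then full (2 ^ 20) else 0).length = 5 := by simp
  suffices he : ((chunkVals c).getD q 0).testBit b = (c % 32 + 32 * b).testBit q by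
    show (if _ = true then (1 : ZMod 2) else 0) = if _ = true then 1 else 0
    simp only [he]
  rw [hcode, chunkVals]
  by_cases h : q < 5
  · rw [List.getD_append _ _ _ _ (by rw [hlen]; exact h), if_pos h]
    have hc : (c % 32).testBit q = c.testBit q := by
      rw [show (32 : ℕ) = 2 ^ 5 by norm_num, Nat.testBit_mod_two_pow]; simp [h]
    rw [hc, List.getD_eq_getElem _ _ (by rw [hlen]; exact h), List.getElem_map, List.getElem_range]
    cases c.testBit q
    · simp
    · simpa using testBit_full hb
  · rw [List.getD_append_right _ _ _ _ (by rw [hlen]; omega), hlen, if_neg h,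
      List.getD_eq_getElem _ _ (by simp; omega), List.getElem_map, List.getElem_range,
      patBit_spec (by omega) hb]

theorem isTab_idm (n : ℕ) : IsTab (idm n) := ⟨fun i j => if i = j then n else 0, rfl⟩

theorem isTab_rot (a : ℕ) (v : List ℕ) : IsTab (rot a v) :=
  ⟨fun i j => v.getD (posL.getD (11 * ((i + (11 - a)) % 11) + j) 0) 0, rfl⟩

theorem isTab_wordMat (v : List ℕ) : ∀ w : List ℕ, IsTab (wordMat v w)
  | [] => by rw [wordMat]; exact isTab_idm _
  | [a] => by rw [wordMat]; exact isTab_rot a v
  | a :: a' :: w => by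
    rw [wordMat, forceMat_eq, forceMat_eq]
    · exact IsTab.mm (isTab_rot a v) (isTab_wordMat v (a' :: w))
    · simp

/-- The product of a word. -/
def wordProd (S : Matrix (ZMod 11) (ZMod 11) (ZMod 2)) (w : List ℕ) :
    Matrix (ZMod 11) (ZMod 11) (ZMod 2) :=
  (w.map fun a => shiftM (ZMod 2) ^ a * S).prod

/-- The survivors of the search. -/
theorem mem_finalCodes (S : Matrix (ZMod 11) (ZMod 11) (ZMod 2))
    (hcomm : threeM (ZMod 2) * S = S * threeM (ZMod 2)) (h2 : S * S = 1)
    (hiff : (∀ m, ∑ n, S m n = 1) ↔ (∀ n, ∑ m, S m n = 1))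
    (hord : ∀ w ∈ wordList, wordProd S w ^ 11 = 1 ∨ wordProd S w ^ 10 = 1 ∨ wordProd S w ^ 1728 = 1) :
    ∃ c ∈ finalCodes, S = ofCode c := by
  classical
  have hinv : ∀ i j, S (3 * i) (3 * j) = S i j := fun i j => by
    have h := congrFun (congrFun hcomm (3 * i)) j
    rw [threeM_mul, mul_threeM, (double_facts i).2.2.1] at h
    exact h.symm
  have hinv' : ∀ (r : ℕ) i j, S (3 ^ r * i) (3 ^ r * j) = S i j := by
    intro r
    induction r with
    | zero => simp
    | succ r ih =>
      intro i j
      rw [pow_succ', mul_assoc, mul_assoc, hinv, ih]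
  let f : ℕ → Bool := fun q => decide (S (repPos q).1 (repPos q).2 = 1)
  obtain ⟨c, hc, hcb⟩ := exists_bits 5 f
  obtain ⟨b, hb, hbb⟩ := exists_bits 20 fun q => f (q + 5)
  set code := c % 32 + 32 * b with hcode
  have hc32 : c % 32 = c := Nat.mod_eq_of_lt (by simpa using hc)
  have hentry : ∀ i j : ZMod 11, bit (posL.getD (11 * i.val + j.val) 0) code = S i j := by
    intro i j
    obtain ⟨hq, r, -, hi, hj⟩ := pos_facts i j
    set q := posL.getD (11 * i.val + j.val) 0
    have hS : S i j = S (repPos q).1 (repPos q).2 := by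
      conv_lhs => rw [hi, hj, hinv']
    have hf : code.testBit q = f q := by
      rw [hcode, add_comm, show 32 * b = 2 ^ 5 * b by norm_num,
        Nat.testBit_two_pow_mul_add b (by rw [hc32]; exact hc) q]
      split_ifs with h5
      · rw [hc32, hcb q h5]
      · rw [hbb (q - 5) (by omega), show q - 5 + 5 = q by omega]
    rw [hS]
    simp only [bit, hf, f]
    have key : ∀ z : ZMod 2, (if decide (z = 1) then (1 : ZMod 2) else 0) = z := by decide
    exact key _
  have hScode : S = ofCode code := Matrix.ext fun i j => (hentry i j).symm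
  -- the first scan
  have hsem : sem b (smat (chunkVals c)) = S := by
    ext i j
    rw [smat, sem_tab, chunkVals_spec (pos_facts i j).1 hb]
    exact hentry i j
  have hgood : (good (2 ^ 20) (smat (chunkVals c))).testBit b = true :=
    good_true hb ⟨_, rfl⟩ (by rw [hsem, h2]) (by rw [hsem]; exact hiff)
  have hchunk : good (2 ^ 20) (smat (chunkVals c)) = ofList (sols.getD c []) := by
    have h := List.all_eq_true.1 chunks_ok c (List.mem_range.2 (by simpa using hc))
    rw [chunkOK, forceList_eq, forceMat_eq] at h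
    exact Nat.eq_of_beq_eq_true h
  rw [hchunk] at hgood
  have hmem : code ∈ codes := by
    rw [codes, List.mem_flatMap]
    exact ⟨c, List.mem_range.2 (by simpa using hc), List.mem_map.2 ⟨b, mem_of_ofList hgood, by rw [hcode, hc32]⟩⟩
  obtain ⟨i, hi, hie⟩ := List.getElem_of_mem hmem
  have hco := codes_ok
  rw [codesOK, Bool.and_eq_true, beq_iff_eq, beq_iff_eq] at hco
  have hi' : i < 2560 := hco.1 ▸ hi
  -- the second scan
  set v := (List.range 25).map fun q => slice q codes with hv
  have hval : ∀ i' j' : ZMod 11, bit i (v.getD (posL.getD (11 * i'.val + j'.val) 0) 0) = S i' j' := by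
    intro i' j'
    rw [← hentry i' j', List.getD_eq_getElem _ _ (by simpa [hv] using (pos_facts i' j').1)]
    simp only [hv, List.getElem_map, List.getElem_range, bit, testBit_slice _ _ _ hi, hie]
  have hrot : ∀ a : ℕ, a ≤ 11 → sem i (rot a v) = shiftM (ZMod 2) ^ a * S := by
    intro a ha
    ext i' j'
    rw [rot, sem_tab, shiftM_pow_mul, ← hval]
    congr 4
    rw [show (i'.val + (11 - a)) % 11 = ((i'.val + (11 - a) : ℕ) : ZMod 11).val from
      (ZMod.val_natCast 11 _).symm]
    congr 1
    rw [Nat.cast_add, ZMod.natCast_zmod_val, Nat.cast_sub ha, ZMod.natCast_self, zero_sub,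
      sub_eq_add_neg]
  have hword : ∀ w : List ℕ, w ≠ [] → (∀ a ∈ w, a ≤ 11) → sem i (wordMat v w) = wordProd S w := by
    intro w
    induction w with
    | nil => intro h; exact absurd rfl h
    | cons a w ih =>
      intro _ hle
      rcases w with - | ⟨a', w'⟩
      · rw [wordMat, hrot a (hle a (List.mem_cons_self ..))]
        simp [wordProd]
      · rw [wordMat, forceMat_eq, forceMat_eq, sem_mm i (B := wordMat v (a' :: w')) (isTab_rot a v)
          (isTab_wordMat v _), hrot a (hle a (List.mem_cons_self ..)),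
          ih (by simp) fun x hx => hle x (List.mem_cons_of_mem _ hx)]
        · rfl
        · simp
  have hok := words_ok
  rw [wordsOK, forceList_eq] at hok
  have hwe := Nat.eq_of_beq_eq_true hok
  have halive : (ofList survivors).testBit i = true := by
    rw [← hwe, testBit_andFold hi']
    intro x hx
    obtain ⟨w, hw, rfl⟩ := List.mem_map.1 hx
    rw [forceMat_eq, Nat.testBit_xor, testBit_full hi']
    have hne : w ≠ [] ∧ ∀ a ∈ w, a ≤ 11 := by
      have : ∀ w ∈ wordList, w ≠ [] ∧ ∀ a ∈ w, a ≤ 11 := by decide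
      exact this w hw
    rw [wordBad_false hi' (isTab_wordMat v w) (by rw [hword w hne.1 hne.2]; exact hord w hw)]
    rfl
  refine ⟨code, ?_, hScode⟩
  rw [← hco.2, List.mem_map]
  exact ⟨i, mem_of_ofList halive, by rw [List.getD_eq_getElem _ _ hi, hie]⟩

end Cfsg.Agent.M12Order.Slice
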