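import Cfsg.Agent.Lib.M12Order.Model
import Cfsg.Agent.Lib.M12Order.SliceMain

/-!
# Simple groups of order 95040 are isomorphic
-/

set_option autoImplicit false
set_option linter.style.haveILetI false
set_option linter.unusedSectionVars false

namespace Cfsg.Agent.M12Order.Identify

open Matrix Mod2 Slice

universe u v

/-- The normal form of the involution. -/
def target : ℕ := 11161185

/-- A vector as a number. -/
def encode (f : ZMod 11 → ZMod 2) : ℕ :=
  (List.range 11).foldr (fun (i : ℕ) (s : ℕ) => (if f ((i : ℕ) : ZMod 11) = 1 then 1 else 0) + 2 * s) 0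

/-- A number as a vector. -/
def vec (n : ℕ) : ZMod 11 → ZMod 2 := fun i => bit i.val n

theorem vec_encode (f : ZMod 11 → ZMod 2) : vec (encode f) = f := by
  funext i
  have hi := ZMod.val_lt i
  have key : ∀ (m s : ℕ) (g : ℕ → ℕ), (∀ k, g k ≤ 1) → ∀ j < m,
      (((List.range' s m).foldr (fun k a => g k + 2 * a) 0).testBit j = decide (g (s + j) = 1)) := by
    intro m
    induction m with
    | zero => intro s g hg j hj; exact absurd hj (Nat.not_lt_zero j)
    | succ m ih =>
      intro s g hg j hj
      rw [List.range'_succ, List.foldr_cons]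
      have := hg s
      rcases j with - | j
      · rw [Nat.testBit_zero, Nat.add_mul_mod_self_left, add_zero]
        interval_cases (g s) <;> rfl
      · rw [Nat.testBit_add_one, ← show s + 1 + j = s + (j + 1) by omega, ← ih (s + 1) g hg j (by omega)]
        congr 1
        omega
  have h := key 11 0 (fun k => if f (k : ZMod 11) = 1 then 1 else 0) (fun k => by split_ifs <;> omega) i.val hi
  rw [← List.range_eq_range', zero_add, ZMod.natCast_zmod_val] at h
  show bit i.val (encode f) = f i
  simp only [bit, encode, h]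
  have key2 : ∀ z : ZMod 2, (if decide ((if z = 1 then 1 else 0 : ℕ) = 1) then (1 : ZMod 2) else 0) = z := by
    decide
  exact key2 (f i)

/-- The image of a vector. -/
def app (M : Matrix (ZMod 11) (ZMod 11) (ZMod 2)) (n : ℕ) : ℕ := encode (M *ᵥ vec n)

theorem vec_app (M : Matrix (ZMod 11) (ZMod 11) (ZMod 2)) (n : ℕ) : vec (app M n) = M *ᵥ vec n :=
  vec_encode _

/-- The first orbit. -/
def orbitA : List ℕ := [
  47, 94, 115, 155, 188, 213, 230, 233, 285, 310, 331, 357, 376, 391, 426, 433, 460, 466, 565,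
  570, 583, 601, 620, 653, 662, 675, 714, 752, 782, 787, 809, 852, 866, 920, 932, 961, 1047,
  1081, 1101, 1130, 1140, 1166, 1189, 1202, 1219, 1240, 1306, 1315, 1324, 1350, 1361, 1417, 1428,
  1504, 1547, 1564, 1574, 1618, 1633, 1681, 1704, 1732, 1797, 1840, 1864, 1922]

/-- The second orbit. -/
def orbitB : List ℕ := [
  1, 2, 4, 8, 16, 32, 64, 128, 256, 511, 512, 767, 895, 959, 991, 1007, 1015, 1019, 1021, 1022,
  1024, 1279, 1407, 1471, 1503, 1519, 1527, 1531, 1533, 1534, 1663, 1727, 1759, 1775, 1783, 1787,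
  1789, 1790, 1855, 1887, 1903, 1911, 1915, 1917, 1918, 1951, 1967, 1975, 1979, 1981, 1982, 1999,
  2007, 2011, 2013, 2014, 2023, 2027, 2029, 2030, 2035, 2037, 2038, 2041, 2042, 2044]

/-- An invariant set moved by the involution. -/
def orbitOK (c : ℕ) (L : List ℕ) (v0 : ℕ) : Bool :=
  decide (v0 ∈ L) &&
  (L.all fun v => decide (app (shiftM (ZMod 2)) v ∈ L) && decide (app (threeM (ZMod 2)) v ∈ L) &&
    decide (app (ofCode c) (app (shiftM (ZMod 2)) (app (ofCode c) v)) ∈ L)) &&
  (L.all fun v => decide (app (ofCode c) v0 % 2048 ≠ v % 2048))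

theorem orbit_one : orbitOK 15616577 orbitA 47 = true := by decide +kernel

theorem orbit_two : orbitOK 21319046 orbitB 1 = true := by decide +kernel

theorem orbit_three : orbitOK 5550712 orbitB 1 = true := by decide +kernel

theorem inverts : ∀ c ∈ [4456449, 3716678, 25381304], ∀ i j : ZMod 11,
    (∑ l, ofCode c (i - 1) l * ofCode c (l - 1) j) = if i = j then 1 else 0 := by
  decide +kernel

theorem trivial_code : ∀ i j : ZMod 11,
    bit (posL.getD (11 * i.val + j.val) 0) 1057 = if i = j then 1 else 0 := by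
  decide +kernel

/-- A circulant with values on the squares and on the other nonzero differences. -/
def circFun (a b c : ZMod 2) (i j : ZMod 11) : ZMod 2 :=
    if i = j then a else if (i - j = 1 ∨ i - j = 3 ∨ i - j = 4 ∨ i - j = 5 ∨ i - j = 9) then b else c

/-- The circulant matrix. -/
def circ (a b c : ZMod 2) : Matrix (ZMod 11) (ZMod 11) (ZMod 2) := Matrix.of (circFun a b c)

theorem circ_facts : ∀ p ∈ ([((1, 0, 0), (1, 0, 0)), ((0, 1, 0), (0, 0, 1)), ((0, 0, 1), (0, 1, 0))] :
      List ((ZMod 2 × ZMod 2 × ZMod 2) × ZMod 2 × ZMod 2 × ZMod 2)), ∀ i j : ZMod 11,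
    (∑ l, circFun p.1.1 p.1.2.1 p.1.2.2 i l * circFun p.2.1 p.2.2.1 p.2.2.2 l j) = (if i = j then 1 else 0) ∧
    circFun p.1.1 p.1.2.1 p.1.2.2 (i + 1) (j + 1) = circFun p.1.1 p.1.2.1 p.1.2.2 i j ∧
    circFun p.1.1 p.1.2.1 p.1.2.2 (3 * i) (3 * j) = circFun p.1.1 p.1.2.1 p.1.2.2 i j := by
  decide +kernel

theorem circ_conj : ∀ p ∈ ([(11161185, 1, 0, 0), (25034721, 0, 1, 0), (30932961, 0, 0, 1)] :
      List (ℕ × ZMod 2 × ZMod 2 × ZMod 2)), ∀ i j : ZMod 11,
    (∑ l, circ p.2.1 p.2.2.1 p.2.2.2 i l * ofCode p.1 l j) =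
      ∑ l, ofCode target i l * circ p.2.1 p.2.2.1 p.2.2.2 l j := by
  decide +kernel

theorem mul_shiftM {R : Type*} [CommRing R] (A : Matrix (ZMod 11) (ZMod 11) R) (i j : ZMod 11) :
    (A * shiftM R) i j = A i (j + 1) := by
  rw [Matrix.mul_apply, Finset.sum_eq_single (j + 1)]
  · rw [shiftM, Matrix.of_apply, if_pos rfl, mul_one]
  · intro b _ hb
    rw [shiftM, Matrix.of_apply, if_neg hb, mul_zero]
  · simp

variable {G : Type u} [Group G] [Finite G] [IsSimpleGroup G] (hcard : Nat.card G = 95040)

include hcard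

theorem orbit_false {φ : G →* Matrix (ZMod 11) (ZMod 11) (ZMod 2)} {x u t : G}
    (hx : φ x = shiftM _) (hu : φ u = threeM _) (hgen : Subgroup.closure ({x, u, t} : Set G) = ⊤)
    (ht : t * t = 1) (hut : Commute u t) {c : ℕ} (hc : φ t = ofCode c) {L : List ℕ} {v0 : ℕ}
    (hOK : orbitOK c L v0 = true) (hx1 : x ≠ 1) : False := by
  classical
  simp only [orbitOK, Bool.and_eq_true, decide_eq_true_eq, List.all_eq_true] at hOK
  obtain ⟨⟨hv0, hall⟩, hout⟩ := hOK
  have htt : ∀ g : G, t * (t * g) = g := fun g => by rw [← mul_assoc, ht, one_mul]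
  have hti : t⁻¹ = t := inv_eq_of_mul_eq_one_right ht
  set H : Subgroup G := Subgroup.closure ({x, u, t * x * t} : Set G)
  have hxH : x ∈ H := Subgroup.subset_closure (by simp)
  have huH : u ∈ H := Subgroup.subset_closure (by simp)
  have hyH : t * x * t ∈ H := Subgroup.subset_closure (by simp)
  have hmap : H.map (MulAut.conj t).toMonoidHom ≤ H := by
    rw [MonoidHom.map_closure, Subgroup.closure_le]
    rintro _ ⟨w, hw, rfl⟩
    simp only [Set.mem_insert_iff, Set.mem_singleton_iff] at hw
    show t * w * t⁻¹ ∈ H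
    rw [hti]
    rcases hw with rfl | rfl | rfl
    · exact hyH
    · rw [← hut.eq, mul_assoc, ht, mul_one]; exact huH
    · rw [show t * (t * x * t) * t = t * (t * x) * (t * t) by simp only [mul_assoc], htt, ht, mul_one]
      exact hxH
  have htN : t ∈ Subgroup.normalizer (H : Set G) := by
    rw [Subgroup.mem_normalizer_iff]
    intro h
    constructor
    · intro hh; exact hmap ⟨h, hh, rfl⟩
    · intro hh
      have := hmap ⟨_, hh, rfl⟩
      change t * (t * h * t⁻¹) * t⁻¹ ∈ H at this
      rwa [hti, show t * (t * h * t) * t = t * (t * h) * (t * t) by simp only [mul_assoc], htt, ht,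
        mul_one] at this
  haveI hn : H.Normal := by
    rw [← Subgroup.normalizer_eq_top_iff, eq_top_iff, ← hgen, Subgroup.closure_le]
    intro w hw
    simp only [Set.mem_insert_iff, Set.mem_singleton_iff] at hw
    rcases hw with rfl | rfl | rfl
    · exact Subgroup.le_normalizer hxH
    · exact Subgroup.le_normalizer huH
    · exact htN
  have htop : H = ⊤ := (IsSimpleGroup.eq_bot_or_eq_top_of_normal H hn).resolve_left fun e =>
    hx1 (Subgroup.mem_bot.1 (e ▸ hxH))
  -- the invariant set
  let M : Submonoid G :=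
    { carrier := {g | ∀ v ∈ L, ∃ w ∈ L, φ g *ᵥ vec v = vec w}
      one_mem' := fun v hv => ⟨v, hv, by rw [map_one, Matrix.one_mulVec]⟩
      mul_mem' := fun {a b} ha hb v hv => by
        obtain ⟨w, hw, e⟩ := hb v hv
        obtain ⟨w', hw', e'⟩ := ha w hw
        exact ⟨w', hw', by rw [map_mul, ← Matrix.mulVec_mulVec, e, e']⟩ }
  have hle : H.toSubmonoid ≤ M := by
    rw [Subgroup.closure_toSubmonoid_of_finite, Submonoid.closure_le]
    intro w hw v hv
    simp only [Set.mem_insert_iff, Set.mem_singleton_iff] at hw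
    rcases hw with rfl | rfl | rfl
    · exact ⟨_, (hall v hv).1.1, by rw [hx, vec_app]⟩
    · exact ⟨_, (hall v hv).1.2, by rw [hu, vec_app]⟩
    · refine ⟨_, (hall v hv).2, ?_⟩
      rw [map_mul, map_mul, hx, hc, vec_app, vec_app, vec_app, Matrix.mulVec_mulVec,
        Matrix.mulVec_mulVec]
  obtain ⟨w, hw, e⟩ := hle (show t ∈ H.toSubmonoid by rw [htop]; exact Subgroup.mem_top t) v0 hv0
  rw [hc, ← vec_app] at e
  refine hout w hw (Nat.eq_of_testBit_eq fun i => ?_)
  rw [show (2048 : ℕ) = 2 ^ 11 by norm_num, Nat.testBit_mod_two_pow, Nat.testBit_mod_two_pow]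
  by_cases hi : i < 11
  · have := congrFun e (i : ZMod 11)
    simp only [vec, bit, ZMod.val_natCast_of_lt hi] at this
    simp only [hi, decide_true, Bool.true_and]
    cases h1 : (app (ofCode c) v0).testBit i <;> cases h2 : w.testBit i <;> simp [h1, h2] at this ⊢
  · simp [hi]

/-- Three standard matrices generate a faithful image. -/
theorem exists_standard : ∃ (φ : G →* Matrix (ZMod 11) (ZMod 11) (ZMod 2)),
    Function.Injective φ ∧
    MonoidHom.mrange φ = Submonoid.closure ({shiftM _, threeM _, ofCode target} :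
      Set (Matrix (ZMod 11) (ZMod 11) (ZMod 2))) := by
  classical
  obtain ⟨φ, x, u, t, hinj, hx, hu, hgen, ht, hut, hiff⟩ := exists_model hcard
  have ht2 : t * t = 1 := by rw [← pow_two, ← ht]; exact pow_orderOf_eq_one t
  have hx1 : x ≠ 1 := by
    rintro rfl
    rw [map_one] at hx
    have := congrFun (congrFun hx 1) 0
    simp [shiftM] at this
  have hord : ∀ w ∈ wordList, wordProd (φ t) w ^ 11 = 1 ∨ wordProd (φ t) w ^ 10 = 1 ∨
      wordProd (φ t) w ^ 1728 = 1 := by
    intro w _
    have : wordProd (φ t) w = φ ((w.map fun a => x ^ a * t).prod) := by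
      rw [map_list_prod, List.map_map, wordProd]
      congr 1
      refine List.map_congr_left fun a _ => ?_
      rw [Function.comp_apply, map_mul, map_pow, hx]
    rw [this, ← map_pow, ← map_pow, ← map_pow]
    rcases order_cases hcard ((w.map fun a => x ^ a * t).prod) with h | h | h <;> simp [h]
  obtain ⟨c, hc, hS⟩ := mem_finalCodes (φ t) (by rw [← hu, ← map_mul, ← map_mul, hut.eq])
    (by rw [← map_mul, ht2, map_one]) hiff hord
  have hone : c ≠ 1057 := by
    rintro rfl
    have h1 : φ t = 1 := by
      rw [hS]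
      exact Matrix.ext fun i j => (trivial_code i j).trans Matrix.one_apply.symm
    have : t = 1 := hinj (by rw [h1, map_one])
    rw [this, orderOf_one] at ht
    exact absurd ht (by norm_num)
  have hinvt : c ∉ [4456449, 3716678, 25381304] := by
    intro hm
    have h1 : φ (x * t * (x * t)) = φ 1 := by
      rw [map_mul, map_mul, map_one, hx, hS]
      ext i j
      rw [Matrix.mul_apply, Matrix.one_apply, ← inverts c hm i j]
      exact Finset.sum_congr rfl fun l _ => by rw [shiftM_mul, shiftM_mul]
    have h2 := hinj h1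
    have htx : t * x * t⁻¹ = x⁻¹ := by
      rw [inv_eq_of_mul_eq_one_right ht2]
      refine eq_inv_of_mul_eq_one_right ?_
      rw [← h2]
      simp only [mul_assoc]
    have hux : u * x * u⁻¹ ∈ Subgroup.zpowers x := by
      have h3 : φ (u * x) = φ (x ^ 3 * u) := by
        rw [map_mul, map_mul, map_pow, hx, hu]
        ext i j
        rw [threeM_mul, shiftM_pow_mul, threeM, shiftM, Matrix.of_apply, Matrix.of_apply]
        refine if_congr ⟨fun e => ?_, fun e => ?_⟩ rfl rfl
        · rw [show i = 3 * (4 * i) from (double_facts i).2.1.symm, e, Nat.cast_ofNat]; ring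
        · rw [Nat.cast_ofNat, sub_eq_iff_eq_add] at e
          rw [e, show (4 : ZMod 11) * (3 * j + 3) = 4 * (3 * (j + 1)) by ring, (double_facts _).2.2.1]
      rw [hinj h3, mul_inv_cancel_right]
      exact Subgroup.pow_mem _ (Subgroup.mem_zpowers x) 3
    have htop : Subgroup.normalizer (Subgroup.zpowers x : Set G) = ⊤ := by
      rw [eq_top_iff, ← hgen, Subgroup.closure_le]
      intro w hw
      simp only [Set.mem_insert_iff, Set.mem_singleton_iff] at hw
      have conj_le : ∀ g : G, g * x * g⁻¹ ∈ Subgroup.zpowers x →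
          g ∈ Subgroup.normalizer (Subgroup.zpowers x : Set G) := by
        intro g hg
        have him : (Subgroup.zpowers x).map (MulAut.conj g).toMonoidHom = Subgroup.zpowers x := by
          refine Subgroup.eq_of_le_of_card_ge ?_ ?_
          · rw [MonoidHom.map_zpowers, Subgroup.zpowers_le]; exact hg
          · rw [Subgroup.card_map_of_injective (MulAut.conj g).injective]
        rw [Subgroup.mem_normalizer_iff]
        intro h
        constructor
        · intro hh; rw [← him]; exact ⟨h, hh, rfl⟩
        · intro hh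
          rw [← him] at hh
          obtain ⟨h', hh', e⟩ := hh
          rwa [← (MulAut.conj g).injective e]
      rcases hw with rfl | rfl | rfl
      · exact conj_le _ (by rw [mul_inv_cancel_right]; exact Subgroup.mem_zpowers _)
      · exact conj_le _ hux
      · exact conj_le _ (by rw [htx]; exact Subgroup.inv_mem _ (Subgroup.mem_zpowers x))
    haveI : (Subgroup.zpowers x).Normal := Subgroup.normalizer_eq_top_iff.1 htop
    have hxo : orderOf x ∣ 11 := by
      refine orderOf_dvd_iff_pow_eq_one.2 (hinj ?_)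
      rw [map_pow, map_one, hx, ← Matrix.mul_one (shiftM (ZMod 2) ^ 11)]
      ext i j
      rw [shiftM_pow_mul, ZMod.natCast_self, sub_zero]
    rcases IsSimpleGroup.eq_bot_or_eq_top_of_normal (Subgroup.zpowers x) inferInstance with e | e
    · exact hx1 (Subgroup.zpowers_eq_bot.1 e)
    · have := congrArg (fun H : Subgroup G => Nat.card H) e
      simp only [Nat.card_zpowers, Subgroup.card_top, hcard] at this
      rw [this] at hxo
      exact absurd (Nat.le_of_dvd (by norm_num) hxo) (by norm_num)
  have horb : c ∉ [15616577, 21319046, 5550712] := by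
    intro hm
    simp only [List.mem_cons, List.not_mem_nil, or_false] at hm
    rcases hm with rfl | rfl | rfl
    · exact orbit_false hcard hx hu hgen ht2 hut hS orbit_one hx1
    · exact orbit_false hcard hx hu hgen ht2 hut hS orbit_two hx1
    · exact orbit_false hcard hx hu hgen ht2 hut hS orbit_three hx1
  have hthree : ∃ p : ZMod 2 × ZMod 2 × ZMod 2, ∃ q : ZMod 2 × ZMod 2 × ZMod 2,
      (p, q) ∈ ([((1, 0, 0), (1, 0, 0)), ((0, 1, 0), (0, 0, 1)), ((0, 0, 1), (0, 1, 0))] :
        List ((ZMod 2 × ZMod 2 × ZMod 2) × ZMod 2 × ZMod 2 × ZMod 2)) ∧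
      (c, p) ∈ ([(11161185, 1, 0, 0), (25034721, 0, 1, 0), (30932961, 0, 0, 1)] :
        List (ℕ × ZMod 2 × ZMod 2 × ZMod 2)) := by
    simp only [finalCodes, List.mem_cons, List.not_mem_nil, or_false] at hc
    simp only [List.mem_cons, List.not_mem_nil, or_false, not_or] at hinvt horb
    rcases hc with rfl | rfl | rfl | rfl | rfl | rfl | rfl | rfl | rfl | rfl <;>
      first
        | exact absurd rfl hone
        | exact absurd rfl hinvt.1
        | exact absurd rfl hinvt.2.1
        | exact absurd rfl hinvt.2.2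
        | exact absurd rfl horb.1
        | exact absurd rfl horb.2.1
        | exact absurd rfl horb.2.2
        | exact ⟨(1, 0, 0), (1, 0, 0), by decide, by decide⟩
        | exact ⟨(0, 1, 0), (0, 0, 1), by decide, by decide⟩
        | exact ⟨(0, 0, 1), (0, 1, 0), by decide, by decide⟩
  obtain ⟨p, q, hpq, hcp⟩ := hthree
  set C := circ p.1 p.2.1 p.2.2
  set D := circ q.1 q.2.1 q.2.2
  have hCD : C * D = 1 := Matrix.ext fun i j => by
    rw [Matrix.mul_apply, Matrix.one_apply]; exact (circ_facts _ hpq i j).1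
  have hDC : D * C = 1 := mul_eq_one_comm.1 hCD
  have hCS : C * φ t = ofCode target * C := Matrix.ext fun i j => by
    rw [hS, Matrix.mul_apply, Matrix.mul_apply]; exact circ_conj _ hcp i j
  have hCX : C * shiftM _ = shiftM _ * C := Matrix.ext fun i j => by
    rw [mul_shiftM, shiftM_mul]
    have h := (circ_facts _ hpq (i - 1) j).2.1
    rw [sub_add_cancel] at h
    exact h
  have hCU : C * threeM _ = threeM _ * C := Matrix.ext fun i j => by
    rw [mul_threeM, threeM_mul]
    have h := (circ_facts _ hpq (4 * i) j).2.2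
    rw [(double_facts i).2.1] at h
    exact h
  let ψ : G →* Matrix (ZMod 11) (ZMod 11) (ZMod 2) :=
    { toFun := fun g => C * φ g * D
      map_one' := by rw [map_one, Matrix.mul_one, hCD]
      map_mul' := fun a b => by
        rw [map_mul, show C * φ a * D * (C * φ b * D) = C * φ a * (D * C) * φ b * D by
          simp only [Matrix.mul_assoc], hDC, Matrix.mul_one]
        simp only [Matrix.mul_assoc] }
  have hψ : ψ x = shiftM _ ∧ ψ u = threeM _ ∧ ψ t = ofCode target := by
    refine ⟨?_, ?_, ?_⟩
    · show C * φ x * D = _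
      rw [hx, hCX, Matrix.mul_assoc, hCD, Matrix.mul_one]
    · show C * φ u * D = _
      rw [hu, hCU, Matrix.mul_assoc, hCD, Matrix.mul_one]
    · show C * φ t * D = _
      rw [hCS, Matrix.mul_assoc, hCD, Matrix.mul_one]
  refine ⟨ψ, fun a b h => hinj ?_, ?_⟩
  · have h' : D * (C * φ a * D) * C = D * (C * φ b * D) * C := by
      change D * (ψ a) * C = D * (ψ b) * C
      rw [h]
    simpa only [← Matrix.mul_assoc, hDC, Matrix.one_mul, Matrix.mul_assoc _ D C, Matrix.mul_one] using h'
  · rw [MonoidHom.mrange_eq_map, ← Subgroup.top_toSubmonoid, ← hgen,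
      Subgroup.closure_toSubmonoid_of_finite, MonoidHom.map_mclosure, Set.image_insert_eq,
      Set.image_insert_eq, Set.image_singleton, hψ.1, hψ.2.1, hψ.2.2]

omit hcard

/-- Two simple groups of order 95040 are isomorphic. -/
theorem nonempty_equiv {K : Type v} [Group K] [Finite K] [IsSimpleGroup K]
    (hG : Nat.card G = 95040) (hK : Nat.card K = 95040) : Nonempty (G ≃* K) := by
  obtain ⟨f, hf, hfr⟩ := exists_standard hG
  obtain ⟨g, hg, hgr⟩ := exists_standard hK
  exact ⟨(MulEquiv.ofLeftInverse' f (Function.leftInverse_invFun hf)).trans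
    ((MulEquiv.submonoidCongr (hfr.trans hgr.symm)).trans
      (MulEquiv.ofLeftInverse' g (Function.leftInverse_invFun hg)).symm)⟩

end Cfsg.Agent.M12Order.Identify
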