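import Cfsg.Agent.BlocksChars.HalfDegree.Reduce

/-!
# Reduction modulo `p` when the exponent is divisible by a higher power of `p`
-/

set_option autoImplicit false
set_option linter.style.haveILetI false
set_option linter.unusedSectionVars false

namespace Cfsg.Agent.M12Order.Modular

open Cfsg.Agent.Characters Cfsg.Agent.Blocks Cfsg.Agent.Blocks.PrimeBlock

universe u

variable {p : ℕ} {M : Ideal Cfsg.AlgInt}

/-- Adjoining a root of unity of prime power order gives the uniformiser `1 - ζ`. -/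
theorem exists_unif (hM : Cfsg.IsPModular p M) {m a : ℕ} (hm : ¬ p ∣ m) {ξ : ℂ}
    (hξ : IsPrimitiveRoot ξ (m * p ^ (a + 1))) (hA : ∀ x ∈ cycAlg ξ, IsIntegral ℤ x) :
    IsUnif hM (cycAlg ξ) hA
      ⟨1 - ξ ^ m, subset_localSub hM _ hA (sub_mem (one_mem _) (pow_mem (self_mem_cycAlg ξ) m))⟩ := by
  have hp := hM.1
  set ζ := ξ ^ m with hζdef
  have hζA : ζ ∈ cycAlg ξ := pow_mem (self_mem_cycAlg ξ) m
  have hm0 : m ≠ 0 := fun h => hm (h ▸ dvd_zero p)
  have hpos : 0 < m * p ^ (a + 1) := Nat.mul_pos (Nat.pos_of_ne_zero hm0) (pow_pos hp.pos _)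
  have hζ : IsPrimitiveRoot ζ (p ^ (a + 1)) := hξ.pow hpos rfl
  have hζp : ζ ^ p ^ (a + 1) = 1 := hζ.pow_eq_one
  have hω : IsPrimitiveRoot (ζ ^ p ^ a) p := hζ.pow (pow_pos hp.pos _) (pow_succ p a)
  have hgeom : ∀ i : ℕ, ∃ y ∈ cycAlg ξ, 1 - ζ ^ i = (1 - ζ) * y := fun i =>
    ⟨∑ j ∈ Finset.range i, ζ ^ j, sum_mem fun j _ => pow_mem hζA j, (mul_neg_geom_sum ζ i).symm⟩
  have hpπ : ∃ y ∈ cycAlg ξ, (p : ℂ) = (1 - ζ) * y := by
    choose g hg hge using hgeom
    refine ⟨∑ i ∈ Finset.range p, g (p ^ a * i), sum_mem fun i _ => hg _, ?_⟩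
    rw [Finset.mul_sum, ← Finset.sum_congr rfl fun i _ => hge (p ^ a * i), Finset.sum_sub_distrib]
    simp only [pow_mul, hω.geom_sum_eq_zero hp.one_lt]
    simp
  have hcop : p.Coprime m := hp.coprime_iff_not_dvd.2 hm
  set f := m.totient
  have hf : 0 < f := Nat.totient_pos.2 (Nat.pos_of_ne_zero hm0)
  refine ⟨?_, ⟨p ^ f, hp.two_le.trans (Nat.le_self_pow hf.ne' p), ?_⟩, ?_⟩
  · show Cfsg.MemLocalIdeal M (1 - ζ)
    exact cong_symm hM (cong_one_of_pow_prime_pow hM hζp)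
  · refine cong_frob_of_generator hp rfl (sub_mem (one_mem _) hζA) hpπ ?_
    have h1 : p ^ f ≡ 1 [MOD m] := Nat.ModEq.pow_totient hcop
    obtain ⟨t, ht⟩ := (Nat.modEq_iff_dvd' (Nat.one_le_pow _ _ hp.pos)).1 h1.symm
    obtain ⟨y, hy, hye⟩ := hgeom t
    refine ⟨-(ξ * y), neg_mem (mul_mem (self_mem_cycAlg ξ) hy), ?_⟩
    rw [show p ^ f = m * t + 1 by have := Nat.one_le_pow f p hp.pos; omega, pow_succ, pow_mul]
    show ζ ^ t * ξ - ξ = (1 - ζ) * -(ξ * y)
    linear_combination (-ξ) * hye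
  · haveI := Fact.mk hp
    obtain ⟨r, hr⟩ := exists_add_pow_prime_pow_eq hp
      (⟨1 - ζ, sub_mem (one_mem _) hζA⟩ : cycAlg ξ) ⟨ζ, hζA⟩ (a + 1)
    refine ⟨p ^ (a + 1), -((1 - ζ) * ζ * r),
      neg_mem (mul_mem (mul_mem (sub_mem (one_mem _) hζA) hζA) r.2), ?_⟩
    have hr' := congrArg Subtype.val hr
    push_cast at hr'
    rw [sub_add_cancel, one_pow, hζp] at hr'
    show (1 - ζ) ^ p ^ (a + 1) = _
    linear_combination -hr'

/-- A representation over an algebraically closed field whose traces are the reduced values. -/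
theorem exists_reduced (hp : p.Prime) {G : Type u} [Group G] [Finite G] {m a : ℕ}
    (hm : Nat.card G = m * p ^ (a + 1)) (hpm : ¬ p ∣ m) {χ : G → ℂ} (hχ : Cfsg.IsCharacter G χ)
    {n : ℕ} (hn : χ 1 = (n : ℂ)) :
    ∃ (K : Type) (_ : Field K), IsAlgClosed K ∧ CharP K p ∧
      ∃ ρ : G →* Matrix (Fin n) (Fin n) K,
        ∀ g : G, ∀ v : ℤ, χ g = (v : ℂ) → (ρ g).trace = (v : K) := by
  classical
  haveI := Fact.mk hp
  obtain ⟨M, hM⟩ := Cfsg.Agent.BlockCharsA.DefectZeroVanish.exists_modular hp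
  have hm0 : m * p ^ (a + 1) ≠ 0 := by rw [← hm]; exact Nat.card_pos.ne'
  obtain ⟨ξ, hξ⟩ : ∃ ξ : ℂ, IsPrimitiveRoot ξ (m * p ^ (a + 1)) :=
    ⟨_, Complex.isPrimitiveRoot_exp _ hm0⟩
  have hξi : IsIntegral ℤ ξ := hξ.isIntegral (Nat.pos_of_ne_zero hm0)
  have hπ := exists_unif hM hpm hξ (fun _ => isIntegral_cycAlg hξi)
  haveI : IsPrincipalIdealRing (cycLocal hM hξi) := isPrincipalIdealRing_localSub hπ
  haveI : IsLocalRing (cycLocal hM hξi) := isLocalRing_localSub hM _ _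
  obtain ⟨d, V, hV⟩ := BlocksChars.HalfDegree.exists_rep_pid hM hχ hm0
    (fun g => by rw [← hm]; exact pow_card_eq_one') hξ hξi
  have hdn : d = n := by
    have h := hV 1
    rw [map_one, Matrix.trace_one, Fintype.card_fin, hn] at h
    exact_mod_cast h
  subst hdn
  let k := IsLocalRing.ResidueField (cycLocal hM hξi)
  let res := IsLocalRing.residue (cycLocal hM hξi)
  have hpk : ((p : ℕ) : k) = 0 := by
    rw [← map_natCast res, IsLocalRing.residue_eq_zero_iff, IsLocalRing.mem_maximalIdeal, mem_nonunits_iff]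
    intro hu
    exact (localSub_isUnit_iff hM _ _ _).1 hu (by simpa using ideal_p hM)
  haveI hchar : CharP k p := (CharP.charP_iff_prime_eq_zero hp).2 hpk
  let K := AlgebraicClosure k
  let φ : cycLocal hM hξi →+* K := (algebraMap k K).comp res
  refine ⟨K, inferInstance, inferInstance,
    charP_of_injective_algebraMap (algebraMap k K).injective p,
    φ.mapMatrix.toMonoidHom.comp V, fun g v hv => ?_⟩
  have he : (V g).trace = (v : cycLocal hM hξi) := Subtype.ext (by rw [hV, hv]; simp)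
  show ((V g).map φ).trace = _
  rw [← map_intCast φ v, ← he]
  exact (AddMonoidHom.map_trace φ.toAddMonoidHom _).symm

end Cfsg.Agent.M12Order.Modular
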