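import Cfsg.Agent.Lib.M12Order.Gen
import Cfsg.Agent.Lib.M12Order.Modular
import Cfsg.Agent.Lib.M12Order.Descent

/-!
# Simple groups of order 95040: the binary matrix model
-/

set_option autoImplicit false
set_option linter.style.haveILetI false
set_option linter.unusedSectionVars false

namespace Cfsg.Agent.M12Order

open Subgroup
open Cfsg.Agent.Characters Cfsg.Agent.Blocks Cfsg.Agent.PrimeBlock
open Cfsg.Agent.SmallSimple

universe u

/-- In characteristic two the trace commutes with squaring. -/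
theorem trace_sq {n : Type*} [Fintype n] [DecidableEq n] {K : Type*} [Field K] [CharP K 2]
    (A : Matrix n n K) : (A * A).trace = A.trace ^ 2 := by
  classical
  have h : (A * A).trace = ∑ p : n × n, A p.1 p.2 * A p.2 p.1 := by
    rw [Fintype.sum_prod_type]
    simp [Matrix.trace, Matrix.mul_apply]
  rw [h, ← Finset.sum_filter_add_sum_filter_not Finset.univ (fun p : n × n => p.1 = p.2)]
  have hd : ∑ p : n × n with ¬ p.1 = p.2, A p.1 p.2 * A p.2 p.1 = 0 :=
    Finset.sum_involution (fun p _ => p.swap)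
      (fun p _ => by simp only [Prod.fst_swap, Prod.snd_swap]; rw [mul_comm (A p.2 p.1), CharTwo.add_self_eq_zero])
      (fun p hp _ e => (Finset.mem_filter.1 hp).2 (congrArg Prod.snd e))
      (fun p hp => Finset.mem_filter.2 ⟨Finset.mem_univ _, fun e => (Finset.mem_filter.1 hp).2 e.symm⟩)
      (fun p _ => Prod.swap_swap p)
  rw [hd, add_zero, Matrix.trace, CharTwo.sum_sq]
  refine Finset.sum_nbij' (fun p => p.1) (fun i => (i, i)) ?_ ?_ ?_ ?_ ?_
  · simp
  · simp
  · intro p hp; simp only [Finset.mem_filter] at hp; exact Prod.ext rfl hp.2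
  · simp
  · intro p hp; simp only [Finset.mem_filter] at hp; rw [← hp.2, Matrix.diag_apply, pow_two]

variable {G : Type u} [Group G] [Finite G] [IsSimpleGroup G] (hcard : Nat.card G = 95040)

include hcard

theorem cen_five {v : G} (hv : orderOf v = 5) : cen v = 10 := by
  classical
  obtain ⟨F⟩ := exists_frame hcard
  obtain ⟨u, hu, hk, -⟩ := exists_five_ten hcard F
  obtain ⟨P, hP⟩ := sylow_of_order_five hcard hu
  obtain ⟨Q, hQ⟩ := sylow_of_order_five hcard hv
  obtain ⟨g, hg⟩ := MulAction.exists_smul_eq G P Q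
  have hmap : (zpowers u).map (MulAut.conj g).toMonoidHom = zpowers v := by
    rw [← hP, ← hQ, ← hg]
    rfl
  have hcz : ∀ w : G, centralizer ({w} : Set G) = centralizer (zpowers w : Set G) := fun w => by
    rw [zpowers_eq_closure, centralizer_closure]
  have hC : (centralizer ({u} : Set G)).map (MulAut.conj g).toMonoidHom = centralizer ({v} : Set G) := by
    rw [hcz v, ← hmap, hcz u]
    set c := MulAut.conj g
    ext y
    rw [Subgroup.mem_map, mem_centralizer_iff]
    constructor
    · rintro ⟨z, hz, rfl⟩ w hw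
      obtain ⟨w', hw', rfl⟩ := Subgroup.mem_map.1 hw
      show c w' * c z = c z * c w'
      rw [← map_mul, ← map_mul, mem_centralizer_iff.1 hz w' hw']
    · intro hy
      refine ⟨c.symm y, mem_centralizer_iff.2 fun w hw => c.injective ?_, c.apply_symm_apply y⟩
      rw [map_mul, map_mul, c.apply_symm_apply]
      exact hy (c w) ⟨w, hw, rfl⟩
  show Nat.card (centralizer ({v} : Set G)) = 10
  rw [← hC, card_map_of_injective (MulAut.conj g).injective]
  exact hk

theorem order_cases (g : G) : g ^ 11 = 1 ∨ g ^ 10 = 1 ∨ g ^ 1728 = 1 := by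
  have key : ∀ p : ℕ, p.Prime → p ∣ orderOf g → ∀ c, (∀ w : G, orderOf w = p → cen w = c) →
      orderOf g ∣ c := by
    intro p hp hd c hc
    have hpos := orderOf_pos g
    have hy : orderOf (g ^ (orderOf g / p)) = p := by
      rw [orderOf_pow_of_dvd (Nat.div_pos (Nat.le_of_dvd hpos hd) hp.pos).ne' (Nat.div_dvd_of_dvd hd),
        Nat.div_div_self hd hpos.ne']
    have hgC : g ∈ centralizer ({g ^ (orderOf g / p)} : Set G) :=
      mem_centralizer_singleton_iff.2 (Commute.self_pow g _).eq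
    have h := orderOf_dvd_natCard (⟨g, hgC⟩ : centralizer ({g ^ (orderOf g / p)} : Set G))
    rwa [Subgroup.orderOf_mk, show Nat.card (centralizer ({g ^ (orderOf g / p)} : Set G)) = c from
      hc _ hy] at h
  by_cases h11 : 11 ∣ orderOf g
  · exact .inl (orderOf_dvd_iff_pow_eq_one.1
      (key 11 (by norm_num) h11 11 fun w hw => (cen_eleven hcard hw).1))
  by_cases h5 : 5 ∣ orderOf g
  · exact .inr (.inl (orderOf_dvd_iff_pow_eq_one.1
      (key 5 (by norm_num) h5 10 fun w hw => cen_five hcard hw)))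
  refine .inr (.inr (orderOf_dvd_iff_pow_eq_one.1 ?_))
  have hd : orderOf g ∣ 1728 * 55 := by
    have := orderOf_dvd_natCard g
    rwa [hcard] at this
  refine Nat.Coprime.dvd_of_dvd_mul_right ?_ hd
  rw [show (55 : ℕ) = 5 * 11 by norm_num]
  exact Nat.Coprime.mul_right ((Nat.Prime.coprime_iff_not_dvd (by norm_num)).2 h5).symm
    ((Nat.Prime.coprime_iff_not_dvd (by norm_num)).2 h11).symm

theorem chi_eleven {χ : Cfsg.IrrCharacter G} (hd11 : deg χ = 11) {w : G} (hw : orderOf w = 11) :
    (χ : G → ℂ) w = 0 :=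
  BlockCharsA.DefectZeroVanish.eq_zero_of_singular (p := 11) (by norm_num) χ (by
    have : (Nat.card G).factorization 11 = 1 := by
      rw [hcard, show (95040 : ℕ) = 11 * 8640 by norm_num, Nat.factorization_mul (by norm_num) (by norm_num),
        Finsupp.add_apply, Nat.Prime.factorization_self (by norm_num),
        Nat.factorization_eq_zero_of_not_dvd (by norm_num)]
    rw [this, pow_one, show Cfsg.charDegree (χ : G → ℂ) = 11 from hd11]) (by rw [hw])

/-- The group is generated inside eleven dimensional binary matrices by three matrices. -/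
theorem exists_model : ∃ (φ : G →* Matrix (ZMod 11) (ZMod 11) (ZMod 2)) (x u t : G),
    Function.Injective φ ∧ φ x = Mod2.shiftM _ ∧ φ u = Mod2.threeM _ ∧
    Subgroup.closure ({x, u, t} : Set G) = ⊤ ∧ orderOf t = 2 ∧ Commute u t ∧
    ((∀ m, ∑ n, φ t m n = 1) ↔ (∀ n, ∑ m, φ t m n = 1)) := by
  classical
  obtain ⟨T⟩ := exists_triple hcard
  haveI := Fintype.ofFinite G
  obtain ⟨K, instF, instA, instC, ρ, hρ⟩ :=
    Modular.exists_reduced (p := 2) Nat.prime_two (m := 1485) (a := 5)
      (show Nat.card G = 1485 * 2 ^ (5 + 1) by rw [hcard]; norm_num) (by norm_num)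
      (irr_isCharacter T.χ) (n := 11) ((deg_cast T.χ).symm.trans (by rw [T.deg]))
  haveI : Fact (Nat.Prime 11) := ⟨by norm_num⟩
  have h11 : (11 : K) = 1 := by
    rw [show (11 : K) = 5 * 2 + 1 by norm_num, CharTwo.two_eq_zero, mul_zero, zero_add]
  haveI : NeZero ((11 : ℕ) : K) := ⟨by rw [show ((11 : ℕ) : K) = 1 by exact_mod_cast h11]; exact one_ne_zero⟩
  obtain ⟨ζ, hζ⟩ := HasEnoughRootsOfUnity.exists_primitiveRoot K 11
  set ω : AddChar (ZMod 11) K := AddChar.zmodChar 11 hζ.pow_eq_one with hωdef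
  have hω : ω 1 ≠ 1 := by
    rw [hωdef, AddChar.zmodChar_apply, ZMod.val_one, pow_one]
    exact hζ.ne_one (by norm_num)
  set τ : G → K := fun g => (ρ g).trace with hτdef
  have hz : ∀ z : K, ∀ a : ℕ, (z ^ 2 ^ a = 0 ∨ z ^ 2 ^ a = 1) → z * z = z := by
    intro z a h
    rcases h with h | h
    · rw [eq_zero_of_pow_eq_zero h, mul_zero]
    · have : (z - 1) ^ 2 ^ a = 0 := by rw [sub_pow_char_pow, h, one_pow, sub_self]
      rw [sub_eq_zero.1 (eq_zero_of_pow_eq_zero this), mul_one]
  have hpowτ : ∀ (g : G) (a : ℕ), τ (g ^ 2 ^ a) = τ g ^ 2 ^ a := by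
    intro g a
    induction a with
    | zero => simp
    | succ a ih =>
      rw [pow_succ, pow_mul, hτdef]
      show (ρ ((g ^ 2 ^ a) ^ 2)).trace = _
      rw [map_pow, pow_two, trace_sq]
      show τ (g ^ 2 ^ a) ^ 2 = _
      rw [ih, pow_mul]
  have hτ : ∀ g, τ g * τ g = τ g := by
    intro g
    refine hz _ 6 ?_
    rw [← hpowτ]
    have hodd : ¬ 2 ∣ orderOf (g ^ 2 ^ 6) := by
      intro h
      have h2 : orderOf (g ^ 2 ^ 6) ∣ 1485 := by
        refine orderOf_dvd_iff_pow_eq_one.2 ?_
        rw [← pow_mul, show 2 ^ 6 * 1485 = Nat.card G by rw [hcard]; norm_num, pow_card_eq_one']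
      exact absurd (h.trans h2) (by norm_num)
    obtain ⟨v, hv⟩ := T.odd_int _ hodd
    show (ρ (g ^ 2 ^ 6)).trace = 0 ∨ (ρ (g ^ 2 ^ 6)).trace = 1
    rw [hρ _ v hv]
    rcases Int.emod_two_eq v with e | e
    · exact .inl ((CharP.intCast_eq_zero_iff K 2 v).2 (Int.dvd_of_emod_eq_zero e))
    · right
      rw [← sub_eq_zero, ← Int.cast_one, ← Int.cast_sub]
      exact (CharP.intCast_eq_zero_iff K 2 _).2 (Int.dvd_of_emod_eq_zero (by omega))
  have htrx : ∀ i : ℕ, ¬ 11 ∣ i → (ρ (T.x ^ i)).trace = 0 := by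
    intro i hi
    rw [hρ _ 0 (by
      rw [Int.cast_zero]
      exact chi_eleven hcard T.deg (by
        rw [Nat.Coprime.orderOf_pow, T.hx]
        rw [T.hx]
        exact (Nat.Prime.coprime_iff_not_dvd (by norm_num)).2 hi)), Int.cast_zero]
  have htru : (ρ T.u).trace = 1 := by
    rw [hρ _ 1 (by rw [T.val_u]; norm_num), Int.cast_one]
  have hn := Mod2.exists_normal (ω := ω) ρ (by rw [← T.hx]; exact pow_orderOf_eq_one _)
    (by rw [← T.hu]; exact pow_orderOf_eq_one _) T.conj h11 hω htrx htru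
  obtain ⟨φ, hx, hu, hiff⟩ := Mod2.exists_binary hω h11 hτ T.hut T.gen
    (by rw [← pow_two, ← T.ht]; exact pow_orderOf_eq_one _) hn
  refine ⟨φ, T.x, T.u, T.t, ?_, hx, hu, T.gen, T.ht, T.hut, hiff⟩
  have hx1 : φ T.x ≠ 1 := by
    rw [hx]
    intro e
    have := congrFun (congrFun e 1) 0
    simp [Mod2.shiftM] at this
  let ker : Subgroup G :=
    { carrier := {g | φ g = 1}
      one_mem' := map_one φ
      mul_mem' := fun {a b} (ha : φ a = 1) (hb : φ b = 1) => by
        show φ (a * b) = 1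
        rw [map_mul, ha, hb, mul_one]
      inv_mem' := fun {a} (ha : φ a = 1) => by
        show φ a⁻¹ = 1
        have := map_mul φ a a⁻¹
        rw [mul_inv_cancel, map_one, ha, one_mul] at this
        exact this.symm }
  haveI : ker.Normal := ⟨fun a (ha : φ a = 1) g => by
    show φ (g * a * g⁻¹) = 1
    rw [map_mul, map_mul, ha, mul_one, ← map_mul, mul_inv_cancel, map_one]⟩
  have hbot : ker = ⊥ := (IsSimpleGroup.eq_bot_or_eq_top_of_normal ker inferInstance).resolve_right
    fun e => hx1 (show T.x ∈ ker by rw [e]; exact mem_top _)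
  intro a b hab
  have : a * b⁻¹ ∈ ker := by
    show φ (a * b⁻¹) = 1
    rw [map_mul, hab, ← map_mul, mul_inv_cancel, map_one]
  rw [hbot, mem_bot, mul_inv_eq_one] at this
  exact this

end Cfsg.Agent.M12Order
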