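import Cfsg.Agent.Lib.M12Order.Five

/-!
# Groups with six Sylow 5-subgroups of order five
-/

set_option autoImplicit false
set_option linter.style.haveILetI false
set_option linter.unusedSectionVars false

namespace Cfsg.Agent.M12Order.Six

open Subgroup

universe u

variable {H : Type u} [Group H] [Finite H]

variable (h5 : ∀ Q : Sylow 5 H, Nat.card (Q : Subgroup H) = 5)

include h5

/-- An element of order five fixes only the Sylow subgroup it generates. -/
theorem eq_of_fixed {u : H} (hu : orderOf u = 5) {Q : Sylow 5 H} (hQ : u • Q = Q) :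
    (Q : Subgroup H) = zpowers u := by
  have hn : u ∈ normalizer ((Q : Subgroup H) : Set H) := Sylow.smul_eq_iff_mem_normalizer.1 hQ
  have huQ : u ∈ (Q : Subgroup H) := by
    have := IsPGroup.inf_normalizer_sylow (IsPGroup.of_card (p := 5) (n := 1)
      (by rw [Nat.card_zpowers, hu, pow_one]) : IsPGroup 5 (zpowers u)) Q
    exact (mem_inf.1 (this ▸ mem_inf.2 ⟨mem_zpowers u, hn⟩)).2
  exact (eq_of_le_of_card_ge (zpowers_le.2 huQ) (by rw [h5 Q, Nat.card_zpowers, hu])).symm

variable (h6 : Nat.card (Sylow 5 H) = 6)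

include h6

/-- Elements of order prime to five commuting with one of order five fix all of them. -/
theorem fixes_all {u a : H} (hu : orderOf u = 5) (hc : Commute a u) (ha : ¬ 5 ∣ orderOf a)
    (Q : Sylow 5 H) : a • Q = Q := by
  classical
  haveI := Fintype.ofFinite (Sylow 5 H)
  obtain ⟨P, hP⟩ := (IsPGroup.of_card (p := 5) (n := 1) (by rw [Nat.card_zpowers, hu, pow_one]) :
    IsPGroup 5 (zpowers u)).exists_le_sylow
  have hfix : ∀ R : Sylow 5 H, u • R = R → R = P := fun R hR => by
    refine Sylow.ext ?_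
    rw [eq_of_fixed h5 hu hR]
    exact eq_of_le_of_card_ge hP (by rw [h5 P, Nat.card_zpowers, hu])
  have hP' : u • P = P := Sylow.smul_eq_iff_mem_normalizer.2 (le_normalizer (hP (mem_zpowers u)))
  have haP : a • P = P := hfix _ (by rw [← mul_smul, ← hc.eq, mul_smul, hP'])
  obtain ⟨Q₁, hQ₁⟩ : ∃ Q₁ : Sylow 5 H, Q₁ ≠ P := by
    haveI : Nontrivial (Sylow 5 H) := Finite.one_lt_card_iff_nontrivial.1 (by omega)
    exact exists_ne P
  have hroot : ∀ j : ℕ, ¬ 5 ∣ j → u ^ j • Q₁ = Q₁ → False := fun j hj h => by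
    obtain ⟨i, hi⟩ := exists_pow_eq_self_of_coprime (x := u) (n := j)
      (by rw [hu]; exact ((Nat.Prime.coprime_iff_not_dvd (by norm_num)).2 hj).symm)
    refine hQ₁ (hfix Q₁ ?_)
    rw [← hi]
    exact smul_pow_fixed (u ^ j) Q₁ h i
  have hcov : ∀ R : Sylow 5 H, R ≠ P → ∃ i : Fin 5, (u ^ (i : ℕ)) • Q₁ = R := by
    intro R hR
    have hinj : Function.Injective fun i : Fin 5 => (u ^ (i : ℕ)) • Q₁ := by
      intro i j hij
      simp only at hij
      by_contra hne
      have hne' : (i : ℕ) ≠ j := fun h => hne (Fin.ext h)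
      rcases le_total (i : ℕ) j with hle | hle
      · rw [show (j : ℕ) = i + (j - i) by omega, pow_add, mul_smul, smul_left_cancel_iff] at hij
        exact hroot _ (by have := j.2; omega) hij.symm
      · rw [show (i : ℕ) = j + (i - j) by omega, pow_add, mul_smul, smul_left_cancel_iff] at hij
        exact hroot _ (by have := i.2; omega) hij
    have hsub : Finset.univ.image (fun i : Fin 5 => (u ^ (i : ℕ)) • Q₁) ⊆ Finset.univ.erase P := by
      intro S hS
      obtain ⟨i, -, rfl⟩ := Finset.mem_image.1 hS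
      refine Finset.mem_erase.2 ⟨fun h => hQ₁ ?_, Finset.mem_univ _⟩
      rw [← smul_pow_fixed u P hP' (i : ℕ)] at h
      exact smul_left_cancel _ h
    have heq := Finset.eq_of_subset_of_card_le hsub (by
      rw [Finset.card_image_of_injective _ hinj, Finset.card_erase_of_mem (Finset.mem_univ _),
        Finset.card_univ, ← Nat.card_eq_fintype_card, h6, Finset.card_univ, Fintype.card_fin])
    obtain ⟨i, -, hi⟩ := Finset.mem_image.1 (heq ▸ Finset.mem_erase.2 ⟨hR, Finset.mem_univ R⟩ :)
    exact ⟨i, hi⟩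
  obtain ⟨j, hj⟩ := hcov (a • Q₁) fun h => hQ₁ (smul_left_cancel a (h.trans haP.symm))
  have hagree : ∀ R : Sylow 5 H, a • R = u ^ (j : ℕ) • R := by
    intro R
    by_cases hR : R = P
    · rw [hR, haP, smul_pow_fixed u P hP']
    · obtain ⟨i, rfl⟩ := hcov R hR
      rw [← mul_smul, (hc.pow_right i).eq, mul_smul, ← hj, ← mul_smul, ← mul_smul, ← pow_add,
        ← pow_add, add_comm]
  have hn : ∀ (n : ℕ) (R : Sylow 5 H), a ^ n • R = u ^ ((j : ℕ) * n) • R := by
    intro n
    induction n with
    | zero => intro R; simp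
    | succ n ih =>
      intro R
      rw [pow_succ', mul_smul, hagree, ih, ← mul_smul, ← pow_add]
      congr 2; ring
  have hj0 : (j : ℕ) = 0 := by
    by_contra h0
    have h := hn (orderOf a) Q₁
    rw [pow_orderOf_eq_one, one_smul] at h
    refine hroot _ (fun hd => ?_) h.symm
    rcases (Nat.Prime.dvd_mul (by norm_num : Nat.Prime 5)).1 hd with h' | h'
    · have := j.2; omega
    · exact ha h'
  rw [hagree Q, hj0, pow_zero, one_smul]

/-- Members of the kernel commute with elements of order five and have order prime to five. -/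
theorem kernel_commute {u a : H} (hu : orderOf u = 5) (ha : ∀ Q : Sylow 5 H, a • Q = Q) :
    Commute a u ∧ ¬ 5 ∣ orderOf a := by
  classical
  set f := MulAction.toPermHom H (Sylow 5 H) with hf
  have hker : ∀ b : H, b ∈ f.ker ↔ ∀ Q : Sylow 5 H, b • Q = Q := fun b => by
    rw [MonoidHom.mem_ker, Equiv.ext_iff]; rfl
  have hno : ∀ v : H, orderOf v = 5 → v ∉ f.ker := fun v hv h => by
    haveI : Nontrivial (Sylow 5 H) := Finite.one_lt_card_iff_nontrivial.1 (by omega)
    obtain ⟨P, Q, hne⟩ := exists_pair_ne (Sylow 5 H)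
    exact hne (Sylow.ext ((eq_of_fixed h5 hv ((hker v).1 h P)).trans
      (eq_of_fixed h5 hv ((hker v).1 h Q)).symm))
  have hak : a ∈ f.ker := (hker a).2 ha
  refine ⟨?_, fun h5a => ?_⟩
  · obtain ⟨P, hP⟩ := (IsPGroup.of_card (p := 5) (n := 1) (by rw [Nat.card_zpowers, hu, pow_one]) :
      IsPGroup 5 (zpowers u)).exists_le_sylow
    have hPz : (P : Subgroup H) = zpowers u :=
      (eq_of_le_of_card_ge hP (by rw [h5 P, Nat.card_zpowers, hu])).symm
    have haN : a ∈ normalizer ((P : Subgroup H) : Set H) := Sylow.smul_eq_iff_mem_normalizer.1 (ha P)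
    rw [hPz] at haN
    set c := a * u * a⁻¹ * u⁻¹ with hc
    have hcU : c ∈ zpowers u :=
      mul_mem ((mem_normalizer_iff.1 haN u).1 (mem_zpowers u)) (inv_mem (mem_zpowers u))
    have hck : c ∈ f.ker := by
      rw [show c = a * (u * a⁻¹ * u⁻¹) by rw [hc]; group]
      exact mul_mem hak (f.normal_ker.conj_mem _ (inv_mem hak) u)
    have hc1 : c = 1 := by
      by_contra hne
      refine hno c ?_ hck
      have := orderOf_dvd_natCard (⟨c, hcU⟩ : zpowers u)
      rw [Subgroup.orderOf_mk, Nat.card_zpowers, hu] at this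
      exact ((Nat.dvd_prime (by norm_num)).1 this).resolve_left fun h => hne (orderOf_eq_one_iff.1 h)
    rw [hc, mul_inv_eq_one, mul_inv_eq_iff_eq_mul] at hc1
    exact hc1
  · refine hno (a ^ (orderOf a / 5)) ?_ (pow_mem hak _)
    rw [orderOf_pow_of_dvd (Nat.div_pos (Nat.le_of_dvd (orderOf_pos a) h5a) (by norm_num)).ne'
      (Nat.div_dvd_of_dvd h5a), Nat.div_div_self h5a (orderOf_pos a).ne']

end Cfsg.Agent.M12Order.Six
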