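import Cfsg.Agent.Lib.M12Order.SliceData

/-!
# Bit slices of eleven dimensional binary matrices
-/

set_option autoImplicit false
set_option linter.style.haveILetI false

namespace Cfsg.Agent.M12Order.Slice

open Matrix

/-- Evaluate a number before passing it on. -/
def force {β : Type} (x : ℕ) (k : ℕ → β) : β :=
  Nat.rec (motive := fun _ => β) (k 0) (fun m _ => k (m + 1)) x

theorem force_eq {β : Type} (x : ℕ) (k : ℕ → β) : force x k = k x := by cases x <;> rfl

/-- Evaluate a list before passing it on. -/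
def forceList {β : Type} : List ℕ → (List ℕ → β) → β
  | [], k => k []
  | a :: l, k => force a fun a' => forceList l fun l' => k (a' :: l')

theorem forceList_eq {β : Type} : ∀ (l : List ℕ) (k : List ℕ → β), forceList l k = k l
  | [], _ => rfl
  | a :: l, k => by rw [forceList, force_eq, forceList_eq]

/-- Evaluate a matrix before passing it on. -/
def forceMat {β : Type} : List (List ℕ) → (List (List ℕ) → β) → β
  | [], k => k []
  | r :: A, k => forceList r fun r' => forceMat A fun A' => k (r' :: A')

theorem forceMat_eq {β : Type} : ∀ (A : List (List ℕ)) (k : List (List ℕ) → β), forceMat A k = k A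
  | [], _ => rfl
  | r :: A, k => by rw [forceMat, forceList_eq, forceMat_eq]

/-- A bit as an element of the field with two elements. -/
def bit (b x : ℕ) : ZMod 2 := if x.testBit b then 1 else 0

theorem bit_zero (b : ℕ) : bit b 0 = 0 := by simp [bit]

theorem bit_xor (b x y : ℕ) : bit b (x ^^^ y) = bit b x + bit b y := by
  simp only [bit, Nat.testBit_xor]
  cases x.testBit b <;> cases y.testBit b <;> decide

theorem bit_and (b x y : ℕ) : bit b (x &&& y) = bit b x * bit b y := by
  simp only [bit, Nat.testBit_and]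
  cases x.testBit b <;> cases y.testBit b <;> decide

theorem bit_eq_zero {b x : ℕ} : bit b x = 0 ↔ x.testBit b = false := by
  simp only [bit]; cases x.testBit b <;> decide

theorem bit_eq_one {b x : ℕ} : bit b x = 1 ↔ x.testBit b = true := by
  simp only [bit]; cases x.testBit b <;> decide

/-- The square array of a function. -/
def tab (f : ℕ → ℕ → ℕ) : List (List ℕ) :=
  (List.range 11).map fun i => (List.range 11).map fun j => f i j

/-- The matrix in a given slice. -/
def sem (b : ℕ) (A : List (List ℕ)) : Matrix (ZMod 11) (ZMod 11) (ZMod 2) :=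
  Matrix.of fun i j => bit b ((A.getD i.val []).getD j.val 0)

theorem sem_tab (b : ℕ) (f : ℕ → ℕ → ℕ) (i j : ZMod 11) : sem b (tab f) i j = bit b (f i.val j.val) := by
  have hi : i.val < 11 := ZMod.val_lt i
  have hj : j.val < 11 := ZMod.val_lt j
  simp [sem, tab, hi, hj]

/-- The sum over the field with two elements. -/
def xsum (l : List ℕ) : ℕ := l.foldr (fun a s => a ^^^ s) 0

theorem bit_xsum (b : ℕ) : ∀ l : List ℕ, bit b (xsum l) = (l.map (bit b)).sum
  | [] => bit_zero b
  | a :: l => by
    show bit b (a ^^^ xsum l) = _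
    rw [bit_xor, bit_xsum b l, List.map_cons, List.sum_cons]

theorem bit_xsum_range (b : ℕ) (g : ℕ → ℕ) :
    bit b (xsum ((List.range 11).map g)) = ∑ k : ZMod 11, bit b (g k.val) := by
  rw [bit_xsum, List.map_map]
  exact (Fin.sum_univ_eq_sum_range (fun k => bit b (g k)) 11).symm

/-- The columns. -/
def cols (B : List (List ℕ)) : List (List ℕ) :=
  (List.range 11).map fun j => B.map fun r => r.getD j 0

/-- The product. -/
def mm (A B : List (List ℕ)) : List (List ℕ) :=
  forceMat (cols B) fun C => A.map fun r => C.map fun c => xsum (List.zipWith (fun a d => a &&& d) r c)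

theorem cols_tab (g : ℕ → ℕ → ℕ) : cols (tab g) = tab fun j k => g k j := by
  simp only [cols, tab, List.map_map]
  refine List.map_congr_left fun j hj => List.map_congr_left fun k _ => ?_
  simp [List.mem_range.1 hj]

/-- The entries of a product. -/
def mulFun (f g : ℕ → ℕ → ℕ) (i j : ℕ) : ℕ :=
  xsum ((List.range 11).map fun k => f i k &&& g k j)

theorem mm_tab (f g : ℕ → ℕ → ℕ) : mm (tab f) (tab g) = tab (mulFun f g) := by
  rw [mm, forceMat_eq, cols_tab]
  simp only [tab, List.map_map]
  refine List.map_congr_left fun i _ => List.map_congr_left fun j _ => ?_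
  show xsum (List.zipWith _ _ _) = _
  rw [List.zipWith_map, List.zipWith_self]
  rfl

/-- Square arrays. -/
def IsTab (A : List (List ℕ)) : Prop := ∃ f, A = tab f

theorem IsTab.mm {A B : List (List ℕ)} (hA : IsTab A) (hB : IsTab B) : IsTab (mm A B) := by
  obtain ⟨f, rfl⟩ := hA
  obtain ⟨g, rfl⟩ := hB
  exact ⟨_, mm_tab f g⟩

theorem sem_mm (b : ℕ) {A B : List (List ℕ)} (hA : IsTab A) (hB : IsTab B) :
    sem b (mm A B) = sem b A * sem b B := by
  obtain ⟨f, rfl⟩ := hA
  obtain ⟨g, rfl⟩ := hB
  ext i j
  rw [mm_tab, sem_tab, Matrix.mul_apply, mulFun, bit_xsum_range]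
  exact Finset.sum_congr rfl fun k _ => by rw [bit_and, sem_tab, sem_tab]

/-- All ones. -/
def full (n : ℕ) : ℕ := 2 ^ n - 1

theorem testBit_full {n b : ℕ} (hb : b < n) : (full n).testBit b = true := by
  simp [full, Nat.testBit_two_pow_sub_one, hb]

/-- The identity. -/
def idm (full : ℕ) : List (List ℕ) := tab fun i j => if i = j then full else 0

/-- The slices in which a matrix is not the identity. -/
def neI (full : ℕ) (A : List (List ℕ)) : ℕ :=
  (List.zipWith (fun r s => (List.zipWith (fun x y => x ^^^ y) r s).foldr (fun a s => a ||| s) 0) A (idm full)).foldr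
    (fun a s => a ||| s) 0

theorem testBit_foldr_or (b : ℕ) : ∀ l : List ℕ, (∀ x ∈ l, x.testBit b = false) →
    (l.foldr (fun a s => a ||| s) 0).testBit b = false
  | [], _ => by simp
  | a :: l, h => by
    rw [List.foldr_cons, Nat.testBit_or, h a (List.mem_cons_self ..),
      testBit_foldr_or b l fun x hx => h x (List.mem_cons_of_mem _ hx), Bool.or_false]

theorem neI_of_one {n b : ℕ} (hb : b < n) {A : List (List ℕ)} (hA : IsTab A) (h : sem b A = 1) :
    (neI (full n) A).testBit b = false := by
  obtain ⟨f, rfl⟩ := hA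
  simp only [neI, idm, tab, List.zipWith_map, List.zipWith_self]
  refine testBit_foldr_or b _ fun x hx => ?_
  obtain ⟨i, hi, rfl⟩ := List.mem_map.1 hx
  rw [List.mem_range] at hi
  refine testBit_foldr_or b _ fun y hy => ?_
  obtain ⟨j, hj, rfl⟩ := List.mem_map.1 hy
  rw [List.mem_range] at hj
  have e := congrFun (congrFun h ((i : ZMod 11))) ((j : ZMod 11))
  rw [sem_tab, ZMod.val_natCast_of_lt hi, ZMod.val_natCast_of_lt hj, Matrix.one_apply] at e
  have hij : (i : ZMod 11) = (j : ZMod 11) ↔ i = j := by
    refine ⟨fun h => ?_, fun h => by rw [h]⟩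
    rw [← ZMod.val_natCast_of_lt hi, ← ZMod.val_natCast_of_lt hj, h]
  simp only [hij] at e
  by_cases hij' : i = j
  · rw [if_pos hij'] at e
    rw [if_pos hij', Nat.testBit_xor, bit_eq_one.1 e, testBit_full hb]; rfl
  · rw [if_neg hij'] at e
    rw [if_neg hij', Nat.xor_zero, bit_eq_zero.1 e]

/-- The array of a list of class values. -/
def smat (v : List ℕ) : List (List ℕ) := tab fun i j => v.getD (posL.getD (11 * i + j) 0) 0

/-- The rows moved cyclically. -/
def rot (a : ℕ) (v : List ℕ) : List (List ℕ) :=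
  tab fun i j => v.getD (posL.getD (11 * ((i + (11 - a)) % 11) + j) 0) 0

/-- The pattern of a bit of the slice index. -/
def pat : ℕ → ℕ → ℕ → ℕ
  | x, _, 0 => x
  | x, w, n + 1 => force (pat x w n) fun y => y ||| y <<< (w * 2 ^ n)

theorem pat_spec {x w : ℕ} (hx : x < 2 ^ w) : ∀ n, pat x w n < 2 ^ (w * 2 ^ n) ∧
    ∀ b < w * 2 ^ n, (pat x w n).testBit b = x.testBit (b % w)
  | 0 => by simpa [pat] using ⟨hx, fun b hb => by rw [Nat.mod_eq_of_lt hb]⟩
  | n + 1 => by
    obtain ⟨hlt, hbit⟩ := pat_spec hx n
    set W := w * 2 ^ n with hW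
    have hW2 : w * 2 ^ (n + 1) = W + W := by rw [hW, pow_succ]; ring
    rw [pat, force_eq, hW2]
    refine ⟨Nat.or_lt_two_pow ?_ ?_, fun b hb => ?_⟩
    · exact lt_of_lt_of_le hlt (Nat.pow_le_pow_right (by norm_num) (by omega))
    · rw [Nat.shiftLeft_eq, pow_add]
      exact Nat.mul_lt_mul_of_pos_right hlt (Nat.two_pow_pos _)
    rw [Nat.testBit_or, Nat.testBit_shiftLeft]
    rcases Nat.lt_or_ge b W with h | h
    · rw [hbit b h, decide_eq_false (by omega), Bool.false_and, Bool.or_false]
    · rw [Nat.testBit_lt_two_pow (lt_of_lt_of_le hlt (Nat.pow_le_pow_right (by norm_num) h)),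
        decide_eq_true h, Bool.true_and, Bool.false_or, hbit _ (by omega)]
      congr 1
      conv_rhs => rw [show b = b - W + W by omega, show b - W + W = b - W + w * 2 ^ n by rw [hW],
        Nat.add_mul_mod_self_left]

/-- The slice of bit `j` of the index. -/
def patBit (j : ℕ) : ℕ := pat ((2 ^ 2 ^ j - 1) <<< 2 ^ j) (2 ^ (j + 1)) (19 - j)

theorem patBit_spec {j b : ℕ} (hj : j < 20) (hb : b < 2 ^ 20) :
    (patBit j).testBit b = b.testBit j := by
  have hpos := Nat.two_pow_pos j
  have hw : (2 ^ 2 ^ j - 1) <<< 2 ^ j < 2 ^ 2 ^ (j + 1) := by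
    rw [Nat.shiftLeft_eq, show 2 ^ (j + 1) = 2 ^ j + 2 ^ j by ring, pow_add]
    exact Nat.mul_lt_mul_of_pos_right (by have := Nat.two_pow_pos (2 ^ j); omega) (Nat.two_pow_pos _)
  rw [patBit, (pat_spec hw _).2 b (by rw [← pow_add, show j + 1 + (19 - j) = 20 by omega]; exact hb),
    Nat.testBit_shiftLeft, Nat.testBit_two_pow_sub_one, Nat.testBit_eq_decide_div_mod_eq]
  have h1 := Nat.mod_lt b (Nat.two_pow_pos (j + 1))
  have h3 : 2 ^ (j + 1) = 2 ^ j * 2 := pow_succ 2 j
  have h2 : b % 2 ^ (j + 1) / 2 ^ j = b / 2 ^ j % 2 := by rw [h3, Nat.mod_mul_right_div_self]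
  set r := b % 2 ^ (j + 1)
  rw [← Bool.decide_and, decide_eq_decide, ← h2]
  constructor
  · rintro ⟨h4, -⟩
    exact Nat.div_eq_of_lt_le (by omega) (by omega)
  · intro h4
    have := Nat.div_add_mod r (2 ^ j)
    rw [h4] at this
    omega

/-- The class values in a chunk. -/
def chunkVals (c : ℕ) : List ℕ :=
  ((List.range 5).map fun q => if c.testBit q then full (2 ^ 20) else 0) ++ (List.range 20).map patBit

/-- The conjunction. -/
def andFold (n : ℕ) (l : List ℕ) : ℕ := l.foldr (fun a s => a &&& s) (full n)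

theorem testBit_andFold {n b : ℕ} (hb : b < n) : ∀ l : List ℕ,
    ((andFold n l).testBit b = true ↔ ∀ x ∈ l, x.testBit b = true)
  | [] => by simp [andFold, testBit_full hb]
  | a :: l => by
    rw [show andFold n (a :: l) = a &&& andFold n l from rfl, Nat.testBit_and, Bool.and_eq_true,
      testBit_andFold hb l, List.forall_mem_cons]

/-- The slices satisfying the quadratic conditions. -/
def good (n : ℕ) (S : List (List ℕ)) : ℕ :=
  force (neI (full n) (mm S S)) fun bad =>
  force (andFold n (S.map xsum)) fun ones =>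
  force (andFold n ((cols S).map xsum)) fun par =>
  (full n ^^^ bad) &&& (full n ^^^ (ones ^^^ par))

theorem good_true {n b : ℕ} (hb : b < n) {S : List (List ℕ)} (hS : IsTab S)
    (h2 : sem b S * sem b S = 1)
    (hiff : (∀ i, ∑ j, sem b S i j = 1) ↔ (∀ j, ∑ i, sem b S i j = 1)) :
    (good n S).testBit b = true := by
  obtain ⟨f, rfl⟩ := hS
  have hrow : ∀ g : ℕ → ℕ → ℕ, (andFold n ((tab g).map xsum)).testBit b = true ↔
      ∀ i : ZMod 11, ∑ j : ZMod 11, bit b (g i.val j.val) = 1 := by
    intro g
    rw [testBit_andFold hb]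
    simp only [tab, List.map_map, List.forall_mem_map, List.mem_range, Function.comp_apply]
    constructor
    · intro h i
      rw [← bit_xsum_range, bit_eq_one]
      exact h _ (ZMod.val_lt i)
    · intro h i hi
      rw [← bit_eq_one, bit_xsum_range]
      have := h (i : ZMod 11)
      rwa [ZMod.val_natCast_of_lt hi] at this
  have hiff' : (andFold n ((tab f).map xsum)).testBit b =
      (andFold n ((cols (tab f)).map xsum)).testBit b := by
    rw [Bool.eq_iff_iff, hrow, cols_tab, hrow]
    simpa only [sem_tab] using hiff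
  rw [good, force_eq, force_eq, force_eq, Nat.testBit_and, Nat.testBit_xor, Nat.testBit_xor,
    Nat.testBit_xor, testBit_full hb, neI_of_one hb (IsTab.mm ⟨f, rfl⟩ ⟨f, rfl⟩)
      (by rw [sem_mm b ⟨f, rfl⟩ ⟨f, rfl⟩, h2]), hiff', Bool.xor_self]
  rfl

/-- The set with the given members. -/
def ofList (l : List ℕ) : ℕ := l.foldr (fun a s => (1 <<< a) ||| s) 0

theorem mem_of_ofList {b : ℕ} : ∀ {l : List ℕ}, (ofList l).testBit b = true → b ∈ l
  | [], h => by simp [ofList] at h
  | a :: l, h => by
    rw [show ofList (a :: l) = (1 <<< a) ||| ofList l from rfl, Nat.testBit_or, Bool.or_eq_true] at h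
    rcases h with h | h
    · rw [Nat.one_shiftLeft, Nat.testBit_two_pow, decide_eq_true_eq] at h
      exact h ▸ List.mem_cons_self ..
    · exact List.mem_cons_of_mem _ (mem_of_ofList h)

/-- The check of one chunk. -/
def chunkOK (c : ℕ) : Bool :=
  forceList (chunkVals c) fun v => forceMat (smat v) fun S =>
    Nat.beq (good (2 ^ 20) S) (ofList (sols.getD c []))

/-- The codes of all the solutions. -/
def codes : List ℕ := (List.range 32).flatMap fun c => (sols.getD c []).map fun b => c + 32 * b

/-- The slice of a list of bits. -/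
def slice (q : ℕ) : List ℕ → ℕ
  | [] => 0
  | a :: l => (if a.testBit q then 1 else 0) + 2 * slice q l

theorem testBit_slice (q : ℕ) : ∀ (l : List ℕ) (i : ℕ) (hi : i < l.length),
    (slice q l).testBit i = (l[i]).testBit q
  | a :: l, 0, _ => by
    rw [Nat.testBit_zero, slice, Nat.add_mul_mod_self_left]
    cases h : a.testBit q <;> simp [h]
  | a :: l, i + 1, hi => by
    rw [Nat.testBit_add_one, List.getElem_cons_succ, ← testBit_slice q l i (by simpa using hi), slice]
    congr 1
    split_ifs <;> omega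

/-- The powers which have to be trivial for some exponent. -/
def wordBad (n : ℕ) (A : List (List ℕ)) : ℕ :=
  forceMat (mm A A) fun A2 => forceMat (mm A2 A2) fun A4 => forceMat (mm A4 A4) fun A8 =>
  forceMat (mm A8 A2) fun A10 => forceMat (mm A10 A) fun A11 => forceMat (mm A8 A8) fun A16 =>
  forceMat (mm A16 A11) fun A27 => forceMat (mm A27 A27) fun B1 => forceMat (mm B1 B1) fun B2 =>
  forceMat (mm B2 B2) fun B3 => forceMat (mm B3 B3) fun B4 => forceMat (mm B4 B4) fun B5 =>
  forceMat (mm B5 B5) fun B6 =>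
  force (neI (full n) A11) fun e1 => force (neI (full n) A10) fun e2 =>
  force (neI (full n) B6) fun e3 => e1 &&& e2 &&& e3

theorem wordBad_false {n b : ℕ} (hb : b < n) {A : List (List ℕ)} (hA : IsTab A)
    (h : sem b A ^ 11 = 1 ∨ sem b A ^ 10 = 1 ∨ sem b A ^ 1728 = 1) :
    (wordBad n A).testBit b = false := by
  set M := sem b A
  have step : ∀ {P Q : List (List ℕ)} {p q : ℕ}, IsTab P ∧ sem b P = M ^ p →
      IsTab Q ∧ sem b Q = M ^ q → IsTab (mm P Q) ∧ sem b (mm P Q) = M ^ (p + q) :=
    fun hP hQ => ⟨hP.1.mm hQ.1, by rw [sem_mm b hP.1 hQ.1, hP.2, hQ.2, pow_add]⟩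
  have h1 : IsTab A ∧ sem b A = M ^ 1 := ⟨hA, (pow_one M).symm⟩
  have h2 := step h1 h1
  have h4 := step h2 h2
  have h8 := step h4 h4
  have h10 := step h8 h2
  have h11 := step h10 h1
  have h16 := step h8 h8
  have h27 := step h16 h11
  have b1 := step h27 h27
  have b2 := step b1 b1
  have b3 := step b2 b2
  have b4 := step b3 b3
  have b5 := step b4 b4
  have b6 := step b5 b5
  simp only [wordBad, forceMat_eq, force_eq, Nat.testBit_and]
  rcases h with h | h | h
  · rw [neI_of_one hb h11.1 (h11.2.trans (by norm_num [h]))]; simp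
  · rw [neI_of_one hb h10.1 (h10.2.trans (by norm_num [h]))]; simp
  · rw [neI_of_one hb b6.1 (b6.2.trans (by norm_num [h]))]; simp

/-- The word matrices. -/
def wordMat (v : List ℕ) : List ℕ → List (List ℕ)
  | [] => idm (full 2560)
  | [a] => rot a v
  | a :: w => forceMat (wordMat v w) fun B => forceMat (rot a v) fun A => mm A B

/-- The words which are tested. -/
def wordList : List (List ℕ) := [[1], [1, 3], [1, 10], [2, 3], [1, 1, 2]]

/-- The check of the word conditions. -/
def wordsOK : Bool :=
  forceList ((List.range 25).map fun q => slice q codes) fun v =>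
    Nat.beq (andFold 2560 (wordList.map fun w =>
      forceMat (wordMat v w) fun A => full 2560 ^^^ wordBad 2560 A)) (ofList survivors)

/-- The code lists are consistent. -/
def codesOK : Bool := codes.length == 2560 && survivors.map (fun i => codes.getD i 0) == finalCodes

end Cfsg.Agent.M12Order.Slice
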