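import Cfsg.Agent.Lib.M12Order.Slice

/-!
# The scans over bit slices
-/

set_option autoImplicit false

namespace Cfsg.Agent.M12Order.Slice

theorem chunks_ok : ((List.range 32).all fun c => chunkOK c) = true := by decide +kernel

theorem words_ok : wordsOK = true := by decide +kernel

theorem codes_ok : codesOK = true := by decide +kernel

end Cfsg.Agent.M12Order.Slice
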