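import Cfsg.Agent.Lib.M12Order.Two

/-!
# Simple groups of order 95040: the degrees divisible by eleven
-/

set_option autoImplicit false

namespace Cfsg.Agent.M12Order

/-- The possible degrees over eleven. -/
def ms : List ℕ := [20, 18, 16, 15, 12, 10, 9, 8, 6, 5, 4, 3, 2, 1]

theorem mem_ms : ∀ m ∈ Finset.range 22, 0 < m → m ∣ 8640 → m ∈ ms := by decide +kernel

/-- The value at an element of order five. -/
def nOf (m : ℕ) : ℤ := [0, 1, 2, -2, -1].getD (m % 5) 0

theorem nOf_spec : ∀ m ∈ ms, ∀ n ∈ small, n * n ≤ 5 → (n - 11 * (m : ℤ)) % 5 = 0 → n = nOf m := by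
  decide +kernel

def kindOK (m : ℕ) (v : ℤ) : Bool :=
  decide (v * v ≤ 130) && decide ((v - 11 * (m : ℤ)) % 4 = 0) && decide (36 * v % (m : ℤ) = 0) &&
    (decide (m % 5 ≠ 0) || decide (v % 5 = 0))

/-- A character outside the block: degree over eleven, values at `u` and at `t`. -/
def kinds : List (ℤ × ℤ × ℤ) :=
  ms.flatMap fun m => (small.filter (kindOK m)).map fun v => ((m : ℤ), nOf m, v)

/-- The six moments. -/
def moments (k : ℤ × ℤ × ℤ) : ℤ × ℤ × ℤ × ℤ × ℤ × ℤ :=
  (k.1 * k.1, k.2.1 * k.2.1, k.2.2 * k.2.2, k.1 * k.2.1, k.1 * k.2.2, k.2.1 * k.2.2)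

/-- No completion. -/
def cut (s : ℤ × ℤ × ℤ × ℤ × ℤ × ℤ) : Bool :=
  match s with
  | (A, B, C, D, E, F) => decide (A < 0) || decide (B < 0) || decide (C < 0) ||
      decide (A * B < D * D) || decide (A * C < E * E) || decide (B * C < F * F)

/-- What is to be proved of the list. -/
def goal11 (M : List (ℤ × ℤ × ℤ)) : Bool :=
  decide ((M.map Prod.fst).sum < 48) ||
    (M.any (fun p => p.1 == 1 && p.2.1 == 1) &&
      (decide (M.countP (fun p => p.1 == 1) = 1) ||
        (decide (M.countP (fun p => p.1 == 1) ≤ 2) && decide ((M.map Prod.fst).sum = 48))))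

theorem scan_pos : srch moments cut goal11 600 kinds (450, 5, 130, 15, -114, 1) [] = true := by
  decide +kernel

theorem scan_neg : srch moments cut goal11 600 kinds (450, 5, 130, 15, 14, 9) [] = true := by
  decide +kernel

end Cfsg.Agent.M12Order
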