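import Cfsg.Agent.Lib.M12Order.FourK
import Cfsg.Agent.Lib.M12Order.TenScan

/-!
# Simple groups of order 95040: a character of degree eleven
-/

set_option autoImplicit false
set_option linter.style.haveILetI false
set_option linter.unusedSectionVars false

namespace Cfsg.Agent.M12Order

open Subgroup
open Cfsg.Agent.Characters Cfsg.Agent.Blocks Cfsg.Agent.PrimeBlock
open Cfsg.Agent.SmallSimple
open scoped ComplexConjugate

universe u

noncomputable local instance {G : Type u} [Group G] [Finite G] : Fintype (Cfsg.IrrCharacter G) :=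
  Fintype.ofFinite _

/-- The pruning test is sound: a moment matrix is positive semidefinite. -/
theorem cut_spec (s : ℤ × ℤ × ℤ × ℤ × ℤ × ℤ) (l : List (ℤ × ℤ × ℤ)) (hs : cut s = true)
    (_ : ∀ z ∈ l, True) : (l.map moments).sum ≠ s := by
  intro heq
  obtain ⟨A, B, C, D, E, F'⟩ := s
  have hexp : ∀ (l : List (ℤ × ℤ × ℤ)) (x y z : ℤ),
      (l.map fun p => (x * p.1 + y * p.2.1 + z * p.2.2) * (x * p.1 + y * p.2.1 + z * p.2.2)).sum =
      x * x * (l.map moments).sum.1 + y * y * (l.map moments).sum.2.1 +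
        z * z * (l.map moments).sum.2.2.1 + 2 * x * y * (l.map moments).sum.2.2.2.1 +
        2 * x * z * (l.map moments).sum.2.2.2.2.1 + 2 * y * z * (l.map moments).sum.2.2.2.2.2 := by
    intro l x y z
    induction l with
    | nil => simp
    | cons p l ih' =>
      simp only [List.map_cons, List.sum_cons, Prod.fst_add, Prod.snd_add, moments, ih']
      ring
  have hp : ∀ x y z : ℤ, 0 ≤ x * x * A + y * y * B + z * z * C + 2 * x * y * D + 2 * x * z * E +
      2 * y * z * F' := fun x y z => by
    have h0 : 0 ≤ (l.map fun p : ℤ × ℤ × ℤ =>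
        (x * p.1 + y * p.2.1 + z * p.2.2) * (x * p.1 + y * p.2.1 + z * p.2.2)).sum :=
      List.sum_nonneg fun a ha => by
        obtain ⟨p, -, rfl⟩ := List.mem_map.1 ha
        exact mul_self_nonneg _
    rwa [hexp, heq] at h0
  have hA : 0 ≤ A := by have := hp 1 0 0; linarith
  have hB : 0 ≤ B := by have := hp 0 1 0; linarith
  have hC : 0 ≤ C := by have := hp 0 0 1; linarith
  have two : ∀ A B D : ℤ, 0 ≤ A → 0 ≤ B → (∀ x y : ℤ, 0 ≤ x * x * A + y * y * B + 2 * x * y * D) →
      D * D ≤ A * B := by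
    intro A B D hA hB h
    rcases hA.lt_or_eq with hpos | h0
    · have := h (-D) A
      nlinarith
    · subst h0
      by_cases hD : D = 0
      · subst hD; simp
      · exfalso
        have := h (-(B + 1) * D) 1
        have hD2 : 1 ≤ D * D := Int.add_one_le_iff.2 (lt_of_le_of_ne (mul_self_nonneg D)
          (mul_ne_zero hD hD).symm)
        nlinarith
  have h1 := two A B D hA hB fun x y => by have := hp x y 0; linarith
  have h2 := two A C E hA hC fun x y => by have := hp x 0 y; linarith
  have h3 := two B C F' hB hC fun x y => by have := hp 0 x y; linarith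
  simp only [cut, Bool.or_eq_true, decide_eq_true_eq] at hs
  omega

variable {G : Type u} [Group G] [Finite G] [IsSimpleGroup G] (hcard : Nat.card G = 95040)

include hcard

/-- All generators of a subgroup of order five are conjugate. -/
theorem isConj_pow {u : G} (hu : orderOf u = 5) (hk : cen u = 10)
    (hN : Nat.card (normalizer (zpowers u : Set G)) = 40) {j : ℕ} (hj : ¬ 5 ∣ j) :
    IsConj u (u ^ j) := by
  classical
  haveI := Fintype.ofFinite G
  set N := normalizer (zpowers u : Set G) with hNdef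
  let f : G → G := fun n => n * u * n⁻¹
  set NF : Finset G := Finset.univ.filter (fun n => n ∈ N) with hNF
  have hNc : NF.card = 40 := by
    rw [← hN, Nat.card_eq_fintype_card, Fintype.card_subtype]
  have himg : NF.image f ⊆ {u ^ 1, u ^ 2, u ^ 3, u ^ 4} := by
    intro y hy
    obtain ⟨n, hn, rfl⟩ := Finset.mem_image.1 hy
    have hm := (mem_normalizer_iff.1 (Finset.mem_filter.1 hn).2 u).1 (mem_zpowers u)
    obtain ⟨i, hi⟩ := mem_powers_iff_mem_zpowers.2 hm
    replace hi : u ^ i = n * u * n⁻¹ := hi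
    have hi0 : i % 5 ≠ 0 := fun h0 => by
      have h1 : u ^ i = 1 := by
        rw [← Nat.div_add_mod i 5, h0, add_zero, pow_mul, ← hu, pow_orderOf_eq_one, one_pow]
      rw [hi] at h1
      have h2 : u = 1 := by simpa using h1
      rw [h2, orderOf_one] at hu; norm_num at hu
    show n * u * n⁻¹ ∈ _
    rw [← hi, pow_eq_pow_mod i (show u ^ 5 = 1 from hu ▸ pow_orderOf_eq_one u)]
    have := Nat.mod_lt i (show 5 > 0 by norm_num)
    interval_cases hh : i % 5
    · exact absurd rfl hi0
    all_goals simp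
  have hfib : ∀ y ∈ NF.image f, (NF.filter fun n => f n = y).card ≤ 10 := by
    intro y hy
    obtain ⟨n₀, -, rfl⟩ := Finset.mem_image.1 hy
    rw [← hk, cen, Nat.card_eq_fintype_card, Fintype.card_subtype]
    refine Finset.card_le_card_of_injOn (fun n => n₀⁻¹ * n) (fun n hn => ?_) fun a _ b _ h =>
      mul_left_cancel h
    simp only [Finset.mem_coe, Finset.mem_filter] at hn
    simp only [Finset.mem_coe, Finset.mem_filter, Finset.mem_univ, true_and,
      mem_centralizer_singleton_iff]
    have he : n * u * n⁻¹ = n₀ * u * n₀⁻¹ := hn.2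
    calc n₀⁻¹ * n * u = n₀⁻¹ * (n * u * n⁻¹) * n := by group
      _ = n₀⁻¹ * (n₀ * u * n₀⁻¹) * n := by rw [he]
      _ = u * (n₀⁻¹ * n) := by group
  have hle := Finset.card_le_mul_card_image NF 10 hfib
  have heq : NF.image f = {u ^ 1, u ^ 2, u ^ 3, u ^ 4} := Finset.eq_of_subset_of_card_le himg (by
    have : ({u ^ 1, u ^ 2, u ^ 3, u ^ 4} : Finset G).card ≤ 4 := Finset.card_le_four
    omega)
  have hmem : u ^ j ∈ NF.image f := by
    rw [heq, pow_eq_pow_mod j (show u ^ 5 = 1 from hu ▸ pow_orderOf_eq_one u)]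
    have h0 : j % 5 ≠ 0 := fun h0 => hj (Nat.dvd_of_mod_eq_zero h0)
    have := Nat.mod_lt j (show 5 > 0 by norm_num)
    interval_cases hh : j % 5
    · exact absurd rfl h0
    all_goals simp
  obtain ⟨n, -, hn⟩ := Finset.mem_image.1 hmem
  exact isConj_iff.2 ⟨n, hn⟩

/-- Every character is integral at the element of order five. -/
theorem five_int {u : G} (hu : orderOf u = 5) (hk : cen u = 10)
    (hN : Nat.card (normalizer (zpowers u : Set G)) = 40) (χ : Cfsg.IrrCharacter G) :
    (χ : G → ℂ) u = (iv u χ : ℂ) := by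
  haveI := Fintype.ofFinite G
  obtain ⟨k, hkv⟩ := exists_int_of_pow_fixed (irr_isCharacter χ) (g := u) fun j hj => by
    have h5 : ¬ 5 ∣ j := fun hd => by
      have := Nat.Coprime.coprime_dvd_left hd hj
      rw [hcard] at this; norm_num at this
    obtain ⟨g, hg⟩ := isConj_iff.1 (isConj_pow hcard hu hk hN h5)
    rw [← hg]
    obtain ⟨n, ρ, hρ, hchar⟩ := χ.2
    rw [← hchar, ρ.char_conj]
  rw [iv_eq hkv, hkv]

/-- The involution of the centralizer is central in the normalizer. -/
theorem ten_inv {u t : G} (F : Frame G) (hu : orderOf u = 5) (hk : cen u = 10)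
    (hN : Nat.card (normalizer (zpowers u : Set G)) = 40) (ht : orderOf t = 2) (hut : Commute u t) :
    cen t = 240 := by
  set N := normalizer (zpowers u : Set G) with hNdef
  set C := centralizer ({u} : Set G) with hC
  have htC : t ∈ C := mem_centralizer_singleton_iff.2 hut.eq.symm
  have hgen : zpowers (u * t) = C := by
    refine eq_of_le_of_card_ge (zpowers_le.2 (mul_mem (mem_centralizer_singleton_iff.2 rfl) htC)) ?_
    rw [show Nat.card C = 10 from hk, Nat.card_zpowers,
      hut.orderOf_mul_eq_mul_orderOf_of_coprime (by rw [hu, ht]; norm_num), hu, ht]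
  have huniq : ∀ s ∈ C, orderOf s = 2 → s = t := by
    intro s hs hso
    obtain ⟨i, hi⟩ := mem_powers_iff_mem_zpowers.2 (hgen.symm ▸ hs : s ∈ zpowers (u * t))
    replace hi : (u * t) ^ i = s := hi
    have h2 : s ^ 5 = s := by
      rw [show s ^ 5 = (s ^ 2) ^ 2 * s by rw [← pow_mul, ← pow_succ], ← hso, pow_orderOf_eq_one,
        one_pow, one_mul]
    rw [← h2, ← hi, ← pow_mul, mul_comm i 5, pow_mul, hut.mul_pow, ← hu, pow_orderOf_eq_one, one_mul]
    have ht5 : t ^ orderOf u = t := by
      rw [hu, show t ^ 5 = (t ^ 2) ^ 2 * t by rw [← pow_mul, ← pow_succ], ← ht, pow_orderOf_eq_one,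
        one_pow, one_mul]
    rw [ht5]
    rcases Nat.even_or_odd i with ⟨j, hj⟩ | ⟨j, hj⟩
    · exfalso
      have : s = 1 := by
        rw [← h2, ← hi, ← pow_mul, mul_comm i 5, pow_mul, hut.mul_pow, ← hu, pow_orderOf_eq_one,
          one_mul, ht5, hj, ← two_mul, pow_mul, ← ht, pow_orderOf_eq_one, one_pow]
      rw [this, orderOf_one] at hso; norm_num at hso
    · rw [hj, pow_succ, pow_mul, ← ht, pow_orderOf_eq_one, one_pow, one_mul]
  set H := centralizer ({t} : Set G) with hH
  have hNH : N ≤ H := fun n hn => by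
    have h1 := conj_mem_cen hn htC
    have h2 : orderOf (n * t * n⁻¹) = 2 := by
      rw [← ht]; exact MulEquiv.orderOf_eq (MulAut.conj n) t
    exact mem_centralizer_singleton_iff.2 (mul_inv_eq_iff_eq_mul.1 (huniq _ h1 h2))
  obtain ⟨m, hm, hm5⟩ := conj_count_mod hu (not_twentyfive hcard) H (hNH (le_normalizer (mem_zpowers u)))
  rw [inf_eq_left.2 hNH, hN] at hm
  change cen t = m * 40 at hm
  rcases (cen_inv_five hcard F hu ht hut).2 with e | e
  · rw [e] at hm; omega
  · exact e

/-- A character of degree eleven, integral on the elements of odd order. -/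
theorem exists_deg_eleven (F : Frame G) :
    ∃ (u t : G) (χ : Cfsg.IrrCharacter G), orderOf u = 5 ∧ orderOf t = 2 ∧ Commute u t ∧
      cen u = 10 ∧ Nat.card (normalizer (zpowers u : Set G)) = 40 ∧ cen t = 240 ∧
      deg χ = 11 ∧ (χ : G → ℂ) u = 1 ∧ (χ : G → ℂ) F.x = 0 ∧
      ∀ g : G, ¬ 2 ∣ orderOf g → ∃ k : ℤ, (χ : G → ℂ) g = (k : ℂ) := by
  classical
  haveI := Fintype.ofFinite G
  have hG := not_comm hcard
  obtain ⟨u, hu, hk, hN, t, ht, hut⟩ := exists_five_ten hcard F
  have hct := ten_inv hcard F hu hk hN ht hut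
  have hui := five_int hcard hu hk hN
  have hti := iv_spec hG ht
  have hu1 : u ≠ 1 := fun h => by rw [h, orderOf_one] at hu; norm_num at hu
  have ht1 : t ≠ 1 := fun h => by rw [h, orderOf_one] at ht; norm_num at ht
  -- values on the block
  obtain ⟨a, b, c, ⟨e45, ha, e120, hb, eθ, eθ'⟩, ca, cb, cc, rfl, hbd⟩ := five_vals hcard F hu
  rw [hk] at hbd
  push_cast at hbd
  have has : a * a ≤ 144 := by nlinarith [sq_nonneg b, sq_nonneg (1 - a + b)]
  have hbs : b * b ≤ 144 := by nlinarith [sq_nonneg a, sq_nonneg (1 - a + b)]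
  obtain ⟨rfl, rfl⟩ : a = -1 ∧ b = -1 := by
    rcases scan_n 2 (by simp) a (mem_small has) b (mem_small hbs) ca cb cc (by norm_num)
      (by push_cast; linarith) with ⟨-, h⟩ | h | h
    · exact h
    · omega
    · omega
  obtain ⟨-, t45, t54, t120, t144, tθ, tθ'⟩ := F.inv_five hcard ht (by rw [hct]; norm_num)
  set α := iv t F.c144
  -- the moments
  have n2 := F.sum_self (iv u) hui
  rw [F.sum_B, iv_triv, iv_eq e45, iv_eq ha, iv_eq e120, iv_eq hb, iv_eq eθ, iv_eq eθ', hk] at n2
  have v2 := F.sum_self (iv t) hti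
  rw [F.sum_B, iv_triv, t45, t54, t120, tθ, tθ', hct] at v2
  have hα2 : α * α = 16 := by rcases t144 with e | e <;> rw [e] <;> norm_num
  have mn := F.sum_deg hu1 (iv u) hui
  rw [iv_triv, iv_eq e45, iv_eq ha, iv_eq e120, iv_eq hb, iv_eq eθ, iv_eq eθ'] at mn
  have mv := F.sum_deg ht1 (iv t) hti
  rw [iv_triv, t45, t54, t120, tθ, tθ'] at mv
  have hne : ¬ IsConj u t := fun h => by
    obtain ⟨g, hg⟩ := isConj_iff.1 h
    have := MulEquiv.orderOf_eq (MulAut.conj g) u
    rw [show MulAut.conj g u = t from hg, hu, ht] at this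
    norm_num at this
  have nv := F.sum_pair hne (iv u) (iv t) hui hti
  rw [F.sum_B, iv_triv, iv_triv, iv_eq e45, iv_eq ha, iv_eq e120, iv_eq hb, iv_eq eθ, iv_eq eθ',
    t45, t54, t120, tθ, tθ'] at nv
  have m2 := F.sum_m_sq hcard
  obtain ⟨M5, hM5⟩ := BlockCharsA.DefectZeroVanish.exists_modular (p := 5) (by norm_num)
  let q : Cfsg.IrrCharacter G → ℤ × ℤ × ℤ := fun χ => ((Frame.m χ : ℤ), iv u χ, iv t χ)
  set L := F.R.toList.map q with hL
  have hmem : ∀ z ∈ L, z ∈ kinds := by
    intro z hz
    obtain ⟨χ, hχ, rfl⟩ := List.mem_map.1 hz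
    rw [Finset.mem_toList] at hχ
    have hdeg := Frame.deg_eq hχ
    set m := Frame.m χ with hm
    have hpos : 0 < deg χ := charDegree_pos χ
    have hmsq : (m : ℤ) * m ≤ 450 := m2 ▸ Finset.single_le_sum
      (f := fun ψ => (Frame.m ψ : ℤ) * (Frame.m ψ : ℤ)) (fun ψ _ => mul_self_nonneg _) hχ
    have hm22 : m < 22 := by by_contra hc; nlinarith
    have hdvd : m ∣ 8640 := by
      have := deg_dvd hcard χ
      rw [hdeg, show 95040 = 11 * 8640 by norm_num] at this
      exact Nat.dvd_of_mul_dvd_mul_left (by norm_num) this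
    have hms := mem_ms m (Finset.mem_range.2 hm22) (by omega) hdvd
    have hn5 : iv u χ * iv u χ ≤ 5 := by
      have := Finset.single_le_sum (f := fun ψ => iv u ψ * iv u ψ) (fun ψ _ => mul_self_nonneg _) hχ
      push_cast at n2
      linarith
    have hv130 : iv t χ * iv t χ ≤ 130 := by
      have := Finset.single_le_sum (f := fun ψ => iv t ψ * iv t ψ) (fun ψ _ => mul_self_nonneg _) hχ
      push_cast at v2
      linarith
    have hcg : (5 : ℤ) ∣ iv u χ - (deg χ : ℤ) :=
      cong_int hM5 χ (Commute.one_right u) (k := 1) (by rw [pow_one, ← hu, pow_orderOf_eq_one])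
        (by simp) (by rw [mul_one]; exact hui χ) (by rw [← deg_cast]; simp)
    rw [hdeg] at hcg
    push_cast at hcg
    have hn := nOf_spec m hms (iv u χ) (mem_small (by linarith)) hn5 (by omega)
    refine List.mem_flatMap.2 ⟨m, hms, List.mem_map.2 ⟨iv t χ,
      List.mem_filter.2 ⟨mem_small (by linarith), ?_⟩, by rw [← hn]⟩⟩
    have h4 := iv_four hG ht χ
    rw [hdeg] at h4
    push_cast at h4
    have hdv := deg_dvd_cls hcard χ (hti χ)
    rw [show cls t = 396 by have := cen_mul_cls hcard t; rw [hct] at this; omega, hdeg] at hdv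
    push_cast at hdv
    simp only [kindOK, Bool.and_eq_true, Bool.or_eq_true, decide_eq_true_eq]
    refine ⟨⟨⟨hv130, by omega⟩, ?_⟩, ?_⟩
    · apply Int.emod_eq_zero_of_dvd
      rw [show (396 : ℤ) * iv t χ = 11 * (36 * iv t χ) by ring] at hdv
      exact Int.dvd_of_mul_dvd_mul_left (by norm_num) hdv
    · by_cases h5 : 5 ∣ m
      · refine Or.inr (Int.emod_eq_zero_of_dvd ?_)
        have h0 : (χ : G → ℂ) (u * t) = ((0 : ℤ) : ℂ) := by
          rw [five_zero hcard χ (hdeg ▸ h5.mul_left 11) (by
            rw [hut.orderOf_mul_eq_mul_orderOf_of_coprime (by rw [hu, ht]; norm_num), hu]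
            exact dvd_mul_right 5 _)]
          simp
        have := cong_int hM5 χ hut (k := 1) (by rw [pow_one, ← hu, pow_orderOf_eq_one])
          (by rw [ht]; norm_num) h0 (hti χ)
        simpa using this
      · exact Or.inl (by omega)
  have hsums : ∀ (f : ℤ × ℤ × ℤ → ℤ), (L.map f).sum = ∑ χ ∈ F.R, f (q χ) := fun f => by
    rw [hL, List.map_map, Finset.sum_map_toList]; rfl
  have hmom : (L.map moments).sum =
      (450, 5, 130, 15, -50 - 16 * α, 5 - α) := by
    rw [hL, List.map_map, Finset.sum_map_toList]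
    simp only [Prod.ext_iff, Prod.fst_sum, Prod.snd_sum, moments, q, Function.comp_apply]
    push_cast at n2 v2
    exact ⟨m2, by linarith, by linarith, by linarith, by linarith, by linarith⟩
  obtain ⟨M, hM, hgood⟩ : ∃ M : List (ℤ × ℤ × ℤ), M.Perm L ∧ goal11 M = true := by
    rcases t144 with e | e <;> rw [e] at hmom <;> norm_num at hmom
    · exact srch_spec (U := fun _ => True) cut_spec scan_pos hmem (fun _ _ => trivial) hmom
    · exact srch_spec (U := fun _ => True) cut_spec scan_neg hmem (fun _ _ => trivial) hmom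
  -- counting involutions
  obtain ⟨z, hz, hz192⟩ := exists_192 hcard F
  have htz : ¬ IsConj t z := fun hconj => by
    have hcl : cls t = cls z := by
      rw [← cls_eq_card, ← cls_eq_card]
      exact Nat.card_congr (Equiv.subtypeEquivRight fun h =>
        ⟨fun h' => hconj.symm.trans h', fun h' => hconj.trans h'⟩)
    have h1 := cen_mul_cls hcard t
    have h2 := cen_mul_cls hcard z
    rw [hct, hcl] at h1
    rw [hz192] at h2
    omega
  have hcount := le_card_sq_one (L := [t, z]) (by simp [ht, hz]) (List.pairwise_pair.2 htz)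
  have q1 := cen_mul_cls hcard t
  have q2 := cen_mul_cls hcard z
  rw [hct] at q1; rw [hz192] at q2
  simp only [List.map_cons, List.map_nil, List.sum_cons, List.sum_nil] at hcount
  obtain ⟨hfs, hfseq⟩ := fs_bound F
  have hinv : (892 : ℤ) ≤ (Nat.card {s : G // s * s = 1} : ℤ) := by
    exact_mod_cast (show 892 ≤ Nat.card {s : G // s * s = 1} by omega)
  have hMsum : (M.map Prod.fst).sum = ∑ χ ∈ F.R, (Frame.m χ : ℤ) := by
    rw [(hM.map Prod.fst).sum_eq, hsums]
  have hMcount : M.countP (fun p => p.1 == 1) = (F.R.filter fun χ => Frame.m χ = 1).card := by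
    rw [hM.countP_eq, hL, List.countP_map, ← Finset.length_toList, List.countP_eq_length_filter]
    apply List.Perm.length_eq
    apply (List.perm_ext_iff_of_nodup ((Finset.nodup_toList _).filter _) (Finset.nodup_toList _)).2
    intro χ
    simp [q]
  simp only [goal11, Bool.or_eq_true, Bool.and_eq_true, decide_eq_true_eq, List.any_eq_true,
    beq_iff_eq] at hgood
  rcases hgood with h | ⟨⟨p, hp, hp1, hp2⟩, hcase⟩
  · omega
  obtain ⟨χ, hχ, rfl⟩ := List.mem_map.1 (hM.subset hp)
  rw [Finset.mem_toList] at hχ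
  simp only [q] at hp1 hp2
  have hm1 : Frame.m χ = 1 := by exact_mod_cast hp1
  have hd11 : deg χ = 11 := by rw [Frame.deg_eq hχ, hm1]
  refine ⟨u, t, χ, hu, ht, hut, hk, hN, hct, hd11, by rw [hui, hp2]; simp, F.R_zero hχ, ?_⟩
  -- Galois twists
  let tw : ∀ j : ℕ, j.Coprime (Nat.card G) → Cfsg.IrrCharacter G := fun j hj =>
    ⟨fun g => (χ : G → ℂ) (g ^ j), OddChar.PowTwist.isIrr_comp_pow χ.2 hj⟩
  have htwS : ∀ (j : ℕ) (hj : j.Coprime (Nat.card G)),
      tw j hj ∈ F.R.filter fun ψ => Frame.m ψ = 1 := by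
    intro j hj
    have hd : deg (tw j hj) = 11 := by
      have : (deg (tw j hj) : ℂ) = deg χ := by rw [deg_cast, deg_cast]; simp [tw]
      rw [← hd11]; exact_mod_cast this
    rw [Finset.mem_filter, F.mem_R]
    refine ⟨?_, by rw [Frame.m, hd]⟩
    intro hB
    simp only [Frame.B, blockSet, Finset.mem_insert, Finset.mem_singleton] at hB
    have h1 : deg (trivIrr G) = 1 := deg_trivIrr
    rcases hB with e | e | e | e | e | e | e <;> rw [e] at hd <;>
      first | omega | (rw [F.d45] at hd; omega) | (rw [F.d54] at hd; omega) |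
        (rw [F.d120] at hd; omega) | (rw [F.d144] at hd; omega) | (rw [F.d16] at hd; omega) |
        (rw [F.d16'] at hd; omega)
  have hχS : χ ∈ F.R.filter fun ψ => Frame.m ψ = 1 := Finset.mem_filter.2 ⟨hχ, hm1⟩
  intro g hg
  refine exists_int_of_pow_fixed (irr_isCharacter χ) fun j hj => ?_
  rcases hcase with hone | ⟨htwo, h48⟩
  · rw [hMcount, Finset.card_eq_one] at hone
    obtain ⟨ψ, hψ⟩ := hone
    have e1 := Finset.mem_singleton.1 (hψ ▸ htwS j hj)
    have e2 := Finset.mem_singleton.1 (hψ ▸ hχS)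
    exact congrArg (fun φ : Cfsg.IrrCharacter G => (φ : G → ℂ) g) (e1.trans e2.symm)
  -- all values outside the block are real
  rw [hMcount] at htwo
  have hreal := hfseq (by omega) χ hχ
  -- squares act trivially
  have hsq : ∀ (i : ℕ), i.Coprime (Nat.card G) → ∀ h : G, (χ : G → ℂ) (h ^ (i * i)) = (χ : G → ℂ) h := by
    intro i hi h
    by_contra hne
    have hii : (i * i).Coprime (Nat.card G) := Nat.Coprime.mul_left hi hi
    have hne1 : tw (i * i) hii ≠ χ := fun e =>
      hne (congrArg (fun φ : Cfsg.IrrCharacter G => (φ : G → ℂ) h) e)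
    have hne2 : tw i hi ≠ χ := fun e => hne (by
      have h1 := congrArg (fun φ : Cfsg.IrrCharacter G => (φ : G → ℂ) (h ^ i)) e
      have h2 := congrArg (fun φ : Cfsg.IrrCharacter G => (φ : G → ℂ) h) e
      simp only [tw] at h1 h2
      rw [pow_mul, h1, h2])
    have hne3 : tw (i * i) hii ≠ tw i hi := fun e => by
      refine hne2 (Subtype.ext (funext fun w => ?_))
      obtain ⟨w', rfl⟩ : ∃ w', w' ^ i = w :=
        (powCoprime hi.symm).surjective w
      have h1 := congrArg (fun φ : Cfsg.IrrCharacter G => (φ : G → ℂ) w') e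
      simp only [tw] at h1
      rwa [pow_mul] at h1
    have hcard3 : ({tw (i * i) hii, tw i hi, χ} : Finset (Cfsg.IrrCharacter G)).card = 3 :=
      Finset.card_eq_three.2 ⟨_, _, _, hne3, hne1, hne2, rfl⟩
    have hsub : ({tw (i * i) hii, tw i hi, χ} : Finset (Cfsg.IrrCharacter G)) ⊆
        F.R.filter fun ψ => Frame.m ψ = 1 := by
      intro ψ hψ
      simp only [Finset.mem_insert, Finset.mem_singleton] at hψ
      rcases hψ with rfl | rfl | rfl
      · exact htwS _ hii
      · exact htwS _ hi
      · exact hχS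
    have := Finset.card_le_card hsub
    omega
  have hinvv : ∀ h : G, (χ : G → ℂ) h⁻¹ = (χ : G → ℂ) h := fun h => by
    rw [char_inv (irr_isCharacter χ)]
    exact Complex.conj_eq_iff_im.2 (hreal h)
  -- the odd orders
  have hgd : orderOf g ∣ 1485 := by
    have h1 : orderOf g ∣ 2 ^ 6 * 1485 := by
      have := orderOf_dvd_natCard g; rwa [hcard] at this
    exact (((Nat.prime_two.coprime_iff_not_dvd.2 hg).symm).pow_right 6).dvd_of_dvd_mul_left h1
  by_cases h11 : 11 ∣ orderOf g
  · -- order eleven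
    have hy : orderOf (g ^ (orderOf g / 11)) = 11 := by
      rw [orderOf_pow_of_dvd (Nat.div_pos (Nat.le_of_dvd (orderOf_pos g) h11) (by norm_num)).ne'
        (Nat.div_dvd_of_dvd h11), Nat.div_div_self h11 (orderOf_pos g).ne']
    have hgC : g ∈ centralizer ({g ^ (orderOf g / 11)} : Set G) :=
      mem_centralizer_singleton_iff.2 (Commute.self_pow g _).eq
    have h := orderOf_dvd_natCard (⟨g, hgC⟩ : centralizer ({g ^ (orderOf g / 11)} : Set G))
    rw [Subgroup.orderOf_mk, show Nat.card (centralizer ({g ^ (orderOf g / 11)} : Set G)) = 11 from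
      (cen_eleven hcard hy).1] at h
    have hgo : orderOf g = 11 := Nat.dvd_antisymm h h11
    have hzero : ∀ w : G, orderOf w = 11 → (χ : G → ℂ) w = 0 := by
      intro w hw
      exact BlockCharsA.DefectZeroVanish.eq_zero_of_singular (p := 11) (by norm_num) χ (by
        have : (Nat.card G).factorization 11 = 1 := by
          rw [hcard, show (95040 : ℕ) = 11 * 8640 by norm_num, Nat.factorization_mul (by norm_num) (by norm_num),
            Finsupp.add_apply, Nat.Prime.factorization_self (by norm_num),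
            Nat.factorization_eq_zero_of_not_dvd (by norm_num)]
        rw [this, pow_one, show Cfsg.charDegree (χ : G → ℂ) = 11 from hd11]) (by rw [hw])
    rw [hzero g hgo, hzero (g ^ j) (by
      rw [Nat.Coprime.orderOf_pow, hgo]
      rw [hgo]
      exact (Nat.Coprime.coprime_dvd_right (by rw [hcard]; norm_num) hj).symm)]
  by_cases h5 : 5 ∣ orderOf g
  · -- order five
    set y := g ^ (orderOf g / 5) with hydef
    have hy : orderOf y = 5 := by
      rw [hydef, orderOf_pow_of_dvd (Nat.div_pos (Nat.le_of_dvd (orderOf_pos g) h5) (by norm_num)).ne'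
        (Nat.div_dvd_of_dvd h5), Nat.div_div_self h5 (orderOf_pos g).ne']
    obtain ⟨P, hP⟩ := sylow_of_order_five hcard hu
    obtain ⟨Q, hQ⟩ := sylow_of_order_five hcard hy
    obtain ⟨h, hh⟩ := MulAction.exists_smul_eq G P Q
    have hmem : h * u * h⁻¹ ∈ zpowers y := by
      rw [← hQ, ← hh, Sylow.coe_subgroup_smul]
      exact ⟨u, hP ▸ mem_zpowers u, rfl⟩
    obtain ⟨i, hi⟩ := mem_zpowers_iff.1
      ((eq_of_le_of_card_ge (zpowers_le.2 hmem) (by
        rw [Nat.card_zpowers, Nat.card_zpowers, hy,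
          show orderOf (h * u * h⁻¹) = 5 by rw [← hu]; exact MulEquiv.orderOf_eq (MulAut.conj h) u])).ge
        (mem_zpowers y))
    have hcy : cen y ∣ 10 := by
      have hsub : centralizer ({y} : Set G) ≤
          (centralizer ({u} : Set G)).map (MulAut.conj h).toMonoidHom := by
        intro w hw
        refine ⟨h⁻¹ * w * h, mem_centralizer_singleton_iff.2 ?_, by simp [mul_assoc]⟩
        have h1 : Commute w (h * u * h⁻¹) := by
          obtain ⟨i', hi'⟩ := mem_zpowers_iff.1 hmem
          rw [← hi']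
          exact (show Commute w y from mem_centralizer_singleton_iff.1 hw).zpow_right i'
        calc h⁻¹ * w * h * u = h⁻¹ * (w * (h * u * h⁻¹)) * h := by group
          _ = h⁻¹ * ((h * u * h⁻¹) * w) * h := by rw [h1.eq]
          _ = u * (h⁻¹ * w * h) := by group
      have := card_dvd_of_le hsub
      rw [card_map_of_injective (MulAut.conj h).injective] at this
      rwa [show Nat.card (centralizer ({u} : Set G)) = 10 from hk] at this
    have hgC : g ∈ centralizer ({y} : Set G) :=
      mem_centralizer_singleton_iff.2 (Commute.self_pow g _).eq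
    have hd := (orderOf_dvd_natCard (⟨g, hgC⟩ : centralizer ({y} : Set G))).trans hcy
    rw [Subgroup.orderOf_mk] at hd
    have hgo : orderOf g = 5 := Nat.dvd_antisymm
      (((Nat.prime_two.coprime_iff_not_dvd.2 hg).symm).dvd_of_dvd_mul_left (show orderOf g ∣ 2 * 5 from hd)) h5
    -- every power of a conjugate of `u`
    have hval : ∀ w : G, orderOf w = 5 → (χ : G → ℂ) w = (χ : G → ℂ) u := by
      intro w hw
      obtain ⟨Q', hQ'⟩ := sylow_of_order_five hcard hw
      obtain ⟨h', hh'⟩ := MulAction.exists_smul_eq G Q' P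
      have hm' : h' * w * h'⁻¹ ∈ zpowers u := by
        rw [← hP, ← hh', Sylow.coe_subgroup_smul]
        exact ⟨w, hQ' ▸ mem_zpowers w, rfl⟩
      obtain ⟨k, hk'⟩ := mem_powers_iff_mem_zpowers.2 hm'
      replace hk' : u ^ k = h' * w * h'⁻¹ := hk'
      have hk5 : ¬ 5 ∣ k := fun hd => by
        obtain ⟨c, rfl⟩ := hd
        rw [pow_mul, ← hu, pow_orderOf_eq_one, one_pow] at hk'
        have : w = 1 := by simpa using hk'.symm
        rw [this, orderOf_one] at hw; norm_num at hw
      obtain ⟨d, hd⟩ := isConj_iff.1 (isConj_pow hcard hu hk hN hk5)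
      obtain ⟨n, ρ, hρ, hchar⟩ := χ.2
      rw [← hchar, ← ρ.char_conj w h', ← hk', ← hd, ρ.char_conj]
    rw [hval g hgo, hval (g ^ j) (by
      rw [Nat.Coprime.orderOf_pow, hgo]
      rw [hgo]
      exact (Nat.Coprime.coprime_dvd_right (by rw [hcard]; norm_num) hj).symm)]
  -- powers of three
  have h27 : orderOf g ∣ 27 := by
    have h1 : orderOf g ∣ 27 * 55 := hgd
    refine Nat.Coprime.dvd_of_dvd_mul_right ?_ h1
    rw [show (55 : ℕ) = 5 * 11 by norm_num]
    exact Nat.Coprime.mul_right (((Nat.Prime.coprime_iff_not_dvd (by norm_num)).2 h5).symm)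
      (((Nat.Prime.coprime_iff_not_dvd (by norm_num)).2 h11).symm)
  have hj3 : ¬ 3 ∣ j := fun hd => by
    have := Nat.Coprime.coprime_dvd_left hd hj
    rw [hcard] at this; norm_num at this
  have hlift : ∀ r ∈ Finset.range 27, ¬ 3 ∣ r → ∃ i ∈ [1, 13, 17, 19, 23, 29, 31, 37, 41, 43, 47, 53, 59, 61, 67, 71, 73, 79, 83, 89],
      i * i % 27 = r ∨ (i * i + r) % 27 = 0 := by decide +kernel
  obtain ⟨i, hi, hir⟩ := hlift (j % 27) (Finset.mem_range.2 (Nat.mod_lt _ (by norm_num))) (by omega)
  have hic : i.Coprime (Nat.card G) := by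
    rw [hcard]
    simp only [List.mem_cons, List.not_mem_nil, or_false] at hi
    rcases hi with rfl | rfl | rfl | rfl | rfl | rfl | rfl | rfl | rfl | rfl | rfl | rfl | rfl | rfl |
      rfl | rfl | rfl | rfl | rfl | rfl <;> norm_num
  have hp27 : ∀ n : ℕ, g ^ n = g ^ (n % 27) := fun n =>
    pow_eq_pow_mod n (orderOf_dvd_iff_pow_eq_one.1 h27)
  rcases hir with hir | hir
  · rw [hp27 j, ← hir, ← hp27, hsq i hic]
  · rw [show g ^ j = (g ^ (i * i))⁻¹ by
      rw [eq_inv_iff_mul_eq_one, ← pow_add, hp27, show (j + i * i) % 27 = 0 by omega, pow_zero],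
      hinvv, hsq i hic]

end Cfsg.Agent.M12Order
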