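import Cfsg.Agent.Lib.M12Order.Count
import Cfsg.Agent.Lib.M12Order.Six

/-!
# Simple groups of order 95040: the centralizer of an element of order five has order ten
-/

set_option autoImplicit false
set_option linter.style.haveILetI false
set_option linter.unusedSectionVars false

namespace Cfsg.Agent.M12Order

open Subgroup
open Cfsg.Agent.Characters Cfsg.Agent.Blocks Cfsg.Agent.PrimeBlock
open Cfsg.Agent.SmallSimple
open scoped ComplexConjugate

universe u

noncomputable local instance {G : Type u} [Group G] [Finite G] : Fintype (Cfsg.IrrCharacter G) :=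
  Fintype.ofFinite _

/-- The range searched. -/
def small : List ℤ := (List.range 25).map fun i : ℕ => (i : ℤ) - 12

theorem mem_small {v : ℤ} (h : v * v ≤ 144) : v ∈ small := by
  have h1 : v ≤ 12 := by by_contra hc; nlinarith
  have h2 : -12 ≤ v := by by_contra hc; nlinarith
  exact List.mem_map.2 ⟨(v + 12).toNat, List.mem_range.2 (by omega), by omega⟩

theorem scan_n : ∀ k ∈ ([2, 4, 12, 24] : List ℕ), ∀ a ∈ small, ∀ b ∈ small, (a - 4) % 5 = 0 →
    (b - 4) % 5 = 0 → ((1 - a + b) - 1) % 5 = 0 → (3 ∣ k → a % 3 = 0) →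
    1 + a * a + b * b + 2 * ((1 - a + b) * (1 - a + b)) ≤ 5 * (k : ℤ) →
    (k = 2 ∧ a = -1 ∧ b = -1) ∨ (k = 4 ∧ a = -1 ∧ b = -1) ∨
      (k = 24 ∧ a = -6 ∧ (b = -6 ∨ b = -1)) := by
  decide +kernel

theorem scan_w : ∀ a ∈ ([4, -4] : List ℤ), ∀ p ∈ small, ∀ q ∈ small, (p - 6) % 5 = 0 →
    (q - a) % 5 = 0 → ((1 - p + q) - a) % 5 = 0 → (p + 6) % 2 = 0 → (q + 6) % 2 = 0 →
    ((1 - p + q) - 1) % 2 = 0 → p % 3 = 0 →
    1 + p * p + q * q + 2 * ((1 - p + q) * (1 - p + q)) ≤ 120 →
    45 * (120 - (1 + p * p + q * q + 2 * ((1 - p + q) * (1 - p + q)))) <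
      (1 - 6 * p - 6 * q + 2 * (1 - p + q)) * (1 - 6 * p - 6 * q + 2 * (1 - p + q)) := by
  decide +kernel

variable {G : Type u} [Group G] [Finite G] [IsSimpleGroup G] (hcard : Nat.card G = 95040)

include hcard

theorem cen_inv_five {u t : G} (F : Frame G) (hu : orderOf u = 5) (ht : orderOf t = 2)
    (hc : Commute u t) : 5 ∣ cen t ∧ (cen t = 120 ∨ cen t = 240) := by
  have h5 : 5 ∣ cen t := by
    have := orderOf_dvd_natCard (⟨u, mem_centralizer_singleton_iff.2 hc.eq⟩ :
      centralizer ({t} : Set G))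
    rwa [Subgroup.orderOf_mk, hu] at this
  exact ⟨h5, (F.inv_five hcard ht h5).1⟩

/-- The normalizer has order at most 2-part sixteen. -/
theorem not_thirty_two {u : G} (F : Frame G) (hu : orderOf u = 5) (h2 : 2 ∣ cen u) :
    ¬ 32 ∣ Nat.card (normalizer (zpowers u : Set G)) := fun h => by
  obtain ⟨t, ht, hc, S, hS, -, hSt⟩ := exists_central_inv h2 (a := 5) (by simpa using h)
  have hd := card_dvd_of_le hSt
  rw [hS] at hd
  rcases (cen_inv_five hcard F hu ht hc).2 with e | e <;>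
    rw [show Nat.card (centralizer ({t} : Set G)) = cen t from rfl, e] at hd <;> norm_num at hd

theorem three_dvd_val {u : G} (F : Frame G) {r : G} (hr : orderOf r = 3) (hru : Commute r u)
    (hu : ¬ 3 ∣ orderOf u) {v : ℤ} (hv : (F.c54 : G → ℂ) u = (v : ℂ)) : (3 : ℤ) ∣ v := by
  obtain ⟨M3, hM3⟩ := BlockCharsA.DefectZeroVanish.exists_modular (p := 3) Nat.prime_three
  have h0 : (F.c54 : G → ℂ) (r * u) = ((0 : ℤ) : ℂ) := by
    rw [three_zero hcard _ (by rw [F.d54]; norm_num) (by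
      rw [hru.orderOf_mul_eq_mul_orderOf_of_coprime (by
        rw [hr]; exact (Nat.Prime.coprime_iff_not_dvd Nat.prime_three).2 hu), hr]
      exact dvd_mul_right 3 _)]
    simp
  have := cong_int hM3 F.c54 hru (k := 1) (by rw [pow_one, ← hr, pow_orderOf_eq_one]) hu h0 hv
  simpa using this

set_option maxHeartbeats 800000 in
/-- Excluding centralizers of order `120`. -/
theorem ne_twenty_four {u : G} (hu : orderOf u = 5) (F : Frame G) (hk : cen u = 120)
    (hN : Nat.card (normalizer (zpowers u : Set G)) = 240) {n54 n144 : ℤ}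
    (h54 : (F.c54 : G → ℂ) u = (n54 : ℂ)) (h144 : (F.c144 : G → ℂ) u = (n144 : ℂ))
    (hn : n54 = -6 ∧ (n144 = -6 ∨ n144 = -1)) : False := by
  classical
  have hG := not_comm hcard
  have hu11 : ¬ 11 ∣ orderOf u := by rw [hu]; norm_num
  have hBu := F.B_int hu11
  have h45 : (F.c45 : G → ℂ) u = ((0 : ℤ) : ℂ) := by
    rw [five_zero hcard _ (by rw [F.d45]; norm_num) (by rw [hu])]; simp
  have h120 : (F.c120 : G → ℂ) u = ((0 : ℤ) : ℂ) := by
    rw [five_zero hcard _ (by rw [F.d120]; norm_num) (by rw [hu])]; simp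
  have hθ : (F.θ : G → ℂ) u = ((1 - n54 + n144 : ℤ) : ℂ) := by
    rw [← F.rel u hu11, h45, h120, h54, h144]; push_cast; ring
  have hθ' : (F.θ' : G → ℂ) u = ((1 - n54 + n144 : ℤ) : ℂ) := (F.same u hu11).trans hθ
  rcases hn.2 with hb | hb
  swap
  · obtain ⟨z, hz, hz192⟩ := exists_192 hcard F
    have hne : ¬ IsConj u z := fun h => by
      obtain ⟨g, hg⟩ := isConj_iff.1 h
      have := MulEquiv.orderOf_eq (MulAut.conj g) u
      rw [show MulAut.conj g u = z from hg, hu, hz] at this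
      norm_num at this
    have h := F.cauchy hne (iv u) (iv z) hBu fun χ _ => iv_spec hG hz χ
    rcases F.inv_tab hcard hz with ⟨-, a, b, c, d, e, e'⟩ | ⟨hc, -⟩
    · simp only [F.sum_B, iv_triv, a, b, c, d, e, e', iv_eq h45, iv_eq h54, iv_eq h120, iv_eq h144,
        iv_eq hθ, iv_eq hθ', hn.1, hb, hk, hz192] at h
      norm_num at h
    · rcases hc with e | e <;> omega
  obtain ⟨t, ht, hut, S, hS, hSN, hSt⟩ := exists_central_inv (u := u) (hk ▸ by norm_num) (a := 4)
    (by rw [hN]; norm_num)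
  obtain ⟨h5t, hct⟩ := cen_inv_five hcard F hu ht hut
  set H := centralizer ({t} : Set G) with hH
  have h16 : 16 ∣ Nat.card H := by have := card_dvd_of_le hSt; rwa [hS] at this
  have hH240 : Nat.card H = 240 := by
    rcases hct with e | e
    · rw [show Nat.card H = cen t from rfl, e] at h16; norm_num at h16
    · exact e
  have huH : u ∈ H := mem_centralizer_singleton_iff.2 hut.eq
  obtain ⟨m, hm, hm5⟩ := conj_count_mod hu (not_twentyfive hcard) H huH
  set N := normalizer (zpowers u : Set G)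
  have hd1 : 16 ∣ Nat.card (N ⊓ H : Subgroup G) := by
    have := card_dvd_of_le (le_inf hSN hSt); rwa [hS] at this
  have hd2 : 5 ∣ Nat.card (N ⊓ H : Subgroup G) := by
    have := orderOf_dvd_natCard (⟨u, mem_inf.2 ⟨le_normalizer (mem_zpowers u), huH⟩⟩ :
      (N ⊓ H : Subgroup G))
    rwa [Subgroup.orderOf_mk, hu] at this
  obtain ⟨c, hc⟩ : 80 ∣ Nat.card (N ⊓ H : Subgroup G) :=
    Nat.Coprime.mul_dvd_of_dvd_of_dvd (by norm_num : Nat.Coprime 16 5) hd1 hd2
  rw [hc, hH240] at hm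
  have hmc : m * c = 3 := by nlinarith
  have hm1 : m = 1 := by
    rcases (Nat.dvd_prime Nat.prime_three).1 (Dvd.intro c hmc) with e | e
    · exact e
    · rw [e] at hm5; norm_num at hm5
  have hNH : N ≤ H := by
    have := eq_of_le_of_card_ge (inf_le_left : N ⊓ H ≤ N) (by rw [hN, hc]; subst hm1; omega)
    rw [← this]; exact inf_le_right
  obtain ⟨⟨r, hrm⟩, hro⟩ := exists_prime_orderOf_dvd_card' (G := centralizer ({u} : Set G)) 3
    (show 3 ∣ cen u by rw [hk]; norm_num)
  rw [Subgroup.orderOf_mk] at hro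
  have hru : Commute r u := mem_centralizer_singleton_iff.1 hrm
  have hrt : Commute r t := mem_centralizer_singleton_iff.1
    (hNH ((centralizer_le_normalizer _) (by
      rw [zpowers_eq_closure, centralizer_closure]; exact hrm)))
  set w := u * t with hw
  have hwo : orderOf w = 10 := by
    rw [hw, hut.orderOf_mul_eq_mul_orderOf_of_coprime (by rw [hu, ht]; norm_num), hu, ht]
  have hw11 : ¬ 11 ∣ orderOf w := by rw [hwo]; norm_num
  obtain ⟨p, hp⟩ := F.int54 w
  obtain ⟨q, hq⟩ := F.int144 w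
  have w45 : (F.c45 : G → ℂ) w = ((0 : ℤ) : ℂ) := by
    rw [five_zero hcard _ (by rw [F.d45]; norm_num) (by rw [hwo]; norm_num)]; simp
  have w120 : (F.c120 : G → ℂ) w = ((0 : ℤ) : ℂ) := by
    rw [five_zero hcard _ (by rw [F.d120]; norm_num) (by rw [hwo]; norm_num)]; simp
  have wθ : (F.θ : G → ℂ) w = ((1 - p + q : ℤ) : ℂ) := by
    rw [← F.rel w hw11, w45, w120, hp, hq]; push_cast; ring
  have wθ' : (F.θ' : G → ℂ) w = ((1 - p + q : ℤ) : ℂ) := (F.same w hw11).trans wθ
  obtain ⟨M5, hM5⟩ := BlockCharsA.DefectZeroVanish.exists_modular (p := 5) (by norm_num)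
  obtain ⟨M2, hM2⟩ := BlockCharsA.DefectZeroVanish.exists_modular (p := 2) Nat.prime_two
  have hc5 : ∀ (χ : Cfsg.IrrCharacter G) (a : ℤ), (χ : G → ℂ) w = (a : ℂ) → (5 : ℤ) ∣ a - iv t χ :=
    fun χ a ha => cong_int hM5 χ hut (k := 1) (by rw [pow_one, ← hu, pow_orderOf_eq_one])
      (by rw [ht]; norm_num) ha (iv_spec hG ht χ)
  have hc2 : ∀ (χ : Cfsg.IrrCharacter G) (a b : ℤ), (χ : G → ℂ) w = (a : ℂ) →
      (χ : G → ℂ) u = (b : ℂ) → (2 : ℤ) ∣ a - b :=
    fun χ a b ha hb => cong_int hM2 χ hut.symm (k := 1) (by rw [pow_one, ← ht, pow_orderOf_eq_one])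
      (by rw [hu]; norm_num) (by rw [← hut.eq]; exact ha) hb
  obtain ⟨-, t45, t54, t120, t144, tθ, tθ'⟩ := F.inv_five hcard ht h5t
  have c1 := hc5 _ _ hp
  have c2 := hc5 _ _ hq
  have c3 := hc5 _ _ wθ
  rw [t54] at c1; rw [tθ] at c3
  have d1 := hc2 _ _ _ hp h54
  have d2 := hc2 _ _ _ hq h144
  have d3 := hc2 _ _ _ wθ hθ
  have h3 := three_dvd_val hcard F hro (show Commute r w from hru.mul_right hrt)
    (by rw [hwo]; norm_num) hp
  have hcw : cen w ≤ 120 := by
    rw [← hk]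
    refine Nat.le_of_dvd Nat.card_pos (card_dvd_of_le fun y hy => ?_)
    have hyw : Commute y w := mem_centralizer_singleton_iff.1 hy
    have : w ^ 6 = u := by
      rw [hw, hut.mul_pow, show u ^ 6 = u ^ 5 * u from pow_succ u 5, ← hu, pow_orderOf_eq_one,
        show t ^ 6 = (t ^ 2) ^ 3 from pow_mul t 2 3, ← ht, pow_orderOf_eq_one, one_pow, one_mul, mul_one]
    exact mem_centralizer_singleton_iff.2 (this ▸ (hyw.pow_right 6))
  have hBw := F.B_int hw11
  have hne : ¬ IsConj u w := fun h => by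
    obtain ⟨g, hg⟩ := isConj_iff.1 h
    have := MulEquiv.orderOf_eq (MulAut.conj g) u
    rw [show MulAut.conj g u = w from hg, hu, hwo] at this
    norm_num at this
  have hwn := F.norm_R_nonneg w (iv w) hBw
  have h := F.cauchy hne (iv u) (iv w) hBu hBw
  simp only [F.sum_B, iv_triv, iv_eq w45, iv_eq hp, iv_eq w120, iv_eq hq, iv_eq wθ, iv_eq wθ',
    iv_eq h45, iv_eq h54, iv_eq h120, iv_eq h144, iv_eq hθ, iv_eq hθ', hn.1, hb, hk] at h hwn
  push_cast at h
  ring_nf at h hwn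
  have hps : p * p ≤ 144 := by nlinarith [sq_nonneg q, sq_nonneg (1 - p + q)]
  have hqs : q * q ≤ 144 := by nlinarith [sq_nonneg p, sq_nonneg (1 - p + q)]
  have hs := scan_w (iv t F.c144) (by rcases t144 with e | e <;> simp [e]) p (mem_small hps) q
    (mem_small hqs) (by omega) (by omega) (by omega) (by omega) (by omega) (by omega) (by omega)
    (by ring_nf; linarith)
  ring_nf at hs
  nlinarith

end Cfsg.Agent.M12Order
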